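import Cfsg.Agent.DA7.Defs

/-! A coordinate model of `T₀ = ⟨a₁, a₂, t, f⟩`. -/

set_option autoImplicit false

namespace Cfsg.Agent.DIH.V7.BM

open Subgroup H49
open H42 (SylIn)

/-- The model of `T₀`; the parameter `e` records whether `f² = t`. -/
@[ext] structure Md (e : Bool) where
  i : Bool
  j : Bool
  k : Bool
  l : Bool
  m : Bool
deriving DecidableEq

variable {e : Bool}

instance decAll (p : Md e → Prop) [DecidablePred p] : Decidable (∀ v, p v) :=
  decidable_of_iff (∀ i j k l m, p ⟨i, j, k, l, m⟩) ⟨fun h ⟨i, j, k, l, m⟩ => h i j k l m, fun h _ _ _ _ _ => h _⟩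

instance decEx (p : Md e → Prop) [DecidablePred p] : Decidable (∃ v, p v) :=
  decidable_of_iff (∃ i j k l m, p ⟨i, j, k, l, m⟩)
    ⟨fun ⟨_, _, _, _, _, h⟩ => ⟨_, h⟩, fun ⟨⟨i, j, k, l, m⟩, h⟩ => ⟨i, j, k, l, m, h⟩⟩

instance : Mul (Md e) :=
  ⟨fun u v => ⟨xor u.i v.i, xor u.j v.j, xor (xor u.k v.k) (u.j && v.i), xor (xor u.l v.l) (e && u.m && v.m), xor u.m v.m⟩⟩

instance : One (Md e) := ⟨⟨false, false, false, false, false⟩⟩

instance : Inv (Md e) := ⟨fun u => ⟨u.i, u.j, xor u.k (u.j && u.i), xor u.l (e && u.m), u.m⟩⟩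

theorem as1 : ∀ k k' k'' j j' i' i'' : Bool, xor (xor (xor (xor k k') (j && i')) k'') (xor j j' && i'') =
    xor (xor k (xor (xor k' k'') (j' && i''))) (j && xor i' i'') := by decide

theorem as2 : ∀ e l l' l'' m m' m'' : Bool, xor (xor (xor (xor l l') (e && m && m')) l'') (e && xor m m' && m'') =
    xor (xor l (xor (xor l' l'') (e && m' && m''))) (e && m && xor m' m'') := by decide

instance : Group (Md e) := Group.ofLeftAxioms
  (fun _ _ _ => Md.ext (Bool.xor_assoc ..) (Bool.xor_assoc ..) (as1 ..) (as2 ..) (Bool.xor_assoc ..))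
  (by revert e; decide) (by revert e; decide)

/-- Coordinates. -/
def eqv (e : Bool) : Md e ≃ Bool × Bool × Bool × Bool × Bool :=
  ⟨fun v => (v.i, v.j, v.k, v.l, v.m), fun v => ⟨v.1, v.2.1, v.2.2.1, v.2.2.2.1, v.2.2.2.2⟩, fun _ => rfl, fun _ => rfl⟩

instance : Finite (Md e) := Finite.of_equiv _ (eqv e).symm

theorem card_Md : Nat.card (Md e) = 32 := by rw [Nat.card_congr (eqv e)]; simp

/-- All elements. -/
def all (e : Bool) : List (Md e) :=
  [false, true].flatMap fun i => [false, true].flatMap fun j => [false, true].flatMap fun k =>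
    [false, true].flatMap fun l => [false, true].map fun m => ⟨i, j, k, l, m⟩

theorem mem_all : ∀ v, v ∈ all e := by revert e; decide

def A1 : Md e := ⟨true, false, false, false, false⟩
def A2 : Md e := ⟨false, true, false, false, false⟩
def Z : Md e := ⟨false, false, true, false, false⟩
def Tt : Md e := ⟨false, false, false, true, false⟩
def Ff : Md e := ⟨false, false, false, false, true⟩

/-- The action of an element interchanging the two sides. -/
def al (p q r : Bool) (v : Md e) : Md e :=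
  pw v.i (A2 * pw p Z) * pw v.j (A1 * pw q Z) * pw v.k Z * pw v.l Tt * pw v.m (Ff * Z * pw r Tt)

theorem Z_eq : (Z : Md e) = A1 * A2 * (A1 * A2) := by revert e; decide

theorem Z_eq' : ∀ p q, A2 * pw p Z * (A1 * pw q Z) * (A2 * pw p Z * (A1 * pw q Z)) = (Z : Md e) := by revert e; decide

variable {G : Type*} [Group G] {F O K T C0 : Subgroup G} {t z a1 a2 f : G}

theorem pw_mem {H : Subgroup G} {x : G} (h : x ∈ H) (b : Bool) : pw b x ∈ H := by
  cases b
  exacts [one_mem H, h]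

theorem pw_comm {x y : G} (h : Commute x y) (b : Bool) : Commute (pw b x) y := by
  cases b
  exacts [Commute.one_left y, h]

theorem pw_mul {x : G} (h : x * x = 1) (b c : Bool) : pw b x * pw c x = pw (xor b c) x := by
  cases b <;> cases c <;> simp [pw, h]

theorem pw_conj (g x : G) (b : Bool) : g * pw b x * g⁻¹ = pw b (g * x * g⁻¹) := by
  cases b <;> simp [pw]

theorem pw_map {H : Type*} [Group H] (φ : H →* G) (x : H) (b : Bool) : φ (pw b x) = pw b (φ x) := by
  cases b <;> simp [pw]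

/-- The relations of `T₀`. -/
structure Rel (t z a1 a2 f : G) (e : Bool) : Prop extends D8 z a1 a2 where
  t2 : t * t = 1
  ta1 : Commute t a1
  ta2 : Commute t a2
  tf : Commute t f
  fa1 : Commute f a1
  fa2 : Commute f a2
  ff : f * f = pw e t

theorem z_eq (d : D8 z a1 a2) : z = a2⁻¹ * a1⁻¹ * a2 * a1 := by
  rw [mul_assoc, d.r]; group

theorem comm_z (d : D8 z a1 a2) {x : G} (h1 : Commute x a1) (h2 : Commute x a2) : Commute x z :=
  z_eq d ▸ ((h2.inv_right.mul_right h1.inv_right).mul_right h2).mul_right h1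

theorem z_mem (d : D8 z a1 a2) {H : Subgroup G} (h1 : a1 ∈ H) (h2 : a2 ∈ H) : z ∈ H :=
  z_eq d ▸ mul_mem (mul_mem (mul_mem (inv_mem h2) (inv_mem h1)) h2) h1

/-- Evaluation. -/
def ev (t z a1 a2 f : G) (v : Md e) : G := pw v.i a1 * pw v.j a2 * pw v.k z * pw v.l t * pw v.m f

theorem Rel.ev_mul (h : Rel t z a1 a2 f e) (u v : Md e) :
    ev t z a1 a2 f (u * v) = ev t z a1 a2 f u * ev t z a1 a2 f v := by
  obtain ⟨i, j, k, l, m⟩ := u
  obtain ⟨i', j', k', l', m'⟩ := v
  have tz := comm_z h.toD8 h.ta1 h.ta2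
  have fz := comm_z h.toD8 h.fa1 h.fa2
  have c : ∀ {x y : G}, Commute x y → ∀ b c, Commute (pw b x) (pw c y) := fun h b c =>
    pw_comm (pw_comm h.symm c).symm b
  have d1 : pw i a1 * pw j a2 * (pw i' a1 * pw j' a2) = pw (xor i i') a1 * pw (xor j j') a2 * pw (j && i') z := by
    have : pw j a2 * pw i' a1 = pw i' a1 * pw j a2 * pw (j && i') z := by
      cases j <;> cases i' <;> simp [pw, h.r]
    rw [← pw_mul h.s1, ← pw_mul h.s2, mul_assoc, ← mul_assoc (pw j a2), this, mul_assoc _ (pw _ z),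
      (c (show Commute z a2 from h.c2) _ _).eq]
    simp only [mul_assoc]
  have d2 : pw m f * pw m' f = pw (e && m && m') t * pw (xor m m') f := by
    cases m <;> cases m' <;> simp [pw, h.ff]
  have d3 : Commute (pw k z * pw l t * pw m f) (pw i' a1 * pw j' a2) :=
    ((((c h.c1 _ _).mul_right (c h.c2 _ _)).mul_left ((c h.ta1 _ _).mul_right (c h.ta2 _ _))).mul_left
      ((c h.fa1 _ _).mul_right (c h.fa2 _ _)))
  have d4 : Commute (pw l t * pw m f) (pw k' z) := (c tz _ _).mul_left (c fz _ _)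
  show pw (xor i i') a1 * pw (xor j j') a2 * pw (xor (xor k k') (j && i')) z * pw (xor (xor l l') (e && m && m')) t *
    pw (xor m m') f = pw i a1 * pw j a2 * pw k z * pw l t * pw m f * (pw i' a1 * pw j' a2 * pw k' z * pw l' t * pw m' f)
  symm
  calc _ = pw i a1 * pw j a2 * (pw k z * pw l t * pw m f * (pw i' a1 * pw j' a2)) * (pw k' z * pw l' t * pw m' f) := by
        simp only [mul_assoc]
    _ = pw i a1 * pw j a2 * (pw i' a1 * pw j' a2) * pw k z * (pw l t * pw m f * pw k' z) * (pw l' t * pw m' f) := by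
        rw [d3.eq]; simp only [mul_assoc]
    _ = pw (xor i i') a1 * pw (xor j j') a2 * (pw (j && i') z * (pw k z * pw k' z)) * pw l t *
          (pw m f * pw l' t) * pw m' f := by rw [d4.eq, d1]; simp only [mul_assoc]
    _ = pw (xor i i') a1 * pw (xor j j') a2 * (pw (j && i') z * (pw k z * pw k' z)) * (pw l t * pw l' t) *
          (pw m f * pw m' f) := by rw [← (c h.tf _ _).eq]; simp only [mul_assoc]
    _ = _ := by
        rw [d2, pw_mul h.z2, pw_mul h.z2, pw_mul h.t2, Bool.xor_comm (j && i'), ← pw_mul h.t2 (xor l l')]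
        simp only [mul_assoc]

/-- `φ` identifies the model with `T₀`. -/
structure Em (t z a1 a2 f : G) (φ : Md e →* G) : Prop where
  app : ∀ v, φ v = pw v.i a1 * pw v.j a2 * pw v.k z * pw v.l t * pw v.m f
  inj : Function.Injective φ
  range : φ.range = TT t a1 a2 f

theorem rel_of (h : CW F O K T C0 t z a1 a2 f) (ff : f * f = pw e t) : Rel t z a1 a2 f e :=
  { h.toB0.toHL.toD8 with
    t2 := h.t2
    ta1 := (mem_cent1.1 (h.sylT.le h.a1T)).symm
    ta2 := (mem_cent1.1 (h.sylT.le h.a2T)).symm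
    tf := (mem_cent1.1 (h.sylT.le h.fT)).symm
    fa1 := h.fa1
    fa2 := h.fa2
    ff := ff }

theorem exists_em (h : CW F O K T C0 t z a1 a2 f) (ff : f * f = pw e t) : ∃ φ : Md e →* G, Em t z a1 a2 f φ := by
  let φ : Md e →* G := MonoidHom.mk' (ev t z a1 a2 f) (rel_of h ff).ev_mul
  have hr : φ.range = TT t a1 a2 f := by
    refine le_antisymm ?_ ((closure_le _).2 ?_)
    · rintro _ ⟨v, rfl⟩
      have h1 : a1 ∈ TT t a1 a2 f := subset_closure (by simp)
      have h2 : a2 ∈ TT t a1 a2 f := subset_closure (by simp)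
      exact mul_mem (mul_mem (mul_mem (mul_mem (pw_mem h1 _) (pw_mem h2 _)) (pw_mem (z_mem h.toB0.toHL.toD8 h1 h2) _))
        (pw_mem (subset_closure (by simp)) _)) (pw_mem (subset_closure (by simp)) _)
    · rintro x (rfl | rfl | rfl | rfl)
      exacts [⟨A1, by simp [φ, ev, pw, A1]⟩, ⟨A2, by simp [φ, ev, pw, A2]⟩, ⟨Tt, by simp [φ, ev, pw, Tt]⟩,
        ⟨Ff, by simp [φ, ev, pw, Ff]⟩]
  refine ⟨φ, fun _ => rfl, ?_, hr⟩
  have := (φ.rangeRestrict_surjective.bijective_of_nat_card_le (by rw [hr, h.cardT0, card_Md])).1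
  exact fun u v k => this (Subtype.ext k)

theorem exists_e (f2 : f * f = 1 ∨ f * f = t) : ∃ e, f * f = pw e t := f2.elim (⟨false, ·⟩) (⟨true, ·⟩)

namespace Em

variable {φ : Md e →* G} (h : Em t z a1 a2 f φ)
include h

theorem A1 : φ A1 = a1 := by simp [h.app, pw, BM.A1]
theorem A2 : φ A2 = a2 := by simp [h.app, pw, BM.A2]
theorem Z : φ Z = z := by simp [h.app, pw, BM.Z]
theorem Tt : φ Tt = t := by simp [h.app, pw, BM.Tt]
theorem Ff : φ Ff = f := by simp [h.app, pw, BM.Ff]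

theorem mem (v : Md e) : φ v ∈ TT t a1 a2 f := h.range ▸ ⟨v, rfl⟩

theorem ex {y : G} (hy : y ∈ TT t a1 a2 f) : ∃ v, φ v = y := h.range.ge hy

theorem card_le {U : Subgroup G} (hU : U ≤ TT t a1 a2 f) (P : Md e → Bool) (hP : ∀ v, φ v ∈ U → P v = true) :
    Nat.card U ≤ ((all e).filter P).length := by
  classical
  rw [← SetLike.coe_sort_coe, Nat.card_coe_set_eq]
  refine (Set.ncard_le_ncard (t := φ '' ((all e).filter P).toFinset) (fun x hx => ?_)).trans
    ((Set.ncard_image_le).trans (by rw [Set.ncard_coe_finset]; exact List.toFinset_card_le _))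
  obtain ⟨v, rfl⟩ := h.ex (hU hx)
  exact ⟨v, by simpa [mem_all] using hP v hx, rfl⟩

/-- The conjugation action of an element interchanging the two sides. -/
theorem swap {g : G} (gt : g * t = t * g) (s : Swap t z a1 a2 f g) :
    ∃ p q r, ∀ v, g * φ v * g⁻¹ = φ (al p q r v) := by
  obtain ⟨p, hp⟩ : ∃ p, g * a1 * g⁻¹ = a2 * pw p z := s.1.elim (⟨false, by simpa [pw] using ·⟩) (⟨true, ·⟩)
  obtain ⟨q, hq⟩ : ∃ q, g * a2 * g⁻¹ = a1 * pw q z := s.2.1.elim (⟨false, by simpa [pw] using ·⟩) (⟨true, ·⟩)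
  obtain ⟨r, hr⟩ : ∃ r, g * f * g⁻¹ = f * z * pw r t := s.2.2.elim (⟨false, by simpa [pw] using ·⟩) (⟨true, ·⟩)
  have hp' : g * a1 * g⁻¹ = φ (BM.A2 * pw p BM.Z) := by rw [hp, map_mul, pw_map, h.A2, h.Z]
  have hq' : g * a2 * g⁻¹ = φ (BM.A1 * pw q BM.Z) := by rw [hq, map_mul, pw_map, h.A1, h.Z]
  have hz : g * z * g⁻¹ = z := by
    rw [← h.Z]
    conv_lhs => rw [Z_eq, map_mul, map_mul, ← conj_mul, ← conj_mul, h.A1, h.A2, hp', hq', ← map_mul, ← map_mul, Z_eq']
  refine ⟨p, q, r, fun v => ?_⟩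
  rw [h.app, ← conj_mul, ← conj_mul, ← conj_mul, ← conj_mul]
  simp only [pw_conj]
  rw [hp', hq', hz, gt, mul_inv_cancel_right, hr]
  simp only [al, map_mul, pw_map, h.Z, h.Tt, h.Ff]

end Em

end Cfsg.Agent.DIH.V7.BM
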