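import Cfsg.Agent.DA7.Defs
import Cfsg.Agent.DA7.SRk
import Cfsg.Agent.DA7.BasM
import Cfsg.Agent.DIH.BasT
import Cfsg.Agent.TE.Tools

/-! Basic lemmas: Sylow arguments, transfer, and the structure of `T`. -/

set_option autoImplicit false
set_option linter.unusedSectionVars false

namespace Cfsg.Agent.DIH.V7

open Subgroup H49
open H42 (SylIn)
open scoped commutatorElement

variable {G : Type*} [Group G] [Finite G] {F O K T C0 P P1 P2 S : Subgroup G}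
  {t z a a' a1 a2 f : G}

namespace BM

theorem isP_inv {x : G} (x2 : x * x = 1) : IsPGroup 2 (zpowers x) := IsPGroup.of_card_dvd_pow (n := 1) (by
  rw [Nat.card_zpowers, orderOf_dvd_iff_pow_eq_one, pow_one, pow_two, x2])

theorem mem_of_odd {N : Subgroup G} {x : G} (ho : Odd (orderOf x)) (h2 : x * x ∈ N) : x ∈ N := by
  obtain ⟨k, hk⟩ := ho
  have h : x ^ (2 * k + 1) ∈ N := by rw [← hk, pow_orderOf_eq_one]; exact one_mem N
  rwa [pow_succ, pow_mul, pow_two, mul_mem_cancel_left (pow_mem h2 k)] at h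

theorem exists_sq_mem {N : Subgroup G} {y : G} (n : ℕ) (h : y ^ 2 ^ n ∈ N) (hy : y ∉ N) :
    ∃ k : ℕ, y ^ k ∉ N ∧ y ^ k * y ^ k ∈ N := by
  induction n with
  | zero => exact absurd (by simpa using h) hy
  | succ n ih =>
    by_cases c : y ^ 2 ^ n ∈ N
    · exact ih c
    · exact ⟨_, c, by rwa [← pow_two, ← pow_mul, ← pow_succ]⟩

theorem le_comm (h : GH F t) : F ≤ commutator G := by
  have := h.simp
  rcases (inferInstance : (commutator F).Normal).eq_bot_or_eq_top with e | e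
  · refine absurd ⟨⟨fun x y => ?_⟩⟩ h.nab
    exact commutatorElement_eq_one_iff_mul_comm.1
      (mem_bot.1 (e ▸ commutator_mem_commutator (mem_top x) (mem_top y) : ⁅x, y⁆ ∈ ⊥))
  · intro x hx
    have : (commutator F).map F.subtype ≤ commutator G := by
      rw [_root_.commutator_def, map_commutator]; exact commutator_mono le_top le_top
    exact this ⟨⟨x, hx⟩, e ▸ mem_top _, rfl⟩

end BM

theorem B0.CS (h : B0 F O K T t z a1 a2) (hS : IsPGroup 2 S) (hT : T ≤ S) : S ⊓ 𝒞[t] = T :=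
  h.sylT.eq_of_le hS.to_inf_left inf_le_right (le_inf hT h.sylT.le)

theorem B0.tT (h : B0 F O K T t z a1 a2) : t ∈ T := by
  have := h.sylT.eq_of_le (h.sylT.isP.to_sup_of_normal_left' (BM.isP_inv h.t2)
    (zpowers_le.2 (cent_le_norm T (le_cent1_iff.1 h.sylT.le)))) (sup_le h.sylT.le (zpowers_le.2 (self_mem_cent1 t)))
    le_sup_left
  exact this.le (mem_sup_right (mem_zpowers t))

theorem B0.emb (h : B0 F O K T t z a1 a2) {R : Subgroup G} {s : G} (hs : IsConj t s) (hR : IsPGroup 2 R)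
    (hc : R ≤ 𝒞[s]) : ∃ k : G, k * s * k⁻¹ = t ∧ cj k R ≤ T := by
  obtain ⟨g, rfl⟩ := isConj_iff.1 hs
  obtain ⟨c, hc', e⟩ := h.sylT.exists_conj (R := cj g⁻¹ R) (isPGroup_cj.2 hR) (by rwa [cj_le_iff, inv_inv, cj_cent1])
  refine ⟨c * g⁻¹, ?_, ?_⟩
  · calc _ = c * t * c⁻¹ := by group
      _ = t := by rw [mem_cent1.1 hc', mul_inv_cancel_right]
  · rw [cj_mul]
    intro x hx
    obtain ⟨y, hy, rfl⟩ := mem_cj'.1 hx
    exact e y hy

theorem B0.syl_of (h : B0 F O K T t z a1 a2) (hP : IsPGroup 2 P) (hT : T ≤ P)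
    (hx : ∀ x ∈ 𝒩(P), x * x ∈ P → ∃ p ∈ P, x * t * x⁻¹ = p * t * p⁻¹) : SylIn 2 P ⊤ := by
  obtain ⟨S, hS, hle⟩ := H42.exists_sylIn hP le_top
  rcases hle.eq_or_lt with e | hlt
  · exact e ▸ hS
  exfalso
  obtain ⟨y, hy, hy'⟩ := SetLike.exists_of_lt (H42.lt_inf_normalizer hS.isP hlt)
  obtain ⟨n, hn⟩ := hS.isP ⟨y, hy.1⟩
  obtain ⟨k, k1, k2⟩ := BM.exists_sq_mem n (by rw [show y ^ 2 ^ n = 1 from congrArg Subtype.val hn]; exact one_mem P) hy'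
  obtain ⟨p, hp, e⟩ := hx _ (pow_mem hy.2 k) k2
  have hm : p⁻¹ * y ^ k ∈ S := mul_mem (inv_mem (hle hp)) (pow_mem hy.1 k)
  refine k1 ((mul_mem_cancel_left (inv_mem hp)).1 (hT ((h.CS hS.isP (hT.trans hle)).le ⟨hm, mem_cent1.2 ?_⟩)))
  calc _ = p⁻¹ * (y ^ k * t * (y ^ k)⁻¹) * y ^ k := by group
    _ = _ := by rw [e]; group

theorem B0.oddF (h : B0 F O K T t z a1 a2) {ρ : G} (hρ : Odd (orderOf ρ)) : ρ ∈ F := by
  refine BM.mem_of_odd hρ ?_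
  rcases h.gen ρ with a | a
  · exact mul_mem a a
  rcases h.gen ρ⁻¹ with b | b
  · exact mul_mem (inv_mem_iff.1 b) (inv_mem_iff.1 b)
  · simpa [mul_assoc] using mul_mem a (inv_mem b)

theorem GH.top (h : GH F t) (ht : t ∈ F) : F = ⊤ :=
  eq_top_iff.2 fun g _ => (h.gen g).elim id fun a => (mul_mem_cancel_right ht).1 a

theorem GH.noI2 (h : GH F t) (ht : t ∈ F) (N : Subgroup G) : N.index ≠ 2 := fun e => by
  obtain rfl := h.top ht
  have := h.simp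
  have : IsSimpleGroup G := topEquiv.symm.isSimpleGroup
  rcases (normal_of_index_eq_two e).eq_bot_or_eq_top with rfl | rfl
  · rw [index_bot] at e
    have := isCyclic_of_prime_card e
    exact h.nab inferInstance
  · rw [index_top] at e
    exact absurd e (by decide)

/-- transfer into a cyclic quotient `S/M = ⟨r⟩M/M` -/
theorem GH.trc (h : GH F t) (hS : SylIn 2 S ⊤) {M R : Subgroup G} (hM : M ≤ S) (hn : S ≤ 𝒩(M))
    {r : G} (hr : S = M ⊔ zpowers r) {y : G} (hy : y ∈ F) (y2 : y * y = 1)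
    (hyS : y ∈ S) (hyM : y ∉ M) (hR : IsPGroup 2 R) (hc : R ≤ 𝒞[y]) :
    ∃ g : G, g * y * g⁻¹ ∈ M ∧ cj g R ≤ S := by
  have := normal_subgroupOf hn
  have rS : r ∈ S := hr.ge (mem_sup_right (mem_zpowers r))
  obtain ⟨g, h1, h2⟩ := BM.transfer_cyc S M (by simpa using hS.ndvd) hM ⟨⟨QuotientGroup.mk ⟨r, rS⟩, fun q => by
    obtain ⟨⟨s, hs⟩, rfl⟩ := QuotientGroup.mk_surjective q
    obtain ⟨_, ⟨n, rfl⟩, m, hm, rfl⟩ := H42.exists_mul_of_mem_sup (zpowers_le.2 (hn rS))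
      (sup_comm M _ ▸ hr.le hs)
    refine ⟨n, ?_⟩
    show (QuotientGroup.mk ⟨r, rS⟩ : S ⧸ M.subgroupOf S) ^ n = _
    rw [← QuotientGroup.mk_zpow, QuotientGroup.eq]
    show (r ^ n)⁻¹ * (r ^ n * m) ∈ M
    rwa [inv_mul_cancel_left]⟩⟩ y (BM.le_comm h hy) y2 hyS hyM R hR hc
  refine ⟨g, h1, fun x hx => ?_⟩
  obtain ⟨y, hy, rfl⟩ := mem_cj'.1 hx
  exact h2 y hy

/-- Thompson transfer with an extremal conjugate, for involutions of `F` -/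
theorem GH.tr (h : GH F t) (hS : SylIn 2 S ⊤) {M R : Subgroup G} (hM : M ≤ S)
    (hi : ∀ x ∈ S, ∀ y ∈ S, x ∉ M → y ∉ M → x * y ∈ M) {y : G} (hy : y ∈ F) (y2 : y * y = 1)
    (hyS : y ∈ S) (hyM : y ∉ M) (hR : IsPGroup 2 R) (hc : R ≤ 𝒞[y]) :
    ∃ g : G, g * y * g⁻¹ ∈ M ∧ cj g R ≤ S := by
  refine h.trc hS hM (le_norm_iff.2 fun x hx m hm => ?_) (r := y)
    (le_antisymm (fun x hx => ?_) (sup_le hM (zpowers_le.2 hyS))) hy y2 hyS hyM hR hc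
  · by_cases c : x ∈ M
    · exact mul_mem (mul_mem c hm) (inv_mem c)
    · exact hi _ (mul_mem hx (hM hm)) _ (inv_mem hx) (by rwa [mul_mem_cancel_right hm]) (by rwa [inv_mem_iff])
  · by_cases c : x ∈ M
    · exact mem_sup_left c
    · exact (mul_mem_cancel_right (mem_sup_right (mem_zpowers y))).1 (mem_sup_left (hi x hx y hyS c hyM))

theorem CW.nf (h : CW F O K T C0 t z a1 a2 f) (f2 : f * f = 1 ∨ f * f = t) {y : G} :
    y ∈ TT t a1 a2 f ↔ ∃ i j k l m : Bool, y = pw i a1 * pw j a2 * pw k z * pw l t * pw m f := by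
  obtain ⟨e, he⟩ := BM.exists_e f2
  obtain ⟨φ, E⟩ := BM.exists_em h he
  refine ⟨fun hy => ?_, fun ⟨i, j, k, l, m, e⟩ => e ▸ E.app ⟨i, j, k, l, m⟩ ▸ E.mem _⟩
  obtain ⟨v, rfl⟩ := E.ex hy
  exact ⟨_, _, _, _, _, E.app v⟩

theorem CW.nf_inj (h : CW F O K T C0 t z a1 a2 f) (f2 : f * f = 1 ∨ f * f = t) {i j k l m i' j' k' l' m' : Bool}
    (e : pw i a1 * pw j a2 * pw k z * pw l t * pw m f = pw i' a1 * pw j' a2 * pw k' z * pw l' t * pw m' f) :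
    i = i' ∧ j = j' ∧ k = k' ∧ l = l' ∧ m = m' := by
  obtain ⟨b, he⟩ := BM.exists_e f2
  obtain ⟨φ, E⟩ := BM.exists_em h he
  simpa using E.inj ((E.app ⟨i, j, k, l, m⟩).trans (e.trans (E.app ⟨i', j', k', l', m'⟩).symm))

namespace BM

theorem T0_le (h : CW F O K T C0 t z a1 a2 f) : TT t a1 a2 f ≤ T := h.TC0 ▸ inf_le_left

theorem mul_out (h : CW F O K T C0 t z a1 a2 f) {x y : G} (hx : x ∈ T) (hy : y ∈ T) (x0 : x ∉ TT t a1 a2 f)
    (y0 : y ∉ TT t a1 a2 f) : x * y ∈ TT t a1 a2 f :=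
  h.TC0.le ⟨mul_mem hx hy, h.C0mul x (h.sylT.le hx) y (h.sylT.le hy) (fun c => x0 (h.TC0.le ⟨hx, c⟩))
    fun c => y0 (h.TC0.le ⟨hy, c⟩)⟩

theorem half (h : CW F O K T C0 t z a1 a2 f) {U : Subgroup G} (hU : U ≤ T) {g : G} (hg : g ∈ U)
    (g0 : g ∉ TT t a1 a2 f) : Nat.card U = Nat.card (U ⊓ TT t a1 a2 f : Subgroup G) * 2 := by
  rw [← H42.card_mul_relIndex (inf_le_left : U ⊓ TT t a1 a2 f ≤ U), inf_relIndex_left]
  congr 1
  refine relIndex_eq_two_iff.2 ⟨g, hg, fun x hx => ?_⟩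
  by_cases c : x ∈ TT t a1 a2 f
  · exact .inr ⟨c, fun k => g0 ((mul_mem_cancel_left c).1 k)⟩
  · exact .inl ⟨mul_out h (hU hx) (hU hg) c g0, c⟩

end BM

theorem CW.cardT (h : CW F O K T C0 t z a1 a2 f) :
    T = TT t a1 a2 f ∨ (Nat.card T = 64 ∧ ∃ g ∈ T, g ∉ TT t a1 a2 f ∧ Swap t z a1 a2 f g) := by
  rcases (BM.T0_le h).eq_or_lt with e | hlt
  · exact .inl e.symm
  obtain ⟨g, hg, g0⟩ := SetLike.exists_of_lt hlt
  exact .inr ⟨by rw [BM.half h le_rfl hg g0, inf_eq_right.2 hlt.le, h.cardT0], g, hg, g0, (h.Tel g hg).resolve_left g0⟩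

namespace BM

variable {e : Bool} {φ : Md e →* G}

theorem act (h : CW F O K T C0 t z a1 a2 f) (E : Em t z a1 a2 f φ) {g : G} (hg : g ∈ T) (g0 : g ∉ TT t a1 a2 f) :
    ∃ p q r, ∀ v, g * φ v * g⁻¹ = φ (al p q r v) :=
  E.swap (mem_cent1.1 (h.sylT.le hg)) ((h.Tel g hg).resolve_left g0)

theorem fix8 : ∀ p q r, ((all e).filter fun v => al p q r v = v).length ≤ 8 := by revert e; decide

theorem fix4 : ∀ p q r, ((all e).filter fun v => al p q r v = v ∧ v * v = 1).length ≤ 4 := by revert e; decide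

/-- an element of `T` outside `T₀` centralizes at most eight elements of `T₀` -/
theorem cent8 (h : CW F O K T C0 t z a1 a2 f) (E : Em t z a1 a2 f φ) {g : G} (hg : g ∈ T) (g0 : g ∉ TT t a1 a2 f)
    {U : Subgroup G} (hU : U ≤ TT t a1 a2 f) (c : ∀ u ∈ U, g * u = u * g) : Nat.card U ≤ 8 := by
  obtain ⟨p, q, r, k⟩ := act h E hg g0
  exact (E.card_le hU _ fun v hv => decide_eq_true (E.inj (by rw [← k, c _ hv, mul_inv_cancel_right]))).trans (fix8 p q r)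

theorem cent4 (h : CW F O K T C0 t z a1 a2 f) (E : Em t z a1 a2 f φ) {g : G} (hg : g ∈ T) (g0 : g ∉ TT t a1 a2 f)
    {U : Subgroup G} (hU : U ≤ TT t a1 a2 f) (c : ∀ u ∈ U, g * u = u * g) (h2 : ∀ u ∈ U, u * u = 1) :
    Nat.card U ≤ 4 := by
  obtain ⟨p, q, r, k⟩ := act h E hg g0
  exact (E.card_le hU _ fun v hv => decide_eq_true ⟨E.inj (by rw [← k, c _ hv, mul_inv_cancel_right]),
    E.inj (by rw [map_mul, h2 _ hv, map_one])⟩).trans (fix4 p q r)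

theorem not_comm (d : D8 z a1 a2) : a2 * a1 ≠ a1 * a2 := fun e => d.z1 (left_eq_mul.1 (e.symm.trans d.r))

theorem a1_T0 : a1 ∈ TT t a1 a2 f := subset_closure (by simp)
theorem a2_T0 : a2 ∈ TT t a1 a2 f := subset_closure (by simp)
theorem t_T0 : t ∈ TT t a1 a2 f := subset_closure (by simp)
theorem f_T0 : f ∈ TT t a1 a2 f := subset_closure (by simp)

/-- abelian subgroups of `T` have order less than 32 -/
theorem ab_lt (h : CW F O K T C0 t z a1 a2 f) (f2 : f * f = 1 ∨ f * f = t) {U : Subgroup G} (hU : U ≤ T)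
    (c : ∀ x ∈ U, ∀ y ∈ U, x * y = y * x) : Nat.card U < 32 := by
  obtain ⟨e, he⟩ := exists_e f2
  obtain ⟨φ, E⟩ := exists_em h he
  by_contra hc
  by_cases k : U ≤ TT t a1 a2 f
  · obtain rfl := eq_of_le_of_card_ge k (by rw [h.cardT0]; omega)
    exact not_comm h.toB0.toHL.toD8 (c _ a2_T0 _ a1_T0)
  · obtain ⟨g, hg, g0⟩ := SetLike.not_le_iff_exists.1 k
    have h1 := half h hU hg g0
    have h2 := cent8 h E (hU hg) g0 (U := U ⊓ TT t a1 a2 f) inf_le_right fun u hu => c g hg u hu.1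
    omega

theorem m1 : ∀ p q r, al p q r A1 * A1⁻¹ * (al p q r A1 * A1⁻¹) = (Z : Md e) := by revert e; decide

/-- the commutator of `a₁` with an element outside `T₀` has order four -/
theorem comm4 (h : CW F O K T C0 t z a1 a2 f) (f2 : f * f = 1 ∨ f * f = t) {g : G} (hg : g ∈ T)
    (g0 : g ∉ TT t a1 a2 f) : g * a1 * g⁻¹ * a1⁻¹ * (g * a1 * g⁻¹ * a1⁻¹) = z := by
  obtain ⟨e, he⟩ := exists_e f2
  obtain ⟨φ, E⟩ := exists_em h he
  obtain ⟨p, q, r, k⟩ := act h E hg g0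
  rw [← E.Z, ← m1 p q r, map_mul, map_mul, map_inv, ← k, E.A1]

theorem m2 : ∀ u v : Md e, u * v * u⁻¹ * v⁻¹ = 1 ∨ u * v * u⁻¹ * v⁻¹ = Z := by revert e; decide

theorem m3 : ∀ p q r, ∀ v : Md e, al p q r v * v⁻¹ * (al p q r v * v⁻¹) = 1 ∨
    al p q r v * v⁻¹ * (al p q r v * v⁻¹) = Z := by revert e; decide

theorem comm0 (E : Em t z a1 a2 f φ) {x y : G} (hx : x ∈ TT t a1 a2 f) (hy : y ∈ TT t a1 a2 f) :
    x * y * x⁻¹ * y⁻¹ = 1 ∨ x * y * x⁻¹ * y⁻¹ = z := by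
  obtain ⟨u, rfl⟩ := E.ex hx
  obtain ⟨v, rfl⟩ := E.ex hy
  rw [← E.Z, ← map_one φ]
  simpa only [← map_inv, ← map_mul, E.inj.eq_iff] using m2 u v

theorem m4 : ∀ p q r, al p q r Z = (Z : Md e) := by revert e; decide

theorem m5 : ∀ v : Md e, v * Z = Z * v := by revert e; decide

theorem z_comm (h : CW F O K T C0 t z a1 a2 f) (E : Em t z a1 a2 f φ) {x : G} (hx : x ∈ T) : x * z = z * x := by
  by_cases c : x ∈ TT t a1 a2 f
  · obtain ⟨v, rfl⟩ := E.ex c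
    rw [← E.Z, ← map_mul, m5, map_mul]
  · obtain ⟨p, q, r, k⟩ := act h E hx c
    rw [← mul_inv_eq_iff_eq_mul, ← E.Z, k, m4]

theorem comm_sq (h : CW F O K T C0 t z a1 a2 f) (E : Em t z a1 a2 f φ) {x y : G} (hx : x ∈ T) (hy : y ∈ T) :
    x * y * x⁻¹ * y⁻¹ * (x * y * x⁻¹ * y⁻¹) = 1 ∨ x * y * x⁻¹ * y⁻¹ * (x * y * x⁻¹ * y⁻¹) = z := by
  have k1 : ∀ x ∈ T, ∀ y ∈ TT t a1 a2 f,
      x * y * x⁻¹ * y⁻¹ * (x * y * x⁻¹ * y⁻¹) = 1 ∨ x * y * x⁻¹ * y⁻¹ * (x * y * x⁻¹ * y⁻¹) = z := fun x hx y hy => by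
    by_cases c : x ∈ TT t a1 a2 f
    · rcases comm0 E c hy with e | e <;> rw [e]
      exacts [.inl (one_mul 1), .inl h.z2]
    · obtain ⟨p, q, r, k⟩ := act h E hx c
      obtain ⟨v, rfl⟩ := E.ex hy
      rw [k, ← E.Z, ← map_one φ]
      simpa only [← map_inv, ← map_mul, E.inj.eq_iff] using m3 p q r v
  by_cases c : y ∈ TT t a1 a2 f
  · exact k1 x hx y c
  by_cases d : x ∈ TT t a1 a2 f
  · rw [show x * y * x⁻¹ * y⁻¹ * (x * y * x⁻¹ * y⁻¹) = (y * x * y⁻¹ * x⁻¹ * (y * x * y⁻¹ * x⁻¹))⁻¹ by group]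
    rcases k1 y hy x d with e | e <;> rw [e]
    exacts [.inl inv_one, .inr (inv_eq_of_mul_eq_one_left h.z2)]
  · rw [show x * y * x⁻¹ * y⁻¹ * (x * y * x⁻¹ * y⁻¹) = x * (x * (x⁻¹ * y) * x⁻¹ * (x⁻¹ * y)⁻¹ *
      (x * (x⁻¹ * y) * x⁻¹ * (x⁻¹ * y)⁻¹)) * x⁻¹ by group]
    rcases k1 x hx _ (mul_out h (inv_mem hx) hy (by rwa [inv_mem_iff]) c) with e | e <;> rw [e]
    exacts [.inl (by group), .inr (by rw [z_comm h E hx, mul_inv_cancel_right])]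

/-- the normalizer of `T` centralizes `z` -/
theorem norm_z (h : CW F O K T C0 t z a1 a2 f) (f2 : f * f = 1 ∨ f * f = t) {n : G} (hn : n ∈ 𝒩(T)) :
    n * z = z * n := by
  obtain ⟨e, he⟩ := exists_e f2
  obtain ⟨φ, E⟩ := exists_em h he
  have c : ∀ x ∈ T, n * x * n⁻¹ ∈ T := fun x hx => (mem_normalizer_iff.1 hn x).1 hx
  have n1 : n * z * n⁻¹ ≠ 1 := fun e => h.z1 (conj_eq_one_iff.1 e)
  rw [← mul_inv_eq_iff_eq_mul]
  rcases h.cardT with e | ⟨-, g, hg, g0, -⟩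
  · have := comm0 E (e.le (c _ (inv_mem h.a2T))) (e.le (c _ (inv_mem h.a1T)))
    rw [show n * a2⁻¹ * n⁻¹ * (n * a1⁻¹ * n⁻¹) * (n * a2⁻¹ * n⁻¹)⁻¹ * (n * a1⁻¹ * n⁻¹)⁻¹ =
      n * (a2⁻¹ * a1⁻¹ * a2 * a1) * n⁻¹ by group, ← z_eq h.toB0.toHL.toD8] at this
    exact this.resolve_left n1
  · have := comm_sq h E (c _ hg) (c _ h.a1T)
    rw [show n * g * n⁻¹ * (n * a1 * n⁻¹) * (n * g * n⁻¹)⁻¹ * (n * a1 * n⁻¹)⁻¹ =
      n * (g * a1 * g⁻¹ * a1⁻¹) * n⁻¹ by group, conj_mul, comm4 h f2 hg g0] at this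
    exact this.resolve_left n1

end BM

theorem B0.zK (h : B0 F O K T t z a1 a2) : z ∈ K := by
  have m1 : a1 ∈ K := h.sylD.le (subset_closure (by simp))
  have m2 : a2 ∈ K := h.sylD.le (subset_closure (by simp))
  rw [BM.z_eq h.toHL.toD8]
  exact mul_mem (mul_mem (mul_mem (inv_mem m2) (inv_mem m1)) m2) m1

theorem CW.tz (h : CW F O K T C0 t z a1 a2 f) (f2 : f * f = 1 ∨ f * f = t) : ¬ IsConj t z := fun c => by
  obtain ⟨k, e, hk⟩ := h.toB0.emb c h.sylT.isP fun n hn => mem_cent1.2 (BM.norm_z h f2 (le_normalizer hn))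
  rw [BM.norm_z h f2 (mem_norm_of_cj_le hk), mul_inv_cancel_right] at e
  exact h.tK (e ▸ h.toB0.zK)

/-- some element of `N(T)` moves `t` (by Z* when `T` is a Sylow subgroup of `G`) -/
theorem B0.exN (h : B0 F O K T t z a1 a2)
    (hc : ∀ s ∈ T, IsConj t s → ∃ c ∈ 𝒞[t], T ≤ 𝒞[c * s * c⁻¹]) : ∃ x ∈ 𝒩(T), x * t * x⁻¹ ≠ t := by
  obtain ⟨S, hS, hT⟩ := H42.exists_sylIn h.sylT.isP (le_top (a := T))
  rcases hT.eq_or_lt with rfl | lt
  swap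
  · obtain ⟨x, ⟨xS, xN⟩, xT⟩ := SetLike.exists_of_lt (H42.lt_inf_normalizer hS.isP lt)
    exact ⟨x, xN, fun e => xT (h.CS hS.isP hT ▸ ⟨xS, mem_cent1.2 (mul_inv_eq_iff_eq_mul.1 e)⟩)⟩
  by_contra hn
  push Not at hn
  obtain ⟨N, -, n1, n2, n3⟩ := TE.zstar_in hS ⟨h.t2, h.t1⟩ h.tT fun g _ hg => by
    obtain ⟨c, hc', e⟩ := hc _ hg (isConj_iff.2 ⟨g, rfl⟩)
    obtain ⟨k, e1, hk⟩ := h.emb (isConj_iff.2 ⟨c * g, by group⟩) h.sylT.isP e
    have e2 := hn _ (inv_mem (mem_norm_of_cj_le hk))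
    have e3 : c * (g * t * g⁻¹) * c⁻¹ = t := by
      generalize c * (g * t * g⁻¹) * c⁻¹ = w at e1 ⊢
      rw [← e2, ← e1]; group
    calc _ = c⁻¹ * (c * (g * t * g⁻¹) * c⁻¹) * c := by group
      _ = t := by rw [e3, mul_assoc, ← mem_cent1.1 hc', inv_mul_cancel_left]
  have nN : N.Normal := normal_iff_top_le_norm.2 n1
  have := h.simp
  rcases ((nN.subgroupOf F)).eq_bot_or_eq_top with e | e
  · refine h.t1 (mem_bot.1 (h.cF ▸ mem_centralizer_iff.2 fun g hg => ?_))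
    have m : ⁅g, t⁆ ∈ F := by
      simpa only [commutatorElement_def, mul_assoc] using mul_mem hg (h.nF.conj_mem _ (inv_mem hg) t)
    have : (⟨_, m⟩ : F) ∈ N.subgroupOf F := n3 g (mem_top g)
    rw [e, mem_bot] at this
    exact commutatorElement_eq_one_iff_mul_comm.1 (congrArg Subtype.val this)
  · exact h.z1 (TE.two_odd_eq_one n2 (subgroupOf_eq_top.1 e (h.KF h.zK)) (COMP.Two.of_sq h.z2))

theorem CW.conjC0 (h : CW F O K T C0 t z a1 a2 f) {c s : G} (hc : c ∈ 𝒞[t]) (hs : s ∈ 𝒞[t]) :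
    c * s * c⁻¹ ∈ C0 ↔ s ∈ C0 := by
  have k : ∀ c ∈ 𝒞[t], ∀ s ∈ C0, c * s * c⁻¹ ∈ C0 := fun c hc s hs => by
    by_cases d : c ∈ C0
    · exact mul_mem (mul_mem d hs) (inv_mem d)
    · exact h.C0mul _ (mul_mem hc (h.C0le hs)) _ (inv_mem hc) (by rwa [mul_mem_cancel_right hs]) (by rwa [inv_mem_iff])
  exact ⟨fun a => by simpa [mul_assoc] using k _ (inv_mem hc) _ a, k c hc s⟩

theorem CW.oddC0 (h : CW F O K T C0 t z a1 a2 f) {c : G} (hc : c ∈ 𝒞[t]) (ho : Odd (orderOf c)) :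
    c ∈ C0 := by
  refine BM.mem_of_odd ho ?_
  by_cases d : c ∈ C0
  exacts [mul_mem d d, h.C0mul c hc c hc d d]

theorem CW.syl0 (h : CW F O K T C0 t z a1 a2 f) : SylIn 2 (TT t a1 a2 f) C0 :=
  h.TC0 ▸ h.sylT.inf_normal h.C0le (le_norm_iff.2 fun _ hc _ hs => (h.conjC0 hc (h.C0le hs)).2 hs)

end Cfsg.Agent.DIH.V7
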