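import Cfsg.Agent.DA7.Defs
import Cfsg.Agent.DA7.Bas

/-! The structure of `T` in case B. -/

set_option autoImplicit false
set_option linter.unusedSectionVars false

namespace Cfsg.Agent.DIH.V7

open Subgroup H49
open H42 (SylIn)

variable {G : Type*} [Group G] [Finite G] {F O K T C0 P P1 P2 S : Subgroup G}
  {t z a a' a1 a2 f : G}

namespace BM

variable {φ : Md false →* G}

theorem em (h : CB F O K T C0 t z a1 a2 f) : ∃ φ : Md false →* G, Em t z a1 a2 f φ := exists_em h.toCW h.f2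

/-- A subgroup of the model given by a decidable predicate. -/
def sub (p : Md false → Bool) (h1 : p 1 = true) (h2 : ∀ u v, p u = true → p v = true → p (u * v) = true)
    (h3 : ∀ u, p u = true → p u⁻¹ = true) : Subgroup (Md false) where
  carrier := {v | p v = true}
  one_mem' := h1
  mul_mem' := h2 _ _
  inv_mem' := h3 _

def sA1 : Subgroup (Md false) := sub (fun v => !v.j) (by decide) (by decide) (by decide)
def sA2 : Subgroup (Md false) := sub (fun v => !v.i) (by decide) (by decide) (by decide)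
def sV : Subgroup (Md false) := sub (fun v => !v.i && !v.j) (by decide) (by decide) (by decide)

theorem A1_eq (E : Em t z a1 a2 f φ) : AA t z a1 f = sA1.map φ := by
  refine le_antisymm ((closure_le _).2 ?_) ?_
  · rintro x (rfl | rfl | rfl | rfl)
    exacts [⟨Z, rfl, E.Z⟩, ⟨A1, rfl, E.A1⟩, ⟨Tt, rfl, E.Tt⟩, ⟨Ff, rfl, E.Ff⟩]
  · rintro _ ⟨⟨i, j, k, l, m⟩, hv, rfl⟩
    obtain rfl : j = false := by simpa [sA1, sub] using hv
    rw [E.app]
    exact mul_mem (mul_mem (mul_mem (mul_mem (pw_mem (subset_closure (by simp)) _) (one_mem _))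
      (pw_mem (subset_closure (by simp)) _)) (pw_mem (subset_closure (by simp)) _)) (pw_mem (subset_closure (by simp)) _)

theorem A2_eq (E : Em t z a1 a2 f φ) : AA t z a2 (f * z) = sA2.map φ := by
  refine le_antisymm ((closure_le _).2 ?_) ?_
  · rintro x (rfl | rfl | rfl | rfl)
    exacts [⟨Z, rfl, E.Z⟩, ⟨A2, rfl, E.A2⟩, ⟨Tt, rfl, E.Tt⟩, ⟨Ff * Z, rfl, by rw [map_mul, E.Ff, E.Z]⟩]
  · rintro _ ⟨⟨i, j, k, l, m⟩, hv, rfl⟩
    obtain rfl : i = false := by simpa [sA2, sub] using hv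
    have hz : z ∈ AA t z a2 (f * z) := subset_closure (by simp)
    have hf : f ∈ AA t z a2 (f * z) := (mul_mem_cancel_right hz).1 (subset_closure (by simp))
    rw [E.app]
    exact mul_mem (mul_mem (mul_mem (mul_mem (one_mem _) (pw_mem (subset_closure (by simp)) _))
      (pw_mem hz _)) (pw_mem (subset_closure (by simp)) _)) (pw_mem hf _)

theorem V_eq (E : Em t z a1 a2 f φ) : closure {z, t, f} = sV.map φ := by
  refine le_antisymm ((closure_le _).2 ?_) ?_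
  · rintro x (rfl | rfl | rfl)
    exacts [⟨Z, rfl, E.Z⟩, ⟨Tt, rfl, E.Tt⟩, ⟨Ff, rfl, E.Ff⟩]
  · rintro _ ⟨⟨i, j, k, l, m⟩, hv, rfl⟩
    obtain ⟨rfl, rfl⟩ : i = false ∧ j = false := by simpa [sV, sub] using hv
    rw [E.app]
    exact mul_mem (mul_mem (mul_mem (mul_mem (one_mem _) (one_mem _))
      (pw_mem (subset_closure (by simp)) _)) (pw_mem (subset_closure (by simp)) _)) (pw_mem (subset_closure (by simp)) _)

theorem mem_A1 (E : Em t z a1 a2 f φ) {v : Md false} : φ v ∈ AA t z a1 f ↔ v.j = false := by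
  rw [A1_eq E, mem_map_iff_mem E.inj]; simp [sA1, sub, ← SetLike.mem_coe]

theorem mem_A2 (E : Em t z a1 a2 f φ) {v : Md false} : φ v ∈ AA t z a2 (f * z) ↔ v.i = false := by
  rw [A2_eq E, mem_map_iff_mem E.inj]; simp [sA2, sub, ← SetLike.mem_coe]

theorem mem_V (E : Em t z a1 a2 f φ) {v : Md false} : φ v ∈ closure {z, t, f} ↔ v.i = false ∧ v.j = false := by
  rw [V_eq E, mem_map_iff_mem E.inj]; simp [sV, sub, ← SetLike.mem_coe]

theorem A1_le (E : Em t z a1 a2 f φ) : AA t z a1 f ≤ TT t a1 a2 f := A1_eq E ▸ E.range ▸ map_le_range _ _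

theorem A2_le (E : Em t z a1 a2 f φ) : AA t z a2 (f * z) ≤ TT t a1 a2 f := A2_eq E ▸ E.range ▸ map_le_range _ _

theorem V_le (E : Em t z a1 a2 f φ) : closure {z, t, f} ≤ TT t a1 a2 f := V_eq E ▸ E.range ▸ map_le_range _ _

theorem card_V (E : Em t z a1 a2 f φ) : Nat.card (closure {z, t, f} : Subgroup G) = 8 := by
  rw [V_eq E, card_map_of_injective E.inj]
  refine (Nat.card_congr (β := Bool × Bool × Bool) ⟨fun v => (v.1.k, v.1.l, v.1.m),
    fun v => ⟨⟨false, false, v.1, v.2.1, v.2.2⟩, rfl⟩, ?_, fun _ => rfl⟩).trans (by simp)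
  rintro ⟨⟨i, j, k, l, m⟩, hv⟩
  obtain ⟨rfl, rfl⟩ : i = false ∧ j = false := by simpa [sV, sub, ← SetLike.mem_coe] using hv
  rfl

theorem AA_tf : AA t z a (t * f) = AA t z a f := by
  refine le_antisymm ((closure_le _).2 ?_) ((closure_le _).2 ?_)
  · rintro x (rfl | rfl | rfl | rfl)
    exacts [subset_closure (by simp), subset_closure (by simp), subset_closure (by simp),
      mul_mem (subset_closure (by simp)) (subset_closure (by simp))]
  · rintro x (rfl | rfl | rfl | rfl)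
    exacts [subset_closure (by simp), subset_closure (by simp), subset_closure (by simp),
      (mul_mem_cancel_left (x := t) (subset_closure (by simp))).1 (subset_closure (by simp))]

theorem TT_tf : TT t a1 a2 (t * f) = TT t a1 a2 f := by
  refine le_antisymm ((closure_le _).2 ?_) ((closure_le _).2 ?_)
  · rintro x (rfl | rfl | rfl | rfl)
    exacts [a1_T0, a2_T0, t_T0, mul_mem t_T0 f_T0]
  · rintro x (rfl | rfl | rfl | rfl)
    exacts [a1_T0, a2_T0, t_T0, (mul_mem_cancel_left t_T0).1 f_T0]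

theorem sd_tf {ρ : G} (s : Sd t z a f ρ) : Sd t z a (t * f) ρ :=
  { s with
    ρf := by rw [← conj_mul, s.ρt, s.ρf]
    card := by rw [AA_tf]; exact s.card
    fix := fun n hn hA => by
      obtain ⟨h1, h2⟩ := s.fix n hn (by rwa [AA_tf] at hA)
      exact ⟨by rw [← conj_mul, h1, mem_cent1.1 hn, mul_inv_cancel_right], h2⟩
    syl := by rw [AA_tf]; exact s.syl }

end BM

theorem CB.TT_symm (h : CB F O K T C0 t z a1 a2 f) : TT t a2 a1 (f * z) = TT t a1 a2 f := by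
  have d := h.toB0.toHL.toD8
  refine le_antisymm ((closure_le _).2 ?_) ((closure_le _).2 ?_)
  · rintro x (rfl | rfl | rfl | rfl)
    exacts [BM.a2_T0, BM.a1_T0, BM.t_T0, mul_mem BM.f_T0 (BM.z_mem d BM.a1_T0 BM.a2_T0)]
  · rintro x (rfl | rfl | rfl | rfl)
    exacts [BM.a2_T0, BM.a1_T0, BM.t_T0, (mul_mem_cancel_right (BM.z_mem d BM.a2_T0 BM.a1_T0)).1 BM.f_T0]

theorem CB.symm (h : CB F O K T C0 t z a1 a2 f) : CB F O K T C0 t z a2 a1 (f * z) := by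
  obtain ⟨φ, E⟩ := BM.em h
  have r := BM.rel_of (e := false) h.toCW h.f2
  have d := r.toD8
  have fz := BM.comm_z d r.fa1 r.fa2
  have tz := BM.comm_z d r.ta1 r.ta2
  have e : f * z * z = f := by rw [mul_assoc, h.z2, mul_one]
  exact
  { h with
    s1 := h.s2
    s2 := h.s1
    c1 := h.c2
    c2 := h.c1
    r := by rw [h.r, mul_assoc, h.z2, mul_one]
    sylD := Set.pair_comm a1 a2 ▸ h.sylD
    a1T := h.a2T
    a2T := h.a1T
    fT := mul_mem h.fT (BM.z_mem d h.a1T h.a2T)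
    fa1 := r.fa2.mul_left h.c2
    fa2 := r.fa1.mul_left h.c1
    cardT0 := h.TT_symm ▸ h.cardT0
    Tel := fun y hy => (h.Tel y hy).imp (fun k => h.TT_symm.ge k) (fun s => ⟨s.2.1, s.1, by
      rw [← conj_mul, BM.z_comm h.toCW E hy, mul_inv_cancel_right]
      exact s.2.2.imp (fun k => by rw [k]) fun k => by rw [k, mul_assoc _ t, tz.eq, ← mul_assoc]⟩)
    TC0 := h.TT_symm ▸ h.TC0
    f2 := by rw [mul_assoc, ← mul_assoc z, ← fz.eq, mul_assoc, h.z2, mul_one, h.f2]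
    sd1 := h.sd2
    sd2 := e.symm ▸ h.sd1
    nA1 := h.nA2
    nA2 := e.symm ▸ h.nA1 }

theorem CB.tf (h : CB F O K T C0 t z a1 a2 f) : CB F O K T C0 t z a1 a2 (t * f) := by
  have r := BM.rel_of (e := false) h.toCW h.f2
  have c : Commute t (f * z) := r.tf.mul_right (BM.comm_z r.toD8 r.ta1 r.ta2)
  exact
  { h with
    fT := mul_mem h.toB0.tT h.fT
    fa1 := r.ta1.mul_left r.fa1
    fa2 := r.ta2.mul_left r.fa2
    cardT0 := by rw [BM.TT_tf]; exact h.cardT0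
    Tel := fun y hy => (h.Tel y hy).imp (fun k => BM.TT_tf.ge k) (fun s => ⟨s.1, s.2.1, by
      rw [← conj_mul, mem_cent1.1 (h.sylT.le hy), mul_inv_cancel_right]
      exact s.2.2.imp (fun k => by rw [k, mul_assoc]) fun k => by rw [k, ← mul_assoc, ← mul_assoc]⟩)
    TC0 := by rw [BM.TT_tf]; exact h.TC0
    f2 := by rw [mul_assoc, ← mul_assoc f, ← r.tf.eq, mul_assoc, h.f2, mul_one, h.t2]
    sd1 := h.sd1.imp fun _ => BM.sd_tf
    sd2 := h.sd2.imp fun _ s => mul_assoc t f z ▸ BM.sd_tf s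
    nA1 := by rw [BM.AA_tf]; exact h.nA1
    nA2 := by rw [mul_assoc, BM.AA_tf]; exact h.nA2 }

theorem CB.sylN (h : CB F O K T C0 t z a1 a2 f) :
    SylIn 2 (TT t a1 a2 f) (𝒞[t] ⊓ 𝒩(AA t z a1 f)) := by
  obtain ⟨φ, E⟩ := BM.em h
  refine h.toCW.syl0.of_le (le_inf ((BM.T0_le h.toCW).trans h.sylT.le) (le_norm_iff.2 fun x hx y hy => ?_)) h.nA1
  obtain ⟨u, rfl⟩ := E.ex hx
  obtain ⟨v, rfl⟩ := E.ex (BM.A1_le E hy)
  rw [← map_inv, ← map_mul, ← map_mul]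
  rw [BM.mem_A1 E] at hy ⊢
  revert u v
  exact fun u _ v hy => (by decide : ∀ u v : BM.Md false, v.j = false → (u * v * u⁻¹).j = false) u v hy

/-- the elementary abelian subgroups of `T₀` lie in `A₁` or `A₂` -/
theorem CB.ea0 (h : CB F O K T C0 t z a1 a2 f) {U : Subgroup G} (hU : U ≤ TT t a1 a2 f)
    (h2 : ∀ u ∈ U, u * u = 1) : U ≤ AA t z a1 f ∨ U ≤ AA t z a2 (f * z) := by
  obtain ⟨φ, E⟩ := BM.em h
  by_contra c
  obtain ⟨x, hx, x1⟩ := SetLike.not_le_iff_exists.1 (not_or.1 c).1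
  obtain ⟨y, hy, y1⟩ := SetLike.not_le_iff_exists.1 (not_or.1 c).2
  obtain ⟨u, rfl⟩ := E.ex (hU hx)
  obtain ⟨v, rfl⟩ := E.ex (hU hy)
  have k : ∀ w, φ w ∈ U → w * w = 1 := fun w hw => E.inj (by rw [map_mul, h2 _ hw, map_one])
  exact (by decide : ∀ u v : BM.Md false, ¬ u.j = false → ¬ v.i = false → u * u = 1 → v * v = 1 →
    ¬ u * v * (u * v) = 1) u v (mt (BM.mem_A1 E).2 x1) (mt (BM.mem_A2 E).2 y1) (k u hx) (k v hy)
    (k _ (map_mul φ u v ▸ mul_mem hx hy))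

theorem BM.comm_of_sq {U : Subgroup G} (h2 : ∀ u ∈ U, u * u = 1) {x y : G} (hx : x ∈ U) (hy : y ∈ U) :
    x * y = y * x := by
  rw [← inv_eq_of_mul_eq_one_left (h2 _ (mul_mem hx hy)), mul_inv_rev, inv_eq_of_mul_eq_one_left (h2 x hx),
    inv_eq_of_mul_eq_one_left (h2 y hy)]

/-- `A₁, A₂` are the only elementary abelian subgroups of order 16 of `T` -/
theorem CB.ea16 (h : CB F O K T C0 t z a1 a2 f) {U : Subgroup G} (hU : U ≤ T)
    (h2 : ∀ u ∈ U, u * u = 1) (hc : 16 ≤ Nat.card U) : U = AA t z a1 f ∨ U = AA t z a2 (f * z) := by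
  by_cases k : U ≤ TT t a1 a2 f
  · obtain ⟨_, s1⟩ := h.sd1
    obtain ⟨_, s2⟩ := h.sd2
    exact (h.ea0 k h2).imp (fun e => eq_of_le_of_card_ge e (s1.card ▸ hc)) fun e => eq_of_le_of_card_ge e (s2.card ▸ hc)
  · obtain ⟨φ, E⟩ := BM.em h
    obtain ⟨g, hg, g0⟩ := SetLike.not_le_iff_exists.1 k
    have h1 := BM.half h.toCW hU hg g0
    have h3 := BM.cent4 h.toCW E (hU hg) g0 (U := U ⊓ TT t a1 a2 f) inf_le_right
      (fun u hu => BM.comm_of_sq h2 hg hu.1) fun u hu => h2 u hu.1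
    omega

theorem CB.big (h : CB F O K T C0 t z a1 a2 f) {R : Subgroup G} {s : G} (hR : IsPGroup 2 R)
    (hc : R ≤ 𝒞[s]) (hb : Nat.card T < Nat.card R) : ¬ IsConj t s := fun c => by
  obtain ⟨k, -, hk⟩ := h.toB0.emb c hR hc
  have := card_le_of_le hk
  rw [card_cj] at this
  omega

theorem CB.nc64 (h : CB F O K T C0 t z a1 a2 f) {R : Subgroup G} {s : G} (hR : IsPGroup 2 R)
    (hc : R ≤ 𝒞[s]) (hb : 64 ≤ Nat.card R)
    (h2 : ∀ x ∈ R, ∀ y ∈ R, (x * y * x⁻¹ * y⁻¹) * (x * y * x⁻¹ * y⁻¹) = 1) : ¬ IsConj t s := fun c => by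
  obtain ⟨k, -, hk⟩ := h.toB0.emb c hR hc
  have h1 := card_le_of_le hk
  rw [card_cj] at h1
  rcases h.toCW.cardT with e | ⟨e, g, hg, g0, -⟩
  · rw [e, h.cardT0] at h1
    omega
  have e2 := eq_of_le_of_card_ge hk (by rw [card_cj]; omega)
  have h3 := h2 _ (mem_cj.1 (e2.ge hg)) _ (mem_cj.1 (e2.ge h.a1T))
  rw [show k⁻¹ * g * k * (k⁻¹ * a1 * k) * (k⁻¹ * g * k)⁻¹ * (k⁻¹ * a1 * k)⁻¹ = k⁻¹ * (g * a1 * g⁻¹ * a1⁻¹) * k⁻¹⁻¹ by group,
    conj_mul, BM.comm4 h.toCW (.inl h.f2) hg g0, conj_eq_one_iff] at h3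
  exact h.z1 h3

theorem CB.ab32 (h : CB F O K T C0 t z a1 a2 f) {R : Subgroup G} {s : G} (hR : IsPGroup 2 R)
    (hc : R ≤ 𝒞[s]) (hb : 32 ≤ Nat.card R) (ha : R ≤ 𝒞(R)) : ¬ IsConj t s := fun c => by
  obtain ⟨k, -, hk⟩ := h.toB0.emb c hR hc
  have := BM.ab_lt h.toCW (.inl h.f2) hk fun x hx y hy => by
    obtain ⟨x, hx', rfl⟩ := mem_cj'.1 hx
    obtain ⟨y, hy', rfl⟩ := mem_cj'.1 hy
    rw [conj_mul, conj_mul, ha hy' x hx']
  rw [card_cj] at this
  omega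

theorem CB.te8 (h : CB F O K T C0 t z a1 a2 f) {X U : Subgroup G} (hX : X ≤ T) (hb : 32 ≤ Nat.card X)
    (hU : U ≤ T) (hc : X ≤ 𝒞(U)) (h2 : ∀ u ∈ U, u * u = 1) (h8 : 8 ≤ Nat.card U) :
    X = TT t a1 a2 f ∧ U = closure {z, t, f} := by
  obtain ⟨φ, E⟩ := BM.em h
  have U0 : U ≤ TT t a1 a2 f := fun u hu => by
    by_contra u0
    have h3 := BM.cent8 h.toCW E (hU hu) u0 (U := X ⊓ TT t a1 a2 f) inf_le_right fun x hx => hc hx.1 u hu
    by_cases k : X ≤ TT t a1 a2 f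
    · rw [inf_eq_left.2 k] at h3
      omega
    · obtain ⟨g, hg, g0⟩ := SetLike.not_le_iff_exists.1 k
      have := BM.half h.toCW hX hg g0
      omega
  have X0 : X ≤ TT t a1 a2 f := fun g hg => by
    by_contra g0
    have := BM.cent4 h.toCW E (hX hg) g0 U0 (fun u hu => (hc hg u hu).symm) h2
    omega
  obtain rfl := eq_of_le_of_card_ge X0 (h.cardT0 ▸ hb)
  refine ⟨rfl, eq_of_le_of_card_ge (fun u hu => ?_) (BM.card_V E ▸ h8)⟩
  obtain ⟨v, rfl⟩ := E.ex (U0 hu)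
  have c1 := hc BM.a1_T0 _ hu
  have c2 := hc BM.a2_T0 _ hu
  rw [← E.A1, ← map_mul, ← map_mul, E.inj.eq_iff] at c1
  rw [← E.A2, ← map_mul, ← map_mul, E.inj.eq_iff] at c2
  exact (BM.mem_V E).2 ((by decide : ∀ v : BM.Md false, v * BM.A1 = BM.A1 * v → v * BM.A2 = BM.A2 * v →
    v.i = false ∧ v.j = false) v c1 c2)

theorem CB.sylV (h : CB F O K T C0 t z a1 a2 f) : SylIn 2 (TT t a1 a2 f) (𝒞[t] ⊓ 𝒞[z] ⊓ 𝒞[f]) := by
  obtain ⟨φ, E⟩ := BM.em h
  have cV : 𝒞[t] ⊓ 𝒞[z] ⊓ 𝒞[f] ≤ 𝒞((closure {z, t, f} : Subgroup G)) := cent_symm ((closure_le _).2 (by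
    rintro x (rfl | rfl | rfl)
    exacts [le_cent1_iff.1 (inf_le_left.trans inf_le_right), le_cent1_iff.1 (inf_le_left.trans inf_le_left),
      le_cent1_iff.1 inf_le_right]))
  have h0 : TT t a1 a2 f ≤ 𝒞[t] ⊓ 𝒞[z] ⊓ 𝒞[f] := fun x hx => by
    refine ⟨⟨h.sylT.le (BM.T0_le h.toCW hx), mem_cent1.2 (BM.z_comm h.toCW E (BM.T0_le h.toCW hx))⟩, mem_cent1.2 ?_⟩
    obtain ⟨v, rfl⟩ := E.ex hx
    rw [← E.Ff, ← map_mul, ← map_mul, (by decide : ∀ v : BM.Md false, v * BM.Ff = BM.Ff * v) v]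
  obtain ⟨R, hR, hle⟩ := H42.exists_sylIn h.toCW.syl0.isP h0
  obtain ⟨c, -, hc⟩ := h.sylT.exists_conj hR.isP (hR.le.trans (inf_le_left.trans inf_le_left))
  have hc' : cj c R ≤ T := fun x hx => by
    obtain ⟨y, hy, rfl⟩ := mem_cj'.1 hx
    exact hc y hy
  have := (h.te8 hc' (U := cj c (closure {z, t, f})) (by rw [card_cj, ← h.cardT0]; exact card_le_of_le hle)
    ((cj_mono c ((BM.V_le E).trans hle)).trans hc') (by rw [← cj_centralizer]; exact cj_mono c (hR.le.trans cV))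
    (fun x hx => by
      obtain ⟨y, hy, rfl⟩ := mem_cj'.1 hx
      obtain ⟨v, rfl⟩ := E.ex (BM.V_le E hy)
      rw [conj_mul, ← map_mul, (by decide : ∀ v : BM.Md false, v.i = false ∧ v.j = false → v * v = 1) v
        ((BM.mem_V E).1 hy), map_one, mul_one, mul_inv_cancel])
    (by rw [card_cj, BM.card_V E])).1
  rwa [← eq_of_le_of_card_ge hle (by rw [← this, card_cj])] at hR

namespace BM

theorem n1 : ∀ s, ∀ v : Md false, v = ⟨v.i, v.j, v.k, s && v.m, v.m⟩ * pw (xor v.l (s && v.m)) Tt := by decide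

theorem n2 : ∀ s, ∀ v : Md false, (⟨v.i, v.j, v.k, s && v.m, v.m⟩ : Md false) =
    pw v.i A1 * pw v.j A2 * pw v.k Z * pw v.m (Ff * pw s Tt) := by decide

theorem n3 : ∀ p q r s, al p q r (Ff * pw s Tt) * (Ff * pw s Tt)⁻¹ = (Z * pw r Tt : Md false) := by decide

theorem n4 : ∀ p q s, ∀ w : Md false, w.l = (s && w.m) → al p q false w = w →
    al p q false (al p q false A1) = w * A1 * w⁻¹ → al p q false (al p q false A2) = w * A2 * w⁻¹ →
    ∃ u : Md false, u.l = (s && u.m) ∧ u * al p q false u * w = 1 ∧ u * al p q false A1 * u⁻¹ = A2 ∧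
      u * al p q false Ff * u⁻¹ = Ff * Z := by decide

theorem n5 : ∀ p q r, al p q r A1 = (A2 : Md false) → al p q r A2 = (A1 : Md false) → al p q r Ff = (Ff * Z : Md false) →
    ∀ v : Md false, al p q r v * v = 1 → ∃ n : Fin 4, v = (A1 * A2) ^ n.1 ∨ v * Tt = (A1 * A2) ^ n.1 := by decide

theorem mem_F {φ : Md false →* G} (h : CB F O K T C0 t z a1 a2 f) (E : Em t z a1 a2 f φ) (ht : t ∉ F) {s : Bool} (hs : f * pw s t ∈ F)
    (v : Md false) : φ v ∈ F ↔ v.l = (s && v.m) := by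
  have h1 : a1 ∈ F := h.KF (h.sylD.le (subset_closure (by simp)))
  have h2 : a2 ∈ F := h.KF (h.sylD.le (subset_closure (by simp)))
  have k : φ ⟨v.i, v.j, v.k, s && v.m, v.m⟩ ∈ F := by
    rw [n2]
    simp only [map_mul, pw_map, E.A1, E.A2, E.Z, E.Ff, E.Tt]
    exact mul_mem (mul_mem (mul_mem (pw_mem h1 _) (pw_mem h2 _)) (pw_mem (z_mem h.toB0.toHL.toD8 h1 h2) _)) (pw_mem hs _)
  conv_lhs => rw [n1 s v, map_mul, mul_mem_cancel_left k, pw_map, E.Tt]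
  cases v.l <;> cases (s && v.m) <;> simp [pw, ht]

end BM

/-- `T > T₀`, `t ∉ F`: the involutions of `T` outside `T₀` -/
theorem CB.inv (h : CB F O K T C0 t z a1 a2 f) (hT : T ≠ TT t a1 a2 f) (ht : t ∉ F) :
    ∃ g ∈ T, g ∈ F ∧ g ∉ C0 ∧ g * g = 1 ∧ g * a1 * g = a2 ∧ g * f * g = f * z ∧
      ∀ y ∈ T, y ∉ C0 → y * y = 1 → g * y ∈ zpowers (a1 * a2) ∨ g * y * t ∈ zpowers (a1 * a2) := by
  obtain ⟨φ, E⟩ := BM.em h
  obtain ⟨g, hg, g0, gF⟩ : ∃ g ∈ T, g ∉ TT t a1 a2 f ∧ g ∈ F := by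
    obtain ⟨-, g, hg, g0, -⟩ := h.toCW.cardT.resolve_left hT
    exact (h.gen g).elim (fun k => ⟨g, hg, g0, k⟩) fun k =>
      ⟨g * t, mul_mem hg h.toB0.tT, by rwa [mul_mem_cancel_right BM.t_T0], k⟩
  obtain ⟨s, hs⟩ : ∃ s, f * pw s t ∈ F := (h.gen f).elim (⟨false, by simpa [pw] using ·⟩) (⟨true, ·⟩)
  obtain ⟨p, q, r, k⟩ := BM.act h.toCW E hg g0
  have mF := BM.mem_F h E ht hs
  obtain rfl : r = false := by
    have e : φ (BM.Ff * pw s BM.Tt) ∈ F := by rwa [map_mul, BM.pw_map, E.Ff, E.Tt]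
    have := mul_mem (h.nF.conj_mem _ e g) (inv_mem e)
    rw [k, ← map_inv, ← map_mul, BM.n3, mF] at this
    revert this
    cases r <;> cases s <;> decide
  obtain ⟨w, hw⟩ := E.ex (BM.mul_out h.toCW hg hg g0 g0)
  have k2 : ∀ v, BM.al p q false (BM.al p q false v) = w * v * w⁻¹ := fun v => E.inj (by
    rw [← k, ← k, map_mul, map_mul, map_inv, hw]; group)
  obtain ⟨u, u1, u2, u3, u4⟩ := BM.n4 p q s w ((mF w).1 (hw ▸ mul_mem gF gF))
    (E.inj (by rw [← k, hw]; group)) (k2 _) (k2 _)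
  have G1 : φ u * g ∈ T := mul_mem (BM.T0_le h.toCW (E.mem u)) hg
  have G0 : φ u * g ∉ TT t a1 a2 f := by rwa [mul_mem_cancel_left (E.mem u)]
  have G2 : φ u * g * (φ u * g) = 1 := by
    rw [← map_one φ, ← u2, map_mul, map_mul, ← k, hw]; group
  have Gi := inv_eq_of_mul_eq_one_left G2
  have G3 : φ u * g * a1 * (φ u * g)⁻¹ = a2 := by
    rw [← E.A2, ← u3, map_mul, map_mul, map_inv, ← k, E.A1]; group
  have G4 : φ u * g * f * (φ u * g)⁻¹ = f * z := by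
    rw [← E.Z, ← E.Ff, ← map_mul, ← u4, map_mul, map_mul, map_inv, ← k]; group
  refine ⟨φ u * g, G1, mul_mem ((mF u).2 u1) gF, fun c => G0 (h.TC0.le ⟨G1, c⟩), G2, by rwa [Gi] at G3,
    by rwa [Gi] at G4, fun y hy y0 y2 => ?_⟩
  generalize φ u * g = x at *
  obtain ⟨p', q', r', k'⟩ := BM.act h.toCW E G1 G0
  obtain ⟨v, hv⟩ := E.ex (BM.mul_out h.toCW G1 hy G0 fun c => y0 (h.TC0.ge c).2)
  obtain ⟨n, hn⟩ := BM.n5 p' q' r' (E.inj (by rw [← k', E.A1, G3, E.A2]))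
    (E.inj (by
      rw [← k', E.A2, ← G3, E.A1]
      calc _ = x * x * a1 * (x * x)⁻¹ := by group
        _ = _ := by rw [G2]; group))
    (E.inj (by rw [← k', map_mul, E.Ff, G4, E.Z])) v (E.inj (by
      rw [map_mul, ← k', hv, map_one]
      calc _ = x * x * (y * y) := by group
        _ = _ := by rw [G2, y2, mul_one]))
  rw [← hv, ← E.Tt, ← map_mul, ← E.A1, ← E.A2, ← map_mul]
  exact hn.imp (fun e => by rw [e, map_pow]; exact pow_mem (mem_zpowers _) _) fun e => by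
    rw [e, map_pow]; exact pow_mem (mem_zpowers _) _

end Cfsg.Agent.DIH.V7
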