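import Cfsg.Agent.DA7.Defs
import Cfsg.Agent.DHR.Loc
import Cfsg.Agent.H40.Dih

/-! The element `ρ` of order three on the four-group `E₁`. -/

set_option autoImplicit false

namespace Cfsg.Agent.DIH.V7

open Subgroup H49 DihedralGroup
open H42 (SylIn)
open COMP (Two)
open DHR (E4 mem_E4 In mem_In mem_cent_range)

variable {G : Type*} [Group G] [Finite G] {F O K T C0 P P1 P2 S : Subgroup G}
  {t z a a' a1 a2 f : G}

/-- a parametrization of `⟨a₁, a₂⟩` -/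
structure Ph (φ : DHR.D8 →* G) (z a1 a2 : G) : Prop where
  inj : Function.Injective φ
  ez : φ (r 2) = z
  e1 : φ (sr 0) = a1
  e2 : φ (sr 1) = a2
  rg : φ.range = closure {a1, a2}

omit [Finite G] in
theorem D8.symm (h : D8 z a1 a2) : D8 z a2 a1 :=
  ⟨h.z2, h.z1, h.s2, h.s1, h.c2, h.c1, by rw [h.r, mul_assoc, h.z2, mul_one]⟩

omit [Finite G] in
theorem D8.sq (h : D8 z a1 a2) : a1 * a2 * (a1 * a2) = z := by
  calc _ = a1 * (a2 * a1) * a2 := by group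
    _ = a1 * a1 * (a2 * (z * a2)) := by rw [h.r]; group
    _ = _ := by rw [h.s1, h.c2, ← mul_assoc a2, h.s2]; simp

omit [Finite G] in
theorem D8.phi (h : D8 z a1 a2) : ∃ φ, Ph φ z a1 a2 := by
  obtain ⟨φ, h0, h1, h2⟩ := H40.exists_dihedral_hom h.s1 h.s2 (n := 4)
    (by rw [show 4 = 2 * 2 from rfl, pow_mul, pow_two (a1 * a2), h.sq, pow_two, h.z2])
  have ez : φ (DihedralGroup.r 2) = z := (h1 2).trans ((zpow_two _).trans h.sq)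
  exact ⟨φ, DHR.inj_of_z (ez ▸ h.z1), ez, by simpa using h2 0,
    by simpa [← mul_assoc, h.s1] using h2 1, h0⟩

namespace Ph

variable {φ : DHR.D8 →* G} (p : Ph φ z a1 a2)
include p
omit [Finite G]

theorem e3 : φ (sr 2) = a1 * z := by rw [← p.e1, ← p.ez, ← map_mul]; rfl

theorem e4 : φ (sr 3) = a2 * z := by rw [← p.e2, ← p.ez, ← map_mul]; rfl

theorem E : E4 φ = closure {z, a1} := by
  refine le_antisymm (fun y hy => ?_) ((closure_le _).2 ?_)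
  · have h1 : z ∈ closure {z, a1} := subset_closure (by simp)
    have h2 : a1 ∈ closure {z, a1} := subset_closure (by simp)
    rcases mem_E4.1 hy with rfl | rfl | rfl | rfl
    exacts [one_mem _, p.ez ▸ h1, p.e1 ▸ h2, p.e3 ▸ mul_mem h2 h1]
  · rintro _ (rfl | rfl)
    exacts [p.ez ▸ DHR.zE, p.e1 ▸ DHR.aE]

theorem cD {c : G} : c ∈ 𝒞(φ.range) ↔ c * a1 = a1 * c ∧ c * a2 = a2 * c := by
  rw [p.rg]
  refine ⟨fun h => ⟨(h _ (subset_closure (by simp))).symm, (h _ (subset_closure (by simp))).symm⟩, fun h => ?_⟩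
  refine le_cent1_iff.1 ((closure_le _).2 ?_)
  rintro _ (rfl | rfl)
  exacts [mem_cent1.2 h.1.symm, mem_cent1.2 h.2.symm]

theorem cE {c : G} : c ∈ 𝒞(E4 φ) ↔ c ∈ 𝒞[z] ∧ c ∈ 𝒞[a1] := by
  rw [DHR.mem_cE, p.ez, p.e1, mem_cent1, mem_cent1, eq_comm, eq_comm (a := a1 * c)]

theorem rho {ρ : G} : DHR.Rho φ ρ ↔ ρ * z * ρ⁻¹ = a1 ∧ ρ * a1 * ρ⁻¹ = a1 * z := by
  rw [DHR.Rho, p.ez, p.e1, p.e3]

theorem ne {x y : DHR.D8} (h : φ x = φ y) : x = y := p.inj h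

end Ph

omit [Finite G] in
theorem HL.symm' (h : HL O K t z a1 a2) : HL O K t z a2 a1 :=
  { h with toD8 := h.toD8.symm, sylD := by rw [Set.pair_comm]; exact h.sylD }

theorem HL.symm (h : HL O K t z a1 a2) : HL O K t z a2 a1 := h.symm'

omit [Finite G] in
theorem HL.a1K (h : HL O K t z a1 a2) : a1 ∈ K := h.sylD.le (subset_closure (by simp))

omit [Finite G] in
theorem HL.zK (h : HL O K t z a1 a2) : z ∈ K :=
  h.toD8.sq ▸ mul_mem (mul_mem h.a1K h.symm'.a1K) (mul_mem h.a1K h.symm'.a1K)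

theorem HL.zO (h : HL O K t z a1 a2) : z ∉ O := fun e =>
  h.z1 (TE.two_odd_eq_one h.odd e (Two.of_sq h.z2))

omit [Finite G] in
theorem pow_card_mem {O : Subgroup G} {o : G} (ho : o ∈ O) : o ^ Nat.card O = 1 := by
  exact congrArg Subtype.val (pow_card_eq_one' (x := (⟨o, ho⟩ : O)))

/-- `K` has no subgroup of index two. -/
theorem HL.noI2 (h : HL O K t z a1 a2) {M : Subgroup G} (hM : M ≤ K) : M.relIndex K ≠ 2 := fun e => by
  have sq : ∀ k ∈ K, k * k ∈ M := fun k hk => mul_self_mem_of_index_two e ⟨k, hk⟩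
  have n := normal_of_index_eq_two e
  rcases h.simpK M (fun o ho => TE.tools_mem_of_cop (Nat.coprime_two_right.2 h.odd)
      (pow_card_mem ho ▸ one_mem _) (pow_two o ▸ sq o (h.OK ho))) hM
      (le_norm_iff.2 fun k hk x hx => n.conj_mem ⟨x, hM hx⟩ hx ⟨k, hk⟩) with e' | e'
  · exact h.zO (e' ▸ h.toD8.sq ▸ sq _ (mul_mem h.a1K h.symm.a1K))
  · rw [e', relIndex_self] at e; omega

omit [Finite G] in
theorem mul_pow_mem {B : Subgroup G} {x o : G} (hx : x ∈ B) (ho : o ∈ 𝒩(B)) (n : ℕ) :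
    (x * o) ^ n * (o ^ n)⁻¹ ∈ B := by
  induction n with
  | zero => simp
  | succ n ih =>
    convert mul_mem ih (conj_mem_of_norm le_rfl (pow_mem ho n) hx) using 1
    rw [pow_succ, pow_succ]; group

theorem HL.perf (h : HL O K t z a1 a2) :
    ∃ A ≤ K, ⁅A, A⁆ = A ∧ 𝒞[t] ≤ 𝒩(A) ∧ closure {a1, a2} ≤ A := by
  obtain ⟨A, ⟨h1, h2, h3⟩, hm⟩ := (Set.toFinite {M : Subgroup G | M ≤ K ∧ 𝒞[t] ≤ 𝒩(M) ∧
    closure {a1, a2} ≤ M}).exists_minimal ⟨K, le_rfl, h.nK, h.sylD.le⟩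
  have n := norm_commutator h2 h2
  refine ⟨A, h1, le_antisymm der_le (hm ⟨der_le.trans h1, n, ?_⟩ der_le), h2, h3⟩
  have e : ⁅A, A⁆ ⊔ O = K := (h.simpK _ le_sup_right (sup_le (der_le.trans h1) h.OK)
    (h.KC.trans (norm_sup n h.nO))).resolve_left fun e => h.zO (e.le (mem_sup_left (by
      have := commutator_mem_commutator (h3 (subset_closure (by simp)) : a1 ∈ A)
        (h3 (subset_closure (by simp)) : a2 ∈ A)
      rwa [commutatorElement_def, inv_eq_of_mul_eq_one_right h.s1, inv_eq_of_mul_eq_one_right h.s2,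
        mul_assoc (a1 * a2), h.toD8.sq] at this)))
  have k : ∀ a ∈ K, a * a = 1 → a ∈ ⁅A, A⁆ := fun a ha a2 => by
    obtain ⟨x, hx, o, ho, rfl⟩ := (mem_sup_of_norm_left ((h.OK.trans h.KC).trans n)).1 (e.ge ha)
    refine TE.tools_mem_of_cop (Nat.coprime_two_right.2 h.odd) ?_ (by rw [pow_two, a2]; exact one_mem _)
    simpa [pow_card_mem ho] using mul_pow_mem hx (n (h.KC (h.OK ho))) (Nat.card O)
  rw [closure_le]
  rintro _ (rfl | rfl)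
  exacts [k _ h.a1K h.s1, k _ h.symm.a1K h.s2]

theorem HL.TK (h : HL O K t z a1 a2) (hT : SylIn 2 T 𝒞[t]) (h1 : a1 ∈ T) (h2 : a2 ∈ T) :
    T ⊓ K = closure {a1, a2} :=
  h.sylD.eq_of_le (hT.isP.to_le inf_le_left) inf_le_right
    (le_inf ((closure_le _).2 (by rintro _ (rfl | rfl); exacts [h1, h2])) h.sylD.le)

theorem HL.TD (h : HL O K t z a1 a2) (hT : SylIn 2 T 𝒞[t]) (h1 : a1 ∈ T) (h2 : a2 ∈ T) :
    T ≤ 𝒩(closure {a1, a2}) :=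
  h.TK hT h1 h2 ▸ norm_inf le_normalizer (hT.le.trans h.nK)

/-- an odd order power acting in the same way on `E` -/
theorem odd_rho {φ : DHR.D8 →* G} {ρ : G} (h : DHR.Rho φ ρ) :
    ∃ n : ℕ, Odd (orderOf (ρ ^ n)) ∧ DHR.Rho φ (ρ ^ n) := by
  have k : ∀ j : ℕ, DHR.Rho φ (ρ ^ 4 ^ j) := fun j => by
    induction j with
    | zero => simpa using h
    | succ j ih =>
      rw [pow_succ, pow_mul]
      generalize ρ ^ 4 ^ j = σ at ih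
      have e : ∀ x, σ ^ 4 * x * (σ ^ 4)⁻¹ = σ * (σ * (σ * (σ * x * σ⁻¹) * σ⁻¹) * σ⁻¹) * σ⁻¹ := fun x => by
        simp only [pow_succ, pow_zero]; group
      exact ⟨by rw [e, ih.1, ih.2, ih.three, ih.1], by rw [e, ih.2, ih.three, ih.1, ih.2]⟩
  obtain ⟨j, m, hm, e⟩ := Nat.exists_eq_two_pow_mul_odd (orderOf_pos ρ).ne'
  refine ⟨4 ^ j, hm.of_dvd_nat (orderOf_dvd_of_pow_eq_one ?_), k j⟩
  rw [← pow_mul, show 4 = 2 * 2 from rfl, mul_pow, mul_assoc, ← e, mul_comm, pow_mul, pow_orderOf_eq_one, one_pow]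

omit [Finite G] in
theorem E_act {φ : DHR.D8 →* G} (hφ : Function.Injective φ) {ρ σ : G} (h : DHR.Rho φ ρ) (hσ : σ ∈ 𝒩(E4 φ)) :
    σ ^ 2 ∈ 𝒞(E4 φ) ∨ ρ⁻¹ * σ ∈ 𝒞(E4 φ) ∨ ρ * σ ∈ 𝒞(E4 φ) := by
  have c : ∀ {g x : G}, g * x * g⁻¹ = x → x * g = g * x := fun e => (mul_inv_eq_iff_eq_mul.1 e).symm
  have m : ∀ g s x : G, g * s * x * (g * s)⁻¹ = g * (s * x * s⁻¹) * g⁻¹ := fun g s x => by group
  have i : ∀ {a b c : G}, a * b * a⁻¹ = c → a⁻¹ * c * a⁻¹⁻¹ = b := fun e => by rw [← e]; group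
  have e3 : σ * φ (sr 2) * σ⁻¹ = σ * φ (r 2) * σ⁻¹ * (σ * φ (sr 0) * σ⁻¹) := by rw [conj_mul, DHR.za]
  have nn : ∀ x y, σ * φ x * σ⁻¹ = σ * φ y * σ⁻¹ → x = y := fun x y e => hφ (by simpa using e)
  have n1 : ∀ x, σ * φ x * σ⁻¹ = 1 → x = 1 := fun x e => hφ (by simpa using e)
  simp only [DHR.mem_cE, pow_two]
  rcases mem_E4.1 (conj_mem_of_norm le_rfl hσ DHR.zE) with e | e | e | e <;>
    rcases mem_E4.1 (conj_mem_of_norm le_rfl hσ DHR.aE) with e' | e' | e' | e' <;>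
    first
    | exact absurd (n1 _ e) (by decide)
    | exact absurd (n1 _ e') (by decide)
    | exact absurd (nn _ _ (e.trans e'.symm)) (by decide)
    | (rw [e, e', ← map_mul] at e3
       first
       | exact Or.inl ⟨c (by rw [m, e, e]), c (by rw [m, e', e'])⟩
       | exact Or.inl ⟨c (by rw [m, e, e]), c (by rw [m, e', e3]; rfl)⟩
       | exact Or.inl ⟨c (by rw [m, e, e']), c (by rw [m, e', e])⟩
       | exact Or.inl ⟨c (by rw [m, e, e3]; rfl), c (by rw [m, e', e'])⟩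
       | exact Or.inr (Or.inl ⟨c (by rw [m, e, i h.1]), c (by rw [m, e', i h.2])⟩)
       | exact Or.inr (Or.inr ⟨c (by rw [m, e, h.three]), c (by rw [m, e', h.1])⟩))

/-- an element of odd order of `K` normalizing `B = C_T(E₁)`, of order three on `E₁` -/
theorem HL.rho (h : HL O K t z a1 a2) (hT : SylIn 2 T 𝒞[t]) (h1 : a1 ∈ T) (h2 : a2 ∈ T) :
    ∃ ρ ∈ K, Rho t z a1 1 ρ ∧ ρ ∈ 𝒩(T ⊓ 𝒞[z] ⊓ 𝒞[a1]) ∧
      (∀ c ∈ T, c * a1 = a1 * c → c * a2 = a2 * c → c * ρ = ρ * c ∨ c * z * ρ = ρ * (c * z)) ∧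
      (∀ c ∈ T ⊓ 𝒞[z] ⊓ 𝒞[a1], c * ρ = ρ * c → c * a2 = a2 * c) ∧
      ∀ σ ∈ K, Odd (orderOf σ) → σ ∈ 𝒩(T ⊓ 𝒞[z] ⊓ 𝒞[a1]) →
        ∀ c ∈ T ⊓ 𝒞[z] ⊓ 𝒞[a1], c * ρ = ρ * c → c * σ = σ * c := by
  obtain ⟨φ, p⟩ := h.toD8.phi
  obtain ⟨A, AK, hA, nA, DA⟩ := h.perf
  have hD : SylIn 2 φ.range K := p.rg ▸ h.sylD
  have TK : T ⊓ K = φ.range := p.rg ▸ h.TK hT h1 h2
  have TD : T ≤ 𝒩(φ.range) := p.rg ▸ h.TD hT h1 h2
  have DT : φ.range ≤ T := TK.ge.trans inf_le_left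
  obtain ⟨ρ0, r0, r1, r2⟩ := DHR.exists_rho p.inj hA (hD.of_le (p.rg ▸ DA) AK) (W := T ⊓ 𝒞(φ.range))
    (hT.isP.to_le inf_le_left) (inf_le_left.trans (hT.le.trans nA)) inf_le_right
  obtain ⟨n, ho, hr⟩ := odd_rho r1
  have hρ : ρ0 ^ n ∈ K := pow_mem (AK r0) n
  have r3 : ∀ w ∈ T ⊓ 𝒞(φ.range), w * ρ0 ^ n = ρ0 ^ n * w ∨ w * z * ρ0 ^ n = ρ0 ^ n * (w * z) := fun w hw =>
    (r2 w hw).imp (fun e => ((Commute.pow_left e n).eq).symm) fun e => ((Commute.pow_left (p.ez ▸ e) n).eq).symm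
  generalize ρ0 ^ n = ρ at ho hr hρ r3
  have eB : T ⊓ 𝒞[z] ⊓ 𝒞[a1] = T ⊓ 𝒞(E4 φ) := by ext x; simp only [mem_inf, p.cE, and_assoc]
  rw [eB]
  have EE : E4 φ ≤ 𝒞(E4 φ) := S1235.comm_of_sq fun _ => DHR.E4_sq
  have EB : E4 φ ≤ T ⊓ 𝒞(E4 φ) := le_inf (DHR.E4_le.trans DT) EE
  have DE : ∀ y ∈ φ.range, y ∈ 𝒞(E4 φ) → y ∈ E4 φ := by
    rintro _ ⟨x, rfl⟩ e
    have := e _ DHR.aE
    rw [← map_mul, ← map_mul] at this
    exact ⟨x, mem_cent1.2 (p.inj this).symm, rfl⟩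
  have nE : ρ ∈ 𝒩(E4 φ) := DHR.norm_E (hr.1 ▸ DHR.aE) (hr.2 ▸ DHR.azE)
  have zW : z ∈ T ⊓ 𝒞(φ.range) := ⟨DT ⟨_, p.ez⟩, p.cD.2 ⟨h.c1, h.c2⟩⟩
  have dec : ∀ y ∈ T ⊓ 𝒞(E4 φ), ∃ w ∈ T ⊓ 𝒞(φ.range), ∃ e ∈ E4 φ, y = w * e ∧ w * ρ = ρ * w := fun y hy => by
    rcases DHR.act_cases p.inj (TD hy.1) with c0 | ⟨d, c⟩
    · obtain ⟨d, c, hc, rfl⟩ := mem_In.1 c0
      have hd := DE _ ⟨d, rfl⟩ ((mul_mem_cancel_right (cent_anti DHR.E4_le hc)).1 hy.2)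
      have hw : c ∈ T ⊓ 𝒞(φ.range) := ⟨(mul_mem_cancel_left (DT ⟨d, rfl⟩)).1 hy.1, hc⟩
      rcases r3 c hw with e | e
      · exact ⟨c, hw, _, hd, hc _ ⟨d, rfl⟩, e⟩
      · exact ⟨c * z, mul_mem hw zW, _, mul_mem (p.ez ▸ DHR.zE) hd, by
          rw [mul_assoc, ← mul_assoc z, h.z2, one_mul]; exact hc _ ⟨d, rfl⟩, e⟩
    · have := c (sr 0)
      rw [← hy.2 _ DHR.aE, mul_inv_cancel_right] at this
      exact absurd (p.inj this).symm (DHR.q_out d)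
  have WB : T ⊓ 𝒞(φ.range) ≤ T ⊓ 𝒞(E4 φ) := inf_le_inf_left _ (cent_anti DHR.E4_le)
  have nB : ρ ∈ 𝒩(T ⊓ 𝒞(E4 φ)) := H42.mem_normalizer_of_conj_mem fun y hy => by
    obtain ⟨w, hw, e, he, rfl, c⟩ := dec y hy
    rw [← conj_mul, ← c, mul_inv_cancel_right]
    exact mul_mem (WB hw) (EB (conj_mem_of_norm le_rfl nE he))
  have BK : ∀ y ∈ T ⊓ 𝒞(E4 φ), y ∈ K → y ∈ E4 φ := fun y hy hk => DE y (TK.le ⟨hy.1, hk⟩) hy.2
  have cen : ∀ c ∈ K, c ∈ 𝒩(T ⊓ 𝒞(E4 φ)) → c ∈ 𝒞(E4 φ) → ∀ y ∈ T ⊓ 𝒞(E4 φ), c ∈ 𝒞[y] := fun c hc hn hE y hy => by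
    obtain ⟨m, hm, h3⟩ := CORE.exists_odd_pow_two c
    have s := (hD.of_le (K := K ⊓ 𝒩(E4 φ)) (le_inf hD.le DHR.D_norm_E) inf_le_left).inf_normal
      (inf_le_inf_left _ (cent_le_norm _)) (norm_inf (norm_of_le inf_le_left) (norm_cent inf_le_right))
    rw [show φ.range ⊓ (K ⊓ 𝒞(E4 φ)) = E4 φ from le_antisymm (fun y hy => DE y hy.1 hy.2.2)
      (le_inf DHR.E4_le (le_inf (DHR.E4_le.trans hD.le) EE))] at s
    have h4 := COMP.SylIn.mem_of_norm s ⟨pow_mem hc m, pow_mem hE m⟩ (Two.of_mem h3 (mem_zpowers _))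
      (cent_le_norm _ (pow_mem hE m))
    refine TE.tools_mem_of_cop (Nat.coprime_two_right.2 hm) (mem_cent1.2 (hy.2 _ h4)) (mem_cent1.2 ?_)
    have h5 : c * y * c⁻¹ * y⁻¹ ∈ E4 φ := BK _ (mul_mem (conj_mem_of_norm le_rfl hn hy) (inv_mem hy)) (by
      rw [mul_assoc, mul_assoc, ← mul_assoc y]
      exact mul_mem hc (conj_mem_of_norm h.nK (hT.le hy.1) (inv_mem hc)))
    have h6 := hE _ h5
    have h7 := DHR.E4_sq h5
    generalize hk : c * y * c⁻¹ * y⁻¹ = κ at h6 h7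
    have e : c * y = κ * y * c := by rw [← hk]; group
    rw [pow_two, mul_assoc, e, ← mul_assoc, ← mul_assoc, ← h6, mul_assoc κ, e, ← mul_assoc, ← mul_assoc, h7]
    group
  refine ⟨ρ, hρ, ⟨ho, by rw [mem_cent1.1 (h.KC hρ), mul_inv_cancel_right], by simp, (p.rho.1 hr).1,
    (p.rho.1 hr).2⟩, nB, fun c hc e1 e2 => r3 c ⟨hc, p.cD.2 ⟨e1, e2⟩⟩, fun c hc e => ?_, fun σ hσ so sn c hc e => ?_⟩
  · obtain ⟨w, hw, x, hx, rfl, c⟩ := dec c hc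
    have k : ρ * x * ρ⁻¹ = x := by
      rw [← mul_assoc, ← c, mul_assoc, mul_assoc, mul_right_inj] at e
      rw [← e, mul_inv_cancel_right]
    rcases mem_E4.1 hx with rfl | rfl | rfl | rfl
    · rw [mul_one]; exact (p.cD.1 hw.2).2
    · exact absurd (p.inj (hr.1.symm.trans k)) (by decide)
    · exact absurd (p.inj (hr.2.symm.trans k)) (by decide)
    · exact absurd (p.inj (hr.three.symm.trans k)) (by decide)
  · have c1 : ρ ∈ 𝒞[c] := mem_cent1.2 e.symm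
    refine (mem_cent1.1 ?_).symm
    rcases E_act p.inj hr (σ := σ) (H42.mem_normalizer_of_conj_mem fun y hy => BK _
      (conj_mem_of_norm le_rfl sn (EB hy)) (conj_mem_of_norm le_normalizer hσ (hD.le (DHR.E4_le hy)))) with k | k | k
    · exact cen σ hσ sn (TE.tools_mem_of_cop (Nat.coprime_two_right.2 so)
        (by rw [pow_orderOf_eq_one]; exact one_mem _) k) c hc
    · exact (mul_mem_cancel_left (inv_mem c1)).1
        (cen _ (mul_mem (inv_mem hρ) hσ) (mul_mem (inv_mem nB) sn) k c hc)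
    · exact (mul_mem_cancel_left c1).1 (cen _ (mul_mem hρ hσ) (mul_mem nB sn) k c hc)

end Cfsg.Agent.DIH.V7
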