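import Cfsg.Agent.DA7.Defs
import Cfsg.Agent.DA7.BasB

set_option autoImplicit false
set_option linter.unusedSectionVars false
set_option synthInstance.maxSize 2000

namespace Cfsg.Agent.DIH.V7

open Subgroup H49
open H42 (SylIn)

variable {G : Type*} [Group G]

namespace CmpX

variable {t z a1 a2 f y y' : G}

/-- the relations of `T₀` -/
structure Rl (t z a1 a2 f : G) : Prop extends D8 z a1 a2 where
  t2 : t * t = 1
  f2 : f * f = 1
  ta1 : Commute t a1
  ta2 : Commute t a2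
  tf : Commute t f
  fa1 : Commute f a1
  fa2 : Commute f a2

theorem Rl.cz (h : Rl t z a1 a2 f) {g : G} (h1 : Commute g a1) (h2 : Commute g a2) : Commute g z := by
  rw [show z = (a1 * a2)⁻¹ * (a2 * a1) by rw [h.r]; group]
  exact (h1.mul_right h2).inv_right.mul_right (h2.mul_right h1)

theorem Rl.tz (h : Rl t z a1 a2 f) : Commute t z := h.cz h.ta1 h.ta2

theorem Rl.fz (h : Rl t z a1 a2 f) : Commute f z := h.cz h.fa1 h.fa2

theorem Rl.symm (h : Rl t z a1 a2 f) : Rl t z a2 a1 (f * z) where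
  z2 := h.z2
  z1 := h.z1
  s1 := h.s2
  s2 := h.s1
  c1 := h.c2
  c2 := h.c1
  r := by rw [h.r, mul_assoc, h.z2, mul_one]
  t2 := h.t2
  f2 := by rw [mul_assoc, ← mul_assoc z, ← h.fz.eq, mul_assoc, h.z2, mul_one, h.f2]
  ta1 := h.ta2
  ta2 := h.ta1
  tf := h.tf.mul_right h.tz
  fa1 := h.fa2.mul_left h.c2
  fa2 := h.fa1.mul_left h.c1

theorem pw_mul {g : G} (h : g * g = 1) (i j : Bool) : pw i g * pw j g = pw (xor i j) g := by
  cases i <;> cases j <;> simp [pw, h]

theorem pw_comm {a b : G} (h : Commute a b) (j : Bool) : Commute a (pw j b) := by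
  cases j
  · exact Commute.one_right _
  · exact h

theorem pw_comm2 {a b : G} (h : Commute a b) (i j : Bool) : Commute (pw i a) (pw j b) :=
  pw_comm (pw_comm h.symm i).symm j

theorem pw_mem {H : Subgroup G} {g : G} (h : g ∈ H) (i : Bool) : pw i g ∈ H := by
  cases i
  · exact one_mem _
  · exact h

/-- the normal form of the elements of `T₀` -/
def N (t z a1 a2 f : G) (i j k l m : Bool) : G := pw i a1 * pw j a2 * pw k z * pw l t * pw m f

theorem Rl.mul (h : Rl t z a1 a2 f) (i j k l m i' j' k' l' m' : Bool) :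
    N t z a1 a2 f i j k l m * N t z a1 a2 f i' j' k' l' m' =
      N t z a1 a2 f (xor i i') (xor j j') (xor (xor (j && i') k) k') (xor l l') (xor m m') := by
  have e : pw j a2 * pw i' a1 = pw i' a1 * pw j a2 * pw (j && i') z := by
    cases j <;> cases i' <;> simp [pw, h.r]
  have lc : ∀ {a b : G}, Commute a b → ∀ c, a * (b * c) = b * (a * c) := fun h c => h.left_comm c
  have z1 : Commute z a1 := h.c1
  have z2 : Commute z a2 := h.c2
  simp only [N, ← pw_mul h.s1, ← pw_mul h.s2, ← pw_mul h.z2, ← pw_mul h.t2, ← pw_mul h.f2, mul_assoc]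
  rw [lc (pw_comm2 h.fa1 m i'), lc (pw_comm2 h.ta1 l i'), lc (pw_comm2 z1 k i'), ← mul_assoc (pw j a2), e,
    mul_assoc, mul_assoc, lc (pw_comm2 h.fa2 m j'), lc (pw_comm2 h.ta2 l j'), lc (pw_comm2 z2 k j'),
    lc (pw_comm2 z2 (j && i') j'), lc (pw_comm2 h.fz m k'), lc (pw_comm2 h.tz l k'),
    lc (pw_comm2 h.tf.symm m l')]

/-- an element that normalizes `T₀` and centralizes `z, f` and `T₀/⟨z, f⟩` -/
structure El (t z a1 a2 f y : G) (p q r s u v g k : Bool) : Prop where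
  yz : Commute y z
  yf : Commute y f
  yt : y * t = t * (pw p z * pw q f) * y
  y1 : y * a1 = a1 * (pw r z * pw s f) * y
  y2 : y * a2 = a2 * (pw u z * pw v f) * y
  yy : y * y = pw g z * pw k f

variable {p q r s u v g k p' q' r' s' u' v' g' k' : Bool}

theorem Rl.vv (h : Rl t z a1 a2 f) (p q : Bool) : pw p z * pw q (f * z) = pw (xor p q) z * pw q f := by
  rw [← pw_mul h.z2, mul_assoc]
  cases q <;> simp [pw, h.fz.eq]

theorem El.symm (h : Rl t z a1 a2 f) (e : El t z a2 a1 (f * z) y p q r s u v g k) :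
    El t z a1 a2 f y (xor p q) q (xor u v) v (xor r s) s (xor g k) k where
  yz := e.yz
  yf := by simpa using e.yf.mul_right e.yz.inv_right
  yt := h.vv _ _ ▸ e.yt
  y1 := h.vv _ _ ▸ e.y2
  y2 := h.vv _ _ ▸ e.y1
  yy := h.vv _ _ ▸ e.yy

theorem El.act (h : Rl t z a1 a2 f) (e : El t z a1 a2 f y p q r s u v g k) (i j c l m : Bool) :
    y * N t z a1 a2 f i j c l m = N t z a1 a2 f i j (xor (xor (xor (i && r) (j && u)) c) (l && p)) l
      (xor (xor (xor (i && s) (j && v)) (l && q)) m) * y := by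
  have e1 : y * pw i a1 = N t z a1 a2 f i false (i && r) false (i && s) * y := by
    cases i <;> simp [N, pw, e.y1, mul_assoc]
  have e2 : y * pw j a2 = N t z a1 a2 f false j (j && u) false (j && v) * y := by
    cases j <;> simp [N, pw, e.y2, mul_assoc]
  have e3 : y * pw c z = N t z a1 a2 f false false c false false * y := by
    rw [(pw_comm e.yz c).eq]; simp [N, pw]
  have e4 : y * pw l t = N t z a1 a2 f false false (l && p) l (l && q) * y := by
    cases l
    · simp [N, pw]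
    · have := (pw_comm h.tz p).left_comm (pw q f)
      simp only [N, Bool.true_and, pw, cond_true, cond_false, one_mul, mul_assoc _ t] at this ⊢
      rw [← this]; exact e.yt
  have e5 : y * pw m f = N t z a1 a2 f false false false false m * y := by
    rw [(pw_comm e.yf m).eq]; simp [N, pw]
  conv_lhs => rw [N, ← mul_assoc, ← mul_assoc, ← mul_assoc, ← mul_assoc, e1, mul_assoc _ y, e2, ← mul_assoc,
    mul_assoc _ y, e3, ← mul_assoc, mul_assoc _ y, e4, ← mul_assoc, mul_assoc _ y, e5, ← mul_assoc, h.mul, h.mul,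
    h.mul, h.mul]
  simp

theorem Rl.v_mul (h : Rl t z a1 a2 f) (p q p' q' : Bool) :
    pw p z * pw q f * (pw p' z * pw q' f) = pw (xor p p') z * pw (xor q q') f := by
  simpa [N, pw] using h.mul false false p false q false false p' false q'

theorem El.cv (e : El t z a1 a2 f y p q r s u v g k) (i j : Bool) : Commute y (pw i z * pw j f) :=
  (pw_comm e.yz i).mul_right (pw_comm e.yf j)

theorem El.mul (h : Rl t z a1 a2 f) (e : El t z a1 a2 f y p q r s u v g k)
    (e' : El t z a1 a2 f y' p' q' r' s' u' v' g' k') (c : Commute y y') :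
    El t z a1 a2 f (y * y') (xor p p') (xor q q') (xor r r') (xor s s') (xor u u') (xor v v') (xor g g')
      (xor k k') := by
  have key : ∀ {a : G} {i j i' j' : Bool}, y * a = a * (pw i z * pw j f) * y →
      y' * a = a * (pw i' z * pw j' f) * y' → y * y' * a = a * (pw (xor i i') z * pw (xor j j') f) * (y * y') :=
    fun {a i j i' j'} e1 e2 => by
      rw [mul_assoc, e2, ← mul_assoc, ← mul_assoc, e1, mul_assoc _ y, (e.cv i' j').eq, ← h.v_mul]
      group
  refine ⟨e.yz.mul_left e'.yz, e.yf.mul_left e'.yf, key e.yt e'.yt, key e.y1 e'.y1, key e.y2 e'.y2, ?_⟩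
  rw [← h.v_mul, ← e.yy, ← e'.yy, mul_assoc, ← mul_assoc y', ← c.eq]
  group

theorem El.norm [Finite G] (e : El t z a1 a2 f y p q r s u v g k) : y ∈ 𝒩(AA t z a1 f) := by
  have hz : z ∈ AA t z a1 f := subset_closure (by simp)
  have hf : f ∈ AA t z a1 f := subset_closure (by simp)
  refine mem_norm_of_cj_le ?_
  rw [cj_def, map_le_iff_le_comap, AA, closure_le]
  rintro _ (rfl | rfl | rfl | rfl) <;> change y * _ * y⁻¹ ∈ AA _ _ _ _
  · rw [e.yz.eq, mul_inv_cancel_right]; exact hz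
  · rw [e.y1, mul_inv_cancel_right]
    exact mul_mem (subset_closure (by simp)) (mul_mem (pw_mem hz _) (pw_mem hf _))
  · rw [e.yt, mul_inv_cancel_right]
    exact mul_mem (subset_closure (by simp)) (mul_mem (pw_mem hz _) (pw_mem hf _))
  · rw [e.yf.eq, mul_inv_cancel_right]; exact hf

section loc
variable {ρ x b d c : G} {ε l δ η κ : Bool}

theorem el_ce (h : Rl t z a1 a2 f) (e : Ce t z a1 a2 f ρ c η κ) :
    El t z a1 a2 f c false true false false false κ false η where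
  yz := e.cz
  yf := e.cf
  yt := by rw [← mul_inv_eq_iff_eq_mul, e.ct]; simp [pw]
  y1 := by rw [e.ca]; simp [pw]
  y2 := by
    calc c * a2 = a2 * (a2 * c * a2) := by rw [← mul_assoc, ← mul_assoc, h.s2, one_mul]
      _ = _ := by rw [e.ac, (pw_comm (e.cf : Commute c f) κ).eq]; simp [pw, mul_assoc]
  yy := by rw [e.cc]; simp [pw]

theorem el_sym (h : Rl t z a1 a2 f) (e : Sym t z a1 a2 f ρ b d δ) :
    El t z a1 a2 f b true true false true δ δ false false := by
  have k : ∀ {a a' : G}, b * a * b = a' → b * a = a' * b := fun e1 => by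
    rw [← e1, mul_assoc, e.bb, mul_one]
  refine ⟨e.bz, e.bf, k e.bt, by simpa [pw] using k e.ba, ?_, by simpa [pw] using e.bb⟩
  have e1 := e.sb
  cases δ
  · simp only [pw, cond_false, mul_one] at e1 ⊢
    calc b * a2 = a2 * (a2 * b * a2) := by rw [← mul_assoc, ← mul_assoc, h.s2, one_mul]
      _ = _ := by rw [e1]
  · simp only [pw, cond_true] at e1 ⊢
    have e2 : b * (a2 * t) = a2 * t * b := by
      calc b * (a2 * t) = a2 * t * (a2 * t * b * (a2 * t)) := by
            rw [show a2 * t * (a2 * t * b * (a2 * t)) = a2 * (t * a2) * t * b * (a2 * t) by group, h.ta2.eq,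
              ← mul_assoc a2 a2, h.s2, one_mul, h.t2, one_mul]
        _ = _ := by rw [e1]
    calc b * a2 = b * (a2 * t) * t := by rw [mul_assoc, mul_assoc, h.t2, mul_one]
      _ = _ := by rw [e2, mul_assoc, k e.bt, mul_assoc a2, ← mul_assoc t, ← mul_assoc t, h.t2, one_mul, mul_assoc a2]

theorem el_lin (h : Rl t z a1 a2 f) (e : Lin t z a1 a2 f ρ x ε l) :
    El t z a1 a2 f (x * (a2 * x * a2)) true false false false false ε l ε := by
  have xz : Commute x z := e.xz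
  have xa : Commute x a1 := e.xa
  have xf : Commute x f := e.xf
  have z2 : Commute a2 z := (h.c2 : Commute z a2).symm
  have xt : x * t = t * a1 * x := by rw [← e.xt, inv_mul_cancel_right]
  have r' : a1 * a2 = a2 * a1 * z := h.symm.r
  have x'z : Commute (a2 * x * a2) z := (z2.mul_left xz).mul_left z2
  have x'f : Commute (a2 * x * a2) f := (h.fa2.symm.mul_left xf).mul_left h.fa2.symm
  have x'a : Commute (a2 * x * a2) a1 := by
    calc a2 * x * a2 * a1 = a2 * x * a1 * (a2 * z) := by rw [mul_assoc _ a2, h.r]; group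
      _ = a2 * a1 * (x * z) * a2 := by rw [mul_assoc a2, xa.eq, z2.eq]; group
      _ = _ := by rw [xz.eq, ← mul_assoc, ← r']; group
  have x't : a2 * x * a2 * t = t * (a1 * z) * (a2 * x * a2) := by
    calc a2 * x * a2 * t = a2 * (x * t) * a2 := by rw [mul_assoc _ a2, ← h.ta2.eq]; group
      _ = t * (a2 * a1) * x * a2 := by rw [xt, ← mul_assoc, ← mul_assoc, ← h.ta2.eq]; group
      _ = _ := by rw [h.r, mul_assoc a1, z2.eq]; group
  have x'x' : a2 * x * a2 * (a2 * x * a2) = pw ε f * pw l (a1 * z) := by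
    calc _ = a2 * x * (a2 * a2) * x * a2 := by group
      _ = a2 * (pw ε f * pw l a1) * a2 := by rw [h.s2, mul_one, mul_assoc a2, e.xx]
      _ = pw ε f * (a2 * pw l a1 * a2) := by rw [← mul_assoc, (pw_comm h.fa2.symm ε).eq]; group
      _ = _ := by
        cases l
        · simp [pw, h.s2]
        · simp only [pw, cond_true]
          rw [h.r, mul_assoc _ z, ← z2.eq, mul_assoc a1, ← mul_assoc a2, h.s2, one_mul]
  have e1 := e.xx'
  have ff := pw_mul h.f2 ε ε
  rw [Bool.xor_self] at ff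
  have f1 := pw_comm x'f ε
  have f2 := pw_comm xf ε
  have e2 : a2 * (x * (a2 * x * a2)) * a2 = a2 * x * a2 * x := by
    rw [show a2 * (x * (a2 * x * a2)) * a2 = a2 * x * a2 * x * (a2 * a2) by group, h.s2, mul_one]
  generalize a2 * x * a2 = x' at *
  have e3 : x' * x = pw ε f * (x * x') := by
    rw [e1, (f1.mul_left f2).eq, ← mul_assoc, ff]; simp [pw]
  refine ⟨xz.mul_left x'z, xf.mul_left x'f, ?_, ?_, ?_, ?_⟩
  · rw [mul_assoc, x't, ← mul_assoc, ← mul_assoc, xt, mul_assoc _ x, (xa.mul_right xz).eq, mul_assoc t,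
      ← mul_assoc a1, ← mul_assoc a1, h.s1]
    simp [pw, mul_assoc]
  · simpa [pw] using (xa.mul_left x'a).eq
  · calc x * x' * a2 = a2 * (a2 * (x * x') * a2) := by rw [← mul_assoc, ← mul_assoc, h.s2, one_mul]
      _ = _ := by rw [e2, e3]; simp [pw, mul_assoc]
  · calc x * x' * (x * x') = x * (x' * x) * x' := by group
      _ = pw ε f * (x * x) * (x' * x') := by rw [e3, ← mul_assoc, f2.eq]; group
      _ = _ := by
        rw [e.xx, x'x', ← mul_assoc (pw ε f), ff, ← mul_assoc, mul_assoc _ (pw l a1), ← (pw_comm2 h.fa1 ε l).eq,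
          ← (pw_comm2 h.fz ε l).eq]
        cases l <;> simp [pw, mul_assoc, ← mul_assoc a1, h.s1]

theorem c_lin (h : Rl t z a1 a2 f) (e : El t z a1 a2 f c false true false false false κ false η)
    (xf : Commute x f) (cx : Commute c x) : Commute (x * (a2 * x * a2)) c := by
  refine cx.symm.mul_left (Commute.symm ?_)
  have e1 : c * a2 = a2 * pw κ f * c := by simpa [pw] using e.y2
  have ff := pw_mul h.f2 κ κ
  rw [Bool.xor_self] at ff
  calc c * (a2 * x * a2) = c * a2 * x * a2 := by group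
    _ = a2 * pw κ f * (c * x) * a2 := by rw [e1]; group
    _ = a2 * (pw κ f * x) * (c * a2) := by rw [cx.eq]; group
    _ = a2 * x * (pw κ f * a2) * pw κ f * c := by rw [e1, ← (pw_comm xf κ).eq]; group
    _ = a2 * x * a2 * (pw κ f * pw κ f) * c := by rw [← (pw_comm h.fa2.symm κ).eq]; group
    _ = _ := by rw [ff]; simp [pw]

end loc

variable [Finite G] {F O K T C0 P1 P2 : Subgroup G}

theorem rl (h : CB F O K T C0 t z a1 a2 f) : Rl t z a1 a2 f where
  toD8 := h.toD8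
  t2 := h.t2
  f2 := h.f2
  ta1 := (mem_cent1.1 (h.sylT.1 h.a1T)).symm
  ta2 := (mem_cent1.1 (h.sylT.1 h.a2T)).symm
  tf := (mem_cent1.1 (h.sylT.1 h.fT)).symm
  fa1 := h.fa1
  fa2 := h.fa2

theorem inj (h : CB F O K T C0 t z a1 a2 f) {i j c l m i' j' c' l' m' : Bool}
    (e : N t z a1 a2 f i j c l m = N t z a1 a2 f i' j' c' l' m') :
    i = i' ∧ j = j' ∧ c = c' ∧ l = l' ∧ m = m' := h.toCW.nf_inj (Or.inl h.f2) e

theorem El.mem (e : El t z a1 a2 f y p q r s u v g k) (sh : Share P1 P2 t z a1 a2 f)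
    (h1 : SylIn 2 P1 𝒩(AA t z a1 f)) (h2 : SylIn 2 P2 𝒩(AA t z a2 (f * z))) (hy : y ∈ P2) : y ∈ P1 := by
  have := H42.SylIn.eq_of_le sh (R := 𝒩(AA t z a1 f) ⊓ P2) h2.isP.to_inf_right (inf_le_inf_left _ h2.1)
    (inf_le_inf_right _ h1.1)
  exact (this.le ⟨e.norm, hy⟩).1

theorem El.cmp (h : CB F O K T C0 t z a1 a2 f) (e : El t z a1 a2 f y p q r s u v g k)
    (e' : El t z a1 a2 f y' p q r' s' u' v' g' k') (h1 : SylIn 2 P1 𝒩(AA t z a1 f))
    (hT : TT t a1 a2 f ≤ P1) (hy : y ∈ P1) (hy' : y' ∈ P1) :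
    ∃ i j c l m, y' = N t z a1 a2 f i j c l m * y ∧ s' = s ∧ v' = v ∧ r' = xor r j ∧ u' = xor u i ∧
      g' = xor (xor (xor (xor g (i && r)) (j && u)) (l && p)) (i && j) ∧
      k' = xor (xor (xor k (i && s)) (j && v)) (l && q) := by
  have R := rl h
  have e1 := H42.SylIn.eq_of_le h.sylN (R := 𝒞[t] ⊓ P1) h1.isP.to_inf_right (inf_le_inf_left _ h1.1)
    (le_inf (h.sylN.1.trans inf_le_left) hT)
  have e2 : y⁻¹ * y' ∈ 𝒞[t] := by
    rw [mem_cent1, mul_assoc, e'.yt, ← mul_assoc, ← mul_inv_cancel_right (t * _) y, ← e.yt]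
    group
  obtain ⟨i, j, c, l, m, hw⟩ := (h.toCW.nf (Or.inl h.f2)).1 (e1.le ⟨e2, P1.mul_mem (P1.inv_mem hy) hy'⟩)
  replace hw : y' = _ := (inv_mul_eq_iff_eq_mul.1 hw).trans (e.act R i j c l m)
  generalize xor (xor (xor (i && r) (j && u)) c) (l && p) = c' at hw
  generalize xor (xor (xor (i && s) (j && v)) (l && q)) m = m' at hw
  have n1 : N t z a1 a2 f true false false false false = a1 := by simp [N, pw]
  have n2 : N t z a1 a2 f false true false false false = a2 := by simp [N, pw]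
  have nv : ∀ i j, pw i z * pw j f = N t z a1 a2 f false false i false j := fun i j => by simp [N, pw]
  have k1 := e'.act R true false false false false
  have k2 := e'.act R false true false false false
  have k3 := e'.yy
  rw [hw, mul_assoc, e.act R, ← mul_assoc, ← mul_assoc, R.mul, R.mul] at k1 k2
  rw [hw, mul_assoc, ← mul_assoc y, e.act R, mul_assoc, e.yy, nv, nv, R.mul, R.mul] at k3
  obtain ⟨-, -, k4, -, k5⟩ := inj h (mul_right_cancel k1)
  obtain ⟨-, -, k6, -, k7⟩ := inj h (mul_right_cancel k2)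
  obtain ⟨-, -, k8, -, k9⟩ := inj h k3
  simp only [Bool.and_true, Bool.true_and, Bool.false_and, Bool.and_false, Bool.xor_false,
    Bool.false_xor] at k4 k5 k6 k7 k8 k9
  refine ⟨i, j, c', l, m', hw, ?_, ?_, ?_, ?_, ?_, ?_⟩
  · clear * - k5; revert m' s s'; decide
  · clear * - k7; revert m' v v'; decide
  · clear * - k4; revert j c' r r'; decide
  · clear * - k6; revert i c' u u'; decide
  · rw [← k8, Bool.and_comm j i]
    generalize (i && r) = A, (j && u) = B, (l && p) = C, (i && j) = D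
    clear * -; revert g c' A B C D; decide
  · rw [← k9]
    generalize (i && s) = A, (j && v) = B, (l && q) = C
    clear * -; revert k m' A B C; decide

theorem El.comm (h : CB F O K T C0 t z a1 a2 f) (e : El t z a1 a2 f y p q r s u v g k)
    (e' : El t z a1 a2 f y' p' q' r' s' u' v' g' k') (c0 : Commute y y') {i j c l m i' j' c' l' m' : Bool}
    (c1 : Commute (N t z a1 a2 f i j c l m * y) (N t z a1 a2 f i' j' c' l' m' * y')) :
    xor (xor (xor (j && i') (i' && r)) (j' && u)) (l' && p) =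
      xor (xor (xor (j' && i) (i && r')) (j && u')) (l && p') ∧
    xor (xor (i' && s) (j' && v)) (l' && q) = xor (xor (i && s') (j && v')) (l && q') := by
  have R := rl h
  have e1 := c1.eq
  rw [mul_assoc, ← mul_assoc y, e.act R, mul_assoc _ y, ← mul_assoc, R.mul, mul_assoc _ y', ← mul_assoc y',
    e'.act R, mul_assoc _ y', ← mul_assoc _ _ (y' * y), R.mul, c0.eq] at e1
  obtain ⟨-, -, k1, -, k2⟩ := inj h (mul_right_cancel e1)
  constructor
  · revert k1
    generalize (j && i') = A, (i' && r) = B, (j' && u) = C, (l' && p) = D, (j' && i) = A', (i && r') = B',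
      (j && u') = C', (l && p') = D'
    clear * -; revert c c' A B C D A' B' C' D'; decide +kernel
  · revert k2
    generalize (i' && s) = B, (j' && v) = C, (l' && q) = D, (i && s') = B', (j && v') = C', (l && q') = D'
    clear * -; revert m m' B C D B' C' D'; decide +kernel

theorem TT_le {X : Set G} (h : ({a1, a2, t, f} : Set G) ⊆ X) : TT t a1 a2 f ≤ closure X := closure_mono h

theorem El.shape (e : El t z a1 a2 f y p q r s u v g k) (c m : Bool) :
    pw c z * pw m f * y = y * pw c z * pw m f := by rw [← (e.cv c m).eq, mul_assoc]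

end CmpX

open CmpX

variable [Finite G] {F O K T C0 P P1 P2 S : Subgroup G}
  {t z a a' a1 a2 f : G}

variable {ρ1 ρ2 u x1 x2 b1 b2 d1 d2 c1 c2 : G} {ε1 ε2 l1 l2 η1 η2 κ κ1 κ2 δ1 δ2 : Bool}

theorem cmp25 (h : CB F O K T C0 t z a1 a2 f) (s1 : L2 P1 t z a1 a2 f ρ1 u κ)
    (s2 : L5 P2 t z a2 a1 (f * z) ρ2 b2 d2 δ2) (sh : Share P1 P2 t z a1 a2 f) :
    κ = true ∧ δ2 = false ∧ ∃ i j, b2 = a1 * u * pw i z * pw j f := by
  have R := rl h
  have e1 := el_ce R s1.toCe
  have e2 := (el_sym R.symm s2.toSym).symm R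
  obtain ⟨i, j, c, l, m, hw, k⟩ := e1.cmp h e2 s1.sylP (s1.gen ▸ TT_le (by simp [Set.insert_subset_iff]))
    (s1.gen ▸ subset_closure (by simp)) (e2.mem sh s1.sylP s2.sylP (s2.gen ▸ subset_closure (by simp)))
  obtain ⟨rfl, rfl, rfl, rfl, rfl⟩ : κ = true ∧ δ2 = false ∧ i = true ∧ j = false ∧ l = false := by
    clear * - k; revert κ δ2 i j l; decide +kernel
  refine ⟨rfl, rfl, c, m, ?_⟩
  rw [hw, mul_assoc a1, mul_assoc a1, ← e1.shape]
  simp [N, pw, mul_assoc]

theorem cmp44 (h : CB F O K T C0 t z a1 a2 f) (s1 : L4 P1 t z a1 a2 f ρ1 x1 ε1 l1)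
    (s2 : L4 P2 t z a2 a1 (f * z) ρ2 x2 ε2 l2) (sh : Share P1 P2 t z a1 a2 f) :
    ε1 = false ∧ ε2 = false ∧ ∃ i j,
      x2 * (a1 * x2 * a1) = pw (xor l1 l2) t * (x1 * (a2 * x1 * a2)) * pw i z * pw j f := by
  have R := rl h
  have e1 := el_lin R s1.toLin
  have e2 := (el_lin R.symm s2.toLin).symm R
  have m1 : ∀ {g}, g ∈ ({z, a1, a2, t, f, x1} : Set G) → g ∈ P1 := fun k => s1.gen ▸ subset_closure k
  have m2 : ∀ {g}, g ∈ ({z, a2, a1, t, f * z, x2} : Set G) → g ∈ P2 := fun k => s2.gen ▸ subset_closure k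
  obtain ⟨i, j, c, l, m, hw, k⟩ := e1.cmp h e2 s1.sylP (s1.gen ▸ TT_le (by simp [Set.insert_subset_iff]))
    (mul_mem (m1 (by simp)) (mul_mem (mul_mem (m1 (by simp)) (m1 (by simp))) (m1 (by simp))))
    (e2.mem sh s1.sylP s2.sylP
      (mul_mem (m2 (by simp)) (mul_mem (mul_mem (m2 (by simp)) (m2 (by simp))) (m2 (by simp)))))
  obtain ⟨rfl, rfl, rfl, rfl, rfl⟩ : ε1 = false ∧ ε2 = false ∧ i = false ∧ j = false ∧ l = xor l1 l2 := by
    clear * - k; revert ε1 ε2 l1 l2 i j l; decide +kernel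
  refine ⟨rfl, rfl, c, m, ?_⟩
  rw [hw, mul_assoc (pw _ t), mul_assoc (pw _ t), ← e1.shape, N, mul_assoc _ (pw c z),
    ← (pw_comm2 R.tz _ c).eq]
  simp [pw, mul_assoc]

theorem cmp66 (h : CB F O K T C0 t z a1 a2 f) (s1 : L6 P1 t z a1 a2 f ρ1 x1 c1 ε1 l1 η1 κ1)
    (s2 : L6 P2 t z a2 a1 (f * z) ρ2 x2 c2 ε2 l2 η2 κ2) (sh : Share P1 P2 t z a1 a2 f) :
    ε1 = false ∧ ε2 = false ∧ κ1 = false ∧ κ2 = false ∧ l2 = l1 ∧ η1 = l1 ∧ η2 = l1 ∧
      (∃ i j, x2 * (a1 * x2 * a1) = x1 * (a2 * x1 * a2) * pw i z * pw j f) ∧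
      ∃ i j, c2 = x1 * (a2 * x1 * a2) * c1 * pw i z * pw j f := by
  have R := rl h
  have e1 := el_lin R s1.toLin
  have e2 := (el_lin R.symm s2.toLin).symm R
  have e3 := el_ce R s1.toCe
  have e4 := (el_ce R.symm s2.toCe).symm R
  have q1 := c_lin R e3 s1.xf s1.cx
  have q2 := c_lin R.symm (el_ce R.symm s2.toCe) s2.xf s2.cx
  have e5 := e1.mul R e3 q1
  have m1 : ∀ {g}, g ∈ ({z, a1, a2, t, f, x1, c1} : Set G) → g ∈ P1 := fun k => s1.gen ▸ subset_closure k
  have m2 : ∀ {g}, g ∈ ({z, a2, a1, t, f * z, x2, c2} : Set G) → g ∈ P2 := fun k => s2.gen ▸ subset_closure k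
  have m3 : x1 * (a2 * x1 * a2) ∈ P1 :=
    mul_mem (m1 (by simp)) (mul_mem (mul_mem (m1 (by simp)) (m1 (by simp))) (m1 (by simp)))
  obtain ⟨i, j, c, l, m, hw, k⟩ := e1.cmp h e2 s1.sylP (s1.gen ▸ TT_le (by simp [Set.insert_subset_iff])) m3
    (e2.mem sh s1.sylP s2.sylP
      (mul_mem (m2 (by simp)) (mul_mem (mul_mem (m2 (by simp)) (m2 (by simp))) (m2 (by simp)))))
  obtain ⟨i', j', c', l', m', hw', k'⟩ := e5.cmp h e4 s1.sylP (s1.gen ▸ TT_le (by simp [Set.insert_subset_iff]))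
    (mul_mem m3 (m1 (by simp))) (e4.mem sh s1.sylP s2.sylP (m2 (by simp)))
  have k'' := e1.comm h e5 ((Commute.refl _).mul_right q1) (hw ▸ hw' ▸ q2)
  obtain ⟨rfl, rfl, rfl, rfl, rfl, rfl, rfl, rfl, rfl, rfl, rfl, rfl, rfl⟩ : ε1 = false ∧ ε2 = false ∧
      κ1 = false ∧ κ2 = false ∧ l2 = l1 ∧ η1 = l1 ∧ η2 = l1 ∧ i = false ∧ j = false ∧ l = false ∧
      i' = false ∧ j' = false ∧ l' = false := by
    clear * - k k' k''
    simp only [Bool.false_xor, Bool.xor_false, Bool.and_false, Bool.and_true, Bool.xor_self] at k k' k''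
    obtain ⟨rfl, rfl, rfl, rfl, k5, k6⟩ := k
    obtain ⟨rfl, k1, rfl, rfl, k7, k8⟩ := k'
    revert l1 l2 η1 η2 κ1 l l'; decide +kernel
  refine ⟨rfl, rfl, rfl, rfl, rfl, rfl, rfl, ⟨c, m, ?_⟩, c', m', ?_⟩
  · rw [hw, ← e1.shape]; simp [N, pw]
  · rw [hw', ← e5.shape]; simp [N, pw]

theorem cmp67 (h : CB F O K T C0 t z a1 a2 f) (s1 : L6 P1 t z a1 a2 f ρ1 x1 c1 ε1 l1 η1 κ1)
    (s2 : L7 P2 t z a2 a1 (f * z) ρ2 b2 d2 c2 δ2 η2 κ2) (sh : Share P1 P2 t z a1 a2 f) :
    ε1 = true ∧ l1 = true ∧ η1 = false ∧ κ1 = true ∧ δ2 = false ∧ η2 = true ∧ κ2 = false ∧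
      (∃ i j, b2 = a1 * c1 * pw i z * pw j f) ∧
      ∃ i j, c2 = x1 * (a2 * x1 * a2) * c1 * pw i z * pw j f := by
  have R := rl h
  have e1 := el_lin R s1.toLin
  have e2 := (el_sym R.symm s2.toSym).symm R
  have e3 := el_ce R s1.toCe
  have e4 := (el_ce R.symm s2.toCe).symm R
  have q1 := c_lin R e3 s1.xf s1.cx
  have q2 : Commute b2 c2 := s2.cb.symm
  have e5 := e1.mul R e3 q1
  have m1 : ∀ {g}, g ∈ ({z, a1, a2, t, f, x1, c1} : Set G) → g ∈ P1 := fun k => s1.gen ▸ subset_closure k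
  have m2 : ∀ {g}, g ∈ ({z, a2, a1, t, f * z, b2, d2, c2} : Set G) → g ∈ P2 :=
    fun k => s2.gen ▸ subset_closure k
  have m3 : x1 * (a2 * x1 * a2) ∈ P1 :=
    mul_mem (m1 (by simp)) (mul_mem (mul_mem (m1 (by simp)) (m1 (by simp))) (m1 (by simp)))
  obtain ⟨i, j, c, l, m, hw, k⟩ := e3.cmp h e2 s1.sylP (s1.gen ▸ TT_le (by simp [Set.insert_subset_iff])) (m1 (by simp))
    (e2.mem sh s1.sylP s2.sylP (m2 (by simp)))
  obtain ⟨i', j', c', l', m', hw', k'⟩ := e5.cmp h e4 s1.sylP (s1.gen ▸ TT_le (by simp [Set.insert_subset_iff]))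
    (mul_mem m3 (m1 (by simp))) (e4.mem sh s1.sylP s2.sylP (m2 (by simp)))
  have k'' := e3.comm h e5 (q1.symm.mul_right (Commute.refl _)) (hw ▸ hw' ▸ q2)
  obtain ⟨rfl, rfl, rfl, rfl, rfl, rfl, rfl, rfl, rfl, rfl, rfl, rfl, rfl⟩ : ε1 = true ∧ l1 = true ∧
      η1 = false ∧ κ1 = true ∧ δ2 = false ∧ η2 = true ∧ κ2 = false ∧ i = true ∧ j = false ∧ l = false ∧
      i' = false ∧ j' = false ∧ l' = false := by
    clear * - k k' k''
    simp only [Bool.false_xor, Bool.xor_false, Bool.and_false, Bool.and_true, Bool.xor_self] at k k' k''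
    obtain ⟨rfl, rfl, rfl, rfl, k5, k6⟩ := k
    obtain ⟨rfl, k1, rfl, rfl, k7, k8⟩ := k'
    revert ε1 l1 η1 η2 l l'; decide +kernel
  refine ⟨rfl, rfl, rfl, rfl, rfl, rfl, rfl, ⟨c, m, ?_⟩, c', m', ?_⟩
  · rw [hw, mul_assoc a1, mul_assoc a1, ← e3.shape]; simp [N, pw, mul_assoc]
  · rw [hw', ← e5.shape]; simp [N, pw]

theorem cmp77 (h : CB F O K T C0 t z a1 a2 f) (s1 : L7 P1 t z a1 a2 f ρ1 b1 d1 c1 δ1 η1 κ1)
    (s2 : L7 P2 t z a2 a1 (f * z) ρ2 b2 d2 c2 δ2 η2 κ2) (sh : Share P1 P2 t z a1 a2 f) :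
    δ1 = false ∧ η1 = true ∧ κ1 = true ∧ δ2 = false ∧ η2 = true ∧ κ2 = true ∧
      (∃ i j, b2 = a1 * t * c1 * pw i z * pw j f) ∧
      ∃ i j, c2 = a2 * t * b1 * pw i z * pw j f := by
  have R := rl h
  have e1 := el_sym R s1.toSym
  have e2 := (el_sym R.symm s2.toSym).symm R
  have e3 := el_ce R s1.toCe
  have e4 := (el_ce R.symm s2.toCe).symm R
  have q2 : Commute b2 c2 := s2.cb.symm
  have m1 : ∀ {g}, g ∈ ({z, a1, a2, t, f, b1, d1, c1} : Set G) → g ∈ P1 := fun k => s1.gen ▸ subset_closure k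
  have m2 : ∀ {g}, g ∈ ({z, a2, a1, t, f * z, b2, d2, c2} : Set G) → g ∈ P2 :=
    fun k => s2.gen ▸ subset_closure k
  obtain ⟨i, j, c, l, m, hw, k⟩ := e3.cmp h e2 s1.sylP (s1.gen ▸ TT_le (by simp [Set.insert_subset_iff])) (m1 (by simp))
    (e2.mem sh s1.sylP s2.sylP (m2 (by simp)))
  obtain ⟨i', j', c', l', m', hw', k'⟩ := e1.cmp h e4 s1.sylP (s1.gen ▸ TT_le (by simp [Set.insert_subset_iff]))
    (m1 (by simp)) (e4.mem sh s1.sylP s2.sylP (m2 (by simp)))
  have k'' := e3.comm h e1 s1.cb (hw ▸ hw' ▸ q2)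
  obtain ⟨rfl, rfl, rfl, rfl, rfl, rfl, rfl, rfl, rfl, rfl, rfl, rfl⟩ : δ1 = false ∧ η1 = true ∧ κ1 = true ∧
      δ2 = false ∧ η2 = true ∧ κ2 = true ∧ i = true ∧ j = false ∧ l = true ∧
      i' = false ∧ j' = true ∧ l' = true := by
    clear * - k k' k''
    simp only [Bool.false_xor, Bool.xor_false, Bool.and_false, Bool.and_true, Bool.xor_self] at k k' k''
    obtain ⟨rfl, rfl, rfl, rfl, k5, k6⟩ := k
    obtain ⟨rfl, rfl, rfl, k1, k7, k8⟩ := k'
    revert η1 η2 i' l l'; decide +kernel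
  refine ⟨rfl, rfl, rfl, rfl, rfl, rfl, ⟨c, m, ?_⟩, c', m', ?_⟩
  · rw [hw, mul_assoc (a1 * t), mul_assoc (a1 * t), ← e3.shape, N, mul_assoc _ (pw c z),
      ← (pw_comm2 R.tz _ c).eq]
    simp [pw, mul_assoc]
  · rw [hw', mul_assoc (a2 * t), mul_assoc (a2 * t), ← e1.shape, N, mul_assoc _ (pw c' z),
      ← (pw_comm2 R.tz _ c').eq]
    simp [pw, mul_assoc]

end Cfsg.Agent.DIH.V7
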