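import Cfsg.Agent.DA7.Defs
import Cfsg.Agent.DA7.BasB
import Cfsg.Agent.DIH.TyOneA

/-! Project DIH: the possibilities for the automizer of the elementary abelian group of order 16. -/

set_option autoImplicit false

namespace Cfsg.Agent.DIH.V7

open Subgroup H49 H14
open H42 (SylIn)

namespace Ty1

open _root_.Cfsg.Agent.DIH.Ty1

theorem app_eq (m : M) (v : ℕ) : app m v = v % 2 * m.1 ^^^ v / 2 % 2 * m.2.1 ^^^
    v / 4 % 2 * m.2.2.1 ^^^ v / 8 % 2 * m.2.2.2 := rfl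

@[simp] theorem cmpK_eq (m n : M) (k : M → Bool) : cmpK m n k = k (DIH.Ty1.cmp m n) := by
  simp only [cmpK, force_eq, DIH.Ty1.cmp]

@[simp] theorem eqM_iff {x y : M} : eqM x y = true ↔ x = y := by
  simp [eqM, Prod.ext_iff]

theorem ch_spec {Γ : M → Prop} (hm : ∀ x y, Γ x → Γ y → Γ (DIH.Ty1.cmp x y)) {S L : List M}
    (hS : ∀ s ∈ S, Γ s) (h : ch S L = true) : ∀ x ∈ L, Γ x := by
  induction L with
  | nil => simp
  | cons x L ih =>
    replace h : ((anyL S (eqM x) || anyL S fun s => anyL L fun y => cmpK s y (eqM x)) &&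
      ch S L) = true := h
    simp only [Bool.and_eq_true, Bool.or_eq_true, anyL_iff, cmpK_eq, eqM_iff, exists_eq_right'] at h
    refine List.forall_mem_cons.2 ⟨h.1.elim (hS x) ?_, ih h.2⟩
    rintro ⟨s, a, y, b, rfl⟩
    exact hm _ _ (hS s a) (ih h.2 y b)

theorem exists_g {Γ : M → Prop} (hm : ∀ x y, Γ x → Γ y → Γ (DIH.Ty1.cmp x y)) (h1 : Γ (2, 3, 4, 8))
    (h2 : Γ (1, 3, 4, 8)) (h3 : ∀ m, Γ m → m.1 ∈ r16 ∧ m.2.1 ∈ r16 ∧ m.2.2.1 ∈ r16 ∧ m.2.2.2 ∈ r16)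
    (h4 : ∀ m, Γ m → ∀ v ∈ r16.tail, app m v ≠ 0) (h5 : ∀ m, Γ m → ¬ bad m = true) :
    ∃ g ∈ gs, ∀ m, Γ m ↔ m ∈ g.2 := by
  classical
  have a1 : ∀ g ∈ gs, Γ g.1 → ∀ m ∈ g.2, Γ m := fun g a b =>
    ch_spec hm (by simpa using ⟨h1, h2, b⟩) (allL_iff.1 pass0 g a)
  have a2 : ∀ s ∈ s3, Γ s := fun s a => ch_spec hm (S := [(2, 3, 4, 8), (1, 3, 4, 8)])
    (by simpa using ⟨h1, h2⟩)
    (L := [(1, 2, 4, 8), (3, 2, 4, 8), (2, 1, 4, 8), (3, 1, 4, 8), (2, 3, 4, 8), (1, 3, 4, 8)])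
    (by decide +kernel) s (by revert s; decide)
  have a3 : ∀ m, Γ m → ∀ d x, Γ x → ¬ wd m d x = true := fun m a d => by
    induction d with
    | zero => exact h5
    | succ d ih =>
      intro x b c
      obtain ⟨s, e, c⟩ := (anyL_iff (l := s3)
        (f := fun s => cmpK s x fun y => cmpK m y (wd m d))).1 c
      rw [cmpK_eq, cmpK_eq] at c
      exact ih _ (hm _ _ a (hm _ _ (a2 s e) b)) c
  have a4 : ∀ m, Γ m → m ∈ U := fun m => by
    obtain ⟨a, b, c, d⟩ := m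
    induction a using Nat.strong_induction_on generalizing b with | _ a iha => ?_
    induction b using Nat.strong_induction_on with | _ b ihb => ?_
    intro h
    obtain ⟨b1, b2, b3, b4⟩ := h3 _ h
    have := allL_iff.1 (allL_iff.1 pass1 _ b1) _ b2
    have e1 := hm _ _ h (a2 (2, 1, 4, 8) (by decide))
    have e2 := hm _ _ h h2
    have e3 := h4 _ h 1 (by decide)
    have e4 := h4 _ h 3 (by decide)
    simp only [DIH.Ty1.cmp, app_eq, Nat.reduceMod, Nat.reduceDiv, zero_mul, one_mul, Nat.zero_xor,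
      Nat.xor_zero, Ne, Nat.xor_eq_zero_iff] at e1 e2 e3 e4
    simp only [Bool.or_eq_true, anyL_iff, allL_iff, eqM_iff, exists_eq_right', beq_iff,
      Nat.ble_eq] at this
    rcases this with (e | e) | e
    · exact (pass1' _ (iha b (lt_of_le_of_ne e (Ne.symm e4)) a e1)).1
    · simpa using (pass1' _ (ihb _ (lt_of_le_of_ne e fun e' => e3 (by simpa using e')) e2)).2
    rcases e c b3 with e | e
    · exact absurd (by simp [bad, e]) (h5 _ h)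
    rcases e d b4 with ((⟨v, e, e'⟩ | ⟨k, -, e⟩) | e) | e
    exacts [absurd e' (h4 _ h v e), absurd e (a3 _ h k _ h), e, absurd e (a3 _ h 3 _ h)]
  obtain ⟨g, b1, b2⟩ := Set.exists_max_image {g | g ∈ gs ∧ Γ g.1} (fun g => g.2.length)
    (gs.finite_toSet.subset fun _ h => h.1) ⟨gs.head (by decide), List.head_mem _,
      a2 _ (by decide)⟩
  refine ⟨g, b1.1, fun m => ⟨fun a => ?_, a1 g b1.1 b1.2 m⟩⟩
  have := allL_iff.1 (allL_iff.1 pass2 g b1.1) m (a4 m a)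
  simp only [Bool.or_eq_true, anyL_iff, eqM_iff, exists_eq_right', cmpK_eq, Bool.and_eq_true,
    Bool.not_eq_true', ← Bool.not_eq_true, Nat.blt_eq] at this
  refine this.resolve_right ?_
  rintro ⟨x, b, c | ⟨s, c, h, d, e, e'⟩⟩
  · exact c (a4 _ (hm _ _ a (a1 g b1.1 b1.2 x b)))
  · exact e'.not_ge (b2 h ⟨d, e ▸ hm _ _ (a2 s c) (hm _ _ a (a1 g b1.1 b1.2 x b))⟩)

variable {G : Type*} [Group G] {t z a f n : G}

/-- coordinates -/
def ι (z a t f : G) (v : ℕ) : G := z ^ (v % 2) * a ^ (v / 2 % 2) * t ^ (v / 4 % 2) * f ^ (v / 8 % 2)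

/-- four commuting elements with trivial squares -/
structure Cm (z a t f : G) : Prop where
  z2 : z * z = 1
  a2 : a * a = 1
  t2 : t * t = 1
  f2 : f * f = 1
  za : Commute z a
  zt : Commute z t
  zf : Commute z f
  at' : Commute a t
  af : Commute a f
  tf : Commute t f

theorem pw_xor (h : z * z = 1) (u v : ℕ) : z ^ ((u ^^^ v) % 2) = z ^ (u % 2) * z ^ (v % 2) := by
  rw [Nat.xor_mod_two_eq, ← pow_add, Nat.add_mod, ← pow_eq_pow_mod _ ((sq z).trans h)]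

theorem Cm.xor (C : Cm z a t f) (u v : ℕ) : ι z a t f (u ^^^ v) = ι z a t f u * ι z a t f v := by
  unfold ι
  rw [Nat.xor_div_two, Nat.xor_div_two_pow (n := 2), Nat.xor_div_two_pow (n := 3), pw_xor C.z2,
    pw_xor C.a2, pw_xor C.t2, pw_xor C.f2, Commute.mul_mul_mul_comm (b := f ^ _) (((C.zf.symm.pow_pow
      _ _).mul_right (C.af.symm.pow_pow _ _)).mul_right (C.tf.symm.pow_pow _ _)),
    Commute.mul_mul_mul_comm (b := t ^ _) ((C.zt.symm.pow_pow _ _).mul_right (C.at'.symm.pow_pow _ _)),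
    (C.za.symm.pow_pow _ _).mul_mul_mul_comm]

theorem ι0 : ι z a t f 0 = 1 := by simp [ι]
theorem ι1 : ι z a t f 1 = z := by simp [ι]
theorem ι2 : ι z a t f 2 = a := by simp [ι]
theorem ι4 : ι z a t f 4 = t := by simp [ι]
theorem ι8 : ι z a t f 8 = f := by simp [ι]

theorem ι_mul (v x : ℕ) : ι z a t f (v % 2 * x) = ι z a t f x ^ (v % 2) := by
  rcases Nat.mod_two_eq_zero_or_one v with e | e <;> simp [e, ι0]

/-- the action of an element -/
def Rep (z a t f n : G) (m : M) : Prop := n * z * n⁻¹ = ι z a t f m.1 ∧ n * a * n⁻¹ = ι z a t f m.2.1 ∧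
  n * t * n⁻¹ = ι z a t f m.2.2.1 ∧ n * f * n⁻¹ = ι z a t f m.2.2.2

theorem Cm.rep (C : Cm z a t f) {m : M} (h : Rep z a t f n m) (v : ℕ) :
    n * ι z a t f v * n⁻¹ = ι z a t f (app m v) := by
  rw [app_eq, C.xor, C.xor, C.xor, ι_mul, ι_mul, ι_mul, ι_mul, ← h.1, ← h.2.1, ← h.2.2.1, ← h.2.2.2,
    conj_pow, conj_pow, conj_pow, conj_pow, ι]
  group

theorem Cm.mem (C : Cm z a t f) {l : List ℕ} (h0 : 0 ∈ l) (h1 : ∀ u ∈ l, ∀ v ∈ l, u ^^^ v ∈ l)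
    {S : Set G} (h : ∀ s ∈ S, ∃ v ∈ l, s = ι z a t f v) {y : G} (hy : y ∈ closure S) :
    ∃ v ∈ l, y = ι z a t f v := by
  induction hy using closure_induction with
  | mem x hx => exact h x hx
  | one => exact ⟨0, h0, ι0.symm⟩
  | mul x y _ _ a b =>
    obtain ⟨u, a, rfl⟩ := a
    obtain ⟨v, b, rfl⟩ := b
    exact ⟨_, h1 u a v b, (C.xor u v).symm⟩
  | inv x _ a =>
    obtain ⟨u, a, rfl⟩ := a
    exact ⟨u, a, inv_eq_of_mul_eq_one_right (by rw [← C.xor, Nat.xor_self, ι0])⟩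

theorem ι_mem (v : ℕ) : ι z a t f v ∈ AA t z a f :=
  mul_mem (mul_mem (mul_mem (pow_mem (subset_closure (by simp)) _) (pow_mem (subset_closure
    (by simp)) _)) (pow_mem (subset_closure (by simp)) _)) (pow_mem (subset_closure (by simp)) _)

theorem Cm.memA (C : Cm z a t f) {y : G} (hy : y ∈ AA t z a f) : ∃ v ∈ r16, y = ι z a t f v :=
  C.mem (by decide) (by decide) (by
    rintro s (rfl | rfl | rfl | rfl)
    exacts [⟨1, by decide, ι1.symm⟩, ⟨2, by decide, ι2.symm⟩, ⟨4, by decide, ι4.symm⟩,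
      ⟨8, by decide, ι8.symm⟩]) hy

theorem Cm.inj (C : Cm z a t f) (h : Nat.card (AA t z a f) = 16) {u v : ℕ} (hu : u ∈ r16)
    (hv : v ∈ r16) (e : ι z a t f u = ι z a t f v) : u = v := by
  have : Finite (AA t z a f) := Nat.finite_of_card_ne_zero (by omega)
  have h1 := (Nat.bijective_iff_surjective_and_card fun v : {v // v ∈ r16} =>
    (⟨_, ι_mem v⟩ : AA t z a f)).2 ⟨fun y => let ⟨v, a, b⟩ := C.memA y.2
      ⟨⟨v, a⟩, Subtype.ext b.symm⟩, by rw [h, Nat.card_eq_fintype_card]; decide⟩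
  exact congrArg Subtype.val (h1.1 (a₁ := ⟨u, hu⟩) (a₂ := ⟨v, hv⟩) (Subtype.ext e))

theorem norm_of [Finite G] {S : Set G} (h : ∀ s ∈ S, n * s * n⁻¹ ∈ closure S) :
    n ∈ 𝒩(closure S) := mem_normalizer_fintype fun _ hx =>
  (closure_le ((closure S).comap (MulAut.conj n).toMonoidHom)).2 h hx

theorem app_mem {m : M} (h : m.1 ∈ r16 ∧ m.2.1 ∈ r16 ∧ m.2.2.1 ∈ r16 ∧ m.2.2.2 ∈ r16) (v : ℕ) :
    app m v ∈ r16 := by
  have h1 : ∀ u ∈ r16, ∀ v ∈ r16, u ^^^ v ∈ r16 := by decide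
  have h2 : ∀ v, ∀ u ∈ r16, v % 2 * u ∈ r16 := fun v u a => by
    rcases Nat.mod_two_eq_zero_or_one v with e | e <;> simp only [e, zero_mul, one_mul, a]
    decide
  exact h1 _ (h1 _ (h1 _ (h2 _ _ h.1) _ (h2 _ _ h.2.1)) _ (h2 _ _ h.2.2.1)) _ (h2 _ _ h.2.2.2)

end Ty1

open V7.Ty1 _root_.Cfsg.Agent.DIH.Ty1

variable {G : Type*} [Group G] [Finite G] {F O K T C0 P P1 P2 S : Subgroup G}
  {t z a a' a1 a2 f : G}

/-- pure group theory: the twelve possibilities for `Aut_G(A)`; `P₀` is the part of `TyC` about `N(A)` -/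
theorem ty_one {ρ : G} (d : D8 z a a') (s : Sd t z a f ρ) (t2 : t * t = 1) (f2 : f * f = 1)
    (c1 : t * a = a * t) (c2 : t * a' = a' * t) (c3 : f * a = a * f) (c4 : f * a' = a' * f)
    (c5 : t * f = f * t) (tz : ¬ IsConj t z) :
    (Orb t (AA t z a f) {1} ∧ ∀ n ∈ 𝒩(AA t z a f), n * f * n⁻¹ = f) ∨
    Orb t (AA t z a f) {1, f, t * f} ∨ ∃ f', (f' = f ∨ f' = t * f) ∧
      (∀ n ∈ 𝒩(AA t z a f), n * f' * n⁻¹ = f') ∧ 𝒩(AA t z a f) ≤ 𝒩(HH z a f') ∧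
      ((Orb t (AA t z a f) {1, f'} ∧ ∃ u, Act u t z a f' (t * f') z a) ∨
       (Orb t (AA t z a f) {1, z, a, a * z} ∧ ∃ x, Act x t z a f' (t * a) z a) ∨
       (Orb t (AA t z a f) {1, z * f', a * f', a * z * f'} ∧
          ∃ x, Act x t z a f' (t * (a * f')) (z * f') a) ∨
       (Orb t (AA t z a f) (HH z a f') ∧ (∃ u, Act u t z a f' (t * f') z a) ∧
          ((∃ x, Act x t z a f' (t * a) z a) ∨ ∃ x, Act x t z a f' (t * (a * f')) (z * f') a))) := by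
  have hz : z = (a * a')⁻¹ * (a' * a) := by rw [d.r]; group
  have h0 : ∀ x : G, x * a = a * x → x * a' = a' * x → Commute z x := fun x h h' =>
    hz ▸ ((Commute.mul_right h h').inv_right.mul_right (Commute.mul_right h' h)).symm
  have C : Cm z a t f := ⟨d.z2, d.s1, t2, f2, d.c1, h0 t c1 c2, h0 f c3 c4, c1.symm, c3.symm, c5⟩
  have i3 : ι z a t f (2 ^^^ 1) = a * z := by rw [C.xor, ι2, ι1]
  have hN : ∀ n m, Rep z a t f n m → n ∈ 𝒩(AA t z a f) := fun n m h => norm_of (by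
    rintro s (rfl | rfl | rfl | rfl)
    exacts [h.1 ▸ ι_mem _, h.2.1 ▸ ι_mem _, h.2.2.1 ▸ ι_mem _, h.2.2.2 ▸ ι_mem _])
  have h4 : ∀ n m, Rep z a t f n m → ∀ v ∈ r16.tail, app m v ≠ 0 := fun n m h v b e => by
    have := C.rep h v
    rw [e, ι0, conj_eq_one_iff, ← ι0 (z := z) (a := a) (t := t) (f := f)] at this
    exact absurd (C.inj s.card (List.mem_of_mem_tail b) (by decide) this ▸ b) (by decide)
  obtain ⟨g, hg, h⟩ := exists_g (Γ := fun m => (m.1 ∈ r16 ∧ m.2.1 ∈ r16 ∧ m.2.2.1 ∈ r16 ∧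
      m.2.2.2 ∈ r16) ∧ ∃ n, Rep z a t f n m) (fun x y ⟨b, n, e⟩ ⟨_, n', e'⟩ =>
    ⟨⟨app_mem b _, app_mem b _, app_mem b _, app_mem b _⟩, n * n', by
      simp only [Ty1.Rep, DIH.Ty1.cmp, ← C.rep e, ← e'.1, ← e'.2.1, ← e'.2.2.1, ← e'.2.2.2, mul_inv_rev,
        mul_assoc, and_self]⟩)
    ⟨by decide, ρ, s.ρz.trans ι2.symm, s.ρa.trans i3.symm, s.ρt.trans ι4.symm, s.ρf.trans ι8.symm⟩
    ⟨by decide, a', by rw [← d.c2, ι1, mul_inv_cancel_right],
      by rw [d.r, mul_assoc a, ← d.c2, ← mul_assoc, mul_inv_cancel_right, ← i3]; rfl,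
      by rw [← c2, ι4, mul_inv_cancel_right], by rw [← c4, ι8, mul_inv_cancel_right]⟩
    (fun _ h => h.1) (fun m ⟨_, n, e⟩ => h4 n m e) fun m ⟨b, n, e⟩ h => by
      have k1 : IsConj z a := isConj_iff.2 ⟨ρ, s.ρz⟩
      have k2 : IsConj t (ι z a t f m.2.2.1) := isConj_iff.2 ⟨n, e.2.2.1⟩
      simp only [bad, Bool.or_eq_true, Nat.ble_eq, Bool.and_eq_true, beq_iff, Bool.not_eq_true',
        ← Bool.not_eq_true] at h
      rcases h with h | ⟨h, h'⟩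
      · have := h4 n m e 4 (by decide)
        simp only [app_eq, Nat.reduceMod, Nat.reduceDiv, zero_mul, one_mul, Nat.zero_xor,
          Nat.xor_zero] at this
        generalize m.2.2.1 = x at *
        interval_cases x
        exacts [this rfl, tz (by rwa [ι1] at k2), tz (k2.trans (by rw [ι2]; exact k1.symm)),
          tz ((i3 ▸ k2 : IsConj t (a * z)).trans (k1.trans (isConj_iff.2 ⟨ρ, s.ρa⟩)).symm)]
      · have k3 := e.2.2.1
        rw [h, ι4] at k3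
        obtain ⟨k4, k5⟩ := s.fix n (mem_cent1.2 (mul_inv_eq_iff_eq_mul.1 k3)) (hN n m e)
        have k6 : ∀ y ∈ ({z, a} : Set G), ∀ u ∈ r16, n * y * n⁻¹ = ι z a t f u → u ≤ 3 := by
          intro y hy u hu k
          obtain ⟨v, k7, k8⟩ := C.mem (l := [0, 1, 2, 3]) (by decide) (by decide) (by
            rintro s (rfl | rfl)
            exacts [⟨1, by decide, ι1.symm⟩, ⟨2, by decide, ι2.symm⟩])
            ((mem_normalizer_iff.1 k5 y).1 (subset_closure hy))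
          have k9 := (by decide : ∀ v ∈ [0, 1, 2, 3], v ∈ r16 ∧ v ≤ 3) v k7
          exact C.inj s.card hu k9.1 (k.symm.trans k8) ▸ k9.2
        exact h' ⟨⟨C.inj s.card b.2.2.2 (by decide) (e.2.2.2.symm.trans (k4.trans ι8.symm)),
          k6 z (by simp) _ b.1 e.1⟩, k6 a (by simp) _ b.2.1 e.2.1⟩
  have hn : ∀ n ∈ 𝒩(AA t z a f), ∃ m ∈ g.2, Rep z a t f n m := fun n hn => by
    have k : ∀ y ∈ ({z, a, t, f} : Set G), ∃ v ∈ r16, n * y * n⁻¹ = ι z a t f v := fun y hy =>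
      C.memA ((mem_normalizer_iff.1 hn y).1 (subset_closure hy))
    obtain ⟨v1, b1, e1⟩ := k z (by simp)
    obtain ⟨v2, b2, e2⟩ := k a (by simp)
    obtain ⟨v3, b3, e3⟩ := k t (by simp)
    obtain ⟨v4, b4, e4⟩ := k f (by simp)
    exact ⟨(v1, v2, v3, v4), (h _).1 ⟨⟨b1, b2, b3, b4⟩, n, e1, e2, e3, e4⟩, e1, e2, e3, e4⟩
  have ho : ∀ {l : List ℕ} {X : Set G}, orb g.2 l → (∀ y, y ∈ X ↔ ∃ v ∈ l, y = ι z a t f v) →
      Orb t (AA t z a f) X := fun k k' y => Iff.trans ⟨fun ⟨n, b, e⟩ => by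
    obtain ⟨m, b1, b2⟩ := hn n b
    exact ⟨_, k.1 m b1, by rw [C.xor, ι4, ← b2.2.2.1, e, ← mul_assoc, t2, one_mul]⟩,
    fun ⟨v, b, e⟩ => by
      obtain ⟨m, b1, b2⟩ := k.2 v b
      obtain ⟨-, n, b3⟩ := (h m).2 b1
      exact ⟨n, hN n m b3, by rw [b3.2.2.1, b2, C.xor, ι4, e]⟩⟩ (k' y).symm
  have ha : ∀ {c x y w : ℕ}, act g.2 c x y w → ∃ u, Act u t z a (ι z a t f c) (ι z a t f x)
      (ι z a t f y) (ι z a t f w) := fun ⟨m, b, b1, b2, b3, b4⟩ => by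
    obtain ⟨-, n, e⟩ := (h m).2 b
    exact ⟨n, b1 ▸ e.2.2.1, b2 ▸ e.1, b3 ▸ e.2.1, by rw [C.rep e, b4]⟩
  have hf : ∀ {c : ℕ}, (∀ m ∈ g.2, app m c = c) →
      ∀ n ∈ 𝒩(AA t z a f), n * ι z a t f c * n⁻¹ = ι z a t f c := fun k n b => by
    obtain ⟨m, b1, b2⟩ := hn n b
    rw [C.rep b2, k m b1]
  rcases pass3 g hg with ⟨k, k'⟩ | k | ⟨c, hc, k, k'⟩
  · exact .inl ⟨ho k (by simp [ι0]), by simpa only [ι8] using hf k'⟩
  · exact .inr (.inl (ho k (by simp [ι0, ι4, ι8, C.xor, -Nat.reduceXor])))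
  have hH : ∀ y, y ∈ HH z a (ι z a t f c) ↔ ∃ v ∈ hp c, y = ι z a t f v := fun y =>
    ⟨C.mem (by simp [hp])
      ((by decide : ∀ c ∈ [8, 4 ^^^ 8], ∀ u ∈ hp c, ∀ v ∈ hp c, u ^^^ v ∈ hp c) c hc) (by
      rintro s (rfl | rfl | rfl)
      exacts [⟨1, by simp [hp], ι1.symm⟩, ⟨2, by simp [hp], ι2.symm⟩, ⟨c, by simp [hp], rfl⟩]), by
      have k1 : z ∈ HH z a (ι z a t f c) := subset_closure (by simp)
      have k2 : a ∈ HH z a (ι z a t f c) := subset_closure (by simp)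
      have k3 : ι z a t f c ∈ HH z a (ι z a t f c) := subset_closure (by simp)
      rintro ⟨v, b, rfl⟩
      simp only [hp, List.mem_cons, List.not_mem_nil, or_false] at b
      rcases b with rfl | rfl | rfl | rfl | rfl | rfl | rfl | rfl <;>
        simp only [show 3 = 2 ^^^ 1 from rfl, C.xor, ι0, ι1, ι2, one_mem, mul_mem, k1, k2, k3]⟩
  refine .inr (.inr ⟨ι z a t f c, ?_, hf fun m b => (k m b).1, fun n b => norm_of ?_, ?_⟩)
  · simp only [List.mem_cons, List.not_mem_nil, or_false] at hc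
    exact hc.imp (fun e => by rw [e, ι8]) fun e => by rw [e, C.xor, ι4, ι8]
  · obtain ⟨m, b1, b2⟩ := hn n b
    rintro s (rfl | rfl | rfl)
    exacts [(hH _).2 ⟨_, (k m b1).2.1, b2.1⟩, (hH _).2 ⟨_, (k m b1).2.2, b2.2.1⟩,
      (hH _).2 ⟨c, by simp [hp], by rw [C.rep b2, (k m b1).1]⟩]
  rcases k' with ⟨k1, k2⟩ | ⟨k1, k2⟩ | ⟨k1, k2⟩ | ⟨k1, k2, k3⟩
  · exact .inl ⟨ho k1 (by simp [ι0]), by simpa only [C.xor, ι1, ι2, ι4] using ha k2⟩
  · exact .inr (.inl ⟨ho k1 (by simp [ι0, ι1, ι2, show ι z a t f 3 = _ from i3]),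
      by simpa only [C.xor, ι1, ι2, ι4] using ha k2⟩)
  · exact .inr (.inr (.inl ⟨ho k1 (by simp [ι0, ι1, ι2, C.xor, show ι z a t f 3 = _ from i3]),
      by simpa only [C.xor, ι1, ι2, ι4] using ha k2⟩))
  · exact .inr (.inr (.inr ⟨ho k1 hH, by simpa only [C.xor, ι1, ι2, ι4] using ha k2,
      k3.imp (fun k => by simpa only [C.xor, ι1, ι2, ι4] using ha k)
        fun k => by simpa only [C.xor, ι1, ι2, ι4] using ha k⟩))

end Cfsg.Agent.DIH.V7
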