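import Cfsg.Agent.DA7.Defs
import Cfsg.Agent.DA7.TyOne
import Cfsg.Agent.DA7.BasB
import Cfsg.Agent.H25.JLem

/-! Project DIH: the orbits of the conjugates of `t` in `A₁`. -/

set_option autoImplicit false

namespace Cfsg.Agent.DIH.V7

open Subgroup H49 BM
open H42 (SylIn)

variable {G : Type*} [Group G] [Finite G] {F O K T C0 P P1 P2 S : Subgroup G}
  {t z a a' a1 a2 f ρ : G} {φ : Md false →* G}

/-- `E`, `H`, `A` in the model -/
def ttS (b c : Bool) : Subgroup (Md false) where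
  carrier := {v | v.j = false ∧ (v.l = true → b = true) ∧ (v.m = true → c = true)}
  mul_mem' := by
    intro u v
    simp only [Set.mem_setOf_eq]
    revert u v b c
    decide
  one_mem' := by
    simp only [Set.mem_setOf_eq]
    revert b c
    decide
  inv_mem' := by
    intro u
    simp only [Set.mem_setOf_eq]
    revert u b c
    decide

theorem tt_mem {b c : Bool} {v : Md false} :
    v ∈ ttS b c ↔ v.j = false ∧ (v.l = true → b = true) ∧ (v.m = true → c = true) := Iff.rfl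

/-- the action of `ρ` -/
def ttr (v : Md false) : Md false := pw v.i (A1 * Z) * pw v.k A1 * pw v.l Tt * pw v.m Ff

omit [Finite G] in
theorem tt_A (E : Em t z a1 a2 f φ) : AA t z a1 f ≤ (ttS true true).map φ := (closure_le _).2 (by
  rintro _ (rfl | rfl | rfl | rfl)
  exacts [⟨Z, tt_mem.2 (by decide), E.Z⟩, ⟨A1, tt_mem.2 (by decide), E.A1⟩, ⟨Tt, tt_mem.2 (by decide), E.Tt⟩,
    ⟨Ff, tt_mem.2 (by decide), E.Ff⟩])

omit [Finite G] in
theorem tt_H (E : Em t z a1 a2 f φ) : HH z a1 f ≤ (ttS false true).map φ := (closure_le _).2 (by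
  rintro _ (rfl | rfl | rfl)
  exacts [⟨Z, tt_mem.2 (by decide), E.Z⟩, ⟨A1, tt_mem.2 (by decide), E.A1⟩, ⟨Ff, tt_mem.2 (by decide), E.Ff⟩])

omit [Finite G] in
theorem tt_E (E : Em t z a1 a2 f φ) {y : G} (hy : y ∈ closure {z, a1}) : y = 1 ∨ y = z ∨ y = a1 ∨ y = a1 * z := by
  obtain ⟨v, hv, rfl⟩ := (closure_le ((ttS false false).map φ)).2 (by
    rintro _ (rfl | rfl)
    exacts [⟨Z, tt_mem.2 (by decide), E.Z⟩, ⟨A1, tt_mem.2 (by decide), E.A1⟩]) hy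
  have m : ∀ v : Md false, v.j = false ∧ (v.l = true → false = true) ∧ (v.m = true → false = true) →
    v = 1 ∨ v = Z ∨ v = A1 ∨ v = A1 * Z := by decide
  rcases m v (tt_mem.1 hv) with rfl | rfl | rfl | rfl <;> simp [E.Z, E.A1]

omit [Finite G] in
theorem tt_rho (E : Em t z a1 a2 f φ) (s : Rho t z a1 f ρ) {v : Md false} (hv : v.j = false) :
    ρ * φ v * ρ⁻¹ = φ (ttr v) := by
  simp only [ttr, map_mul, pw_map, E.A1, E.Z, E.Tt, E.Ff]
  rw [← s.ρa]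
  nth_rewrite 2 [← s.ρz]
  rw [E.app, hv]
  nth_rewrite 2 [← s.ρt, ← s.ρf]
  simp only [← pw_conj]
  simp [pw, mul_assoc]

theorem tt_norm {s : Set G} {g : G} (h : ∀ x ∈ s, g * x * g⁻¹ ∈ closure s) : g ∈ 𝒩(closure s) :=
  mem_norm_of_cj_le (map_le_iff_le_comap.2 ((closure_le _).2 h))

omit [Finite G] in
theorem tt_gen : z ∈ AA t z a f ∧ a ∈ AA t z a f ∧ t ∈ AA t z a f ∧ f ∈ AA t z a f :=
  ⟨subset_closure (by simp), subset_closure (by simp), subset_closure (by simp), subset_closure (by simp)⟩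

theorem tt_rhoN (s : Rho t z a f ρ) : ρ ∈ 𝒩(AA t z a f) := tt_norm (by
  obtain ⟨k1, k2, k3, k4⟩ := tt_gen (t := t) (z := z) (a := a) (f := f)
  rintro _ (rfl | rfl | rfl | rfl)
  exacts [s.ρz.symm ▸ k2, s.ρa.symm ▸ mul_mem k2 k1, s.ρt.symm ▸ k3, s.ρf.symm ▸ k4])

omit [Finite G] in
theorem tt_nc (E : Em t z a1 a2 f φ) (l : Finset (Md false)) {s : Set G} (e : s = φ '' l) : s.ncard = l.card := by
  rw [e, Set.ncard_image_of_injective _ E.inj, Set.ncard_coe_finset]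

theorem tt_st0 (h : CB F O K T C0 t z a1 a2 f) :
    (𝒞(AA t z a1 f)).relIndex (𝒩(AA t z a1 f) ⊓ 𝒞[t]) = 6 := by
  obtain ⟨φ, E⟩ := exists_em (e := false) h.toCW h.f2
  obtain ⟨ρ, s⟩ := h.sd1
  have R := rel_of (e := false) h.toCW h.f2
  obtain ⟨k1, k2, k3, k4⟩ := tt_gen (t := t) (z := z) (a := a1) (f := f)
  have z1 := h.z1
  have a0 : a1 ≠ 1 := fun e => absurd (E.inj (E.A1.trans (e.trans φ.map_one.symm))) (by decide)
  have az : a1 ≠ z := fun e => absurd (E.inj (E.A1.trans (e.trans E.Z.symm))) (by decide)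
  have hE : ∀ n ∈ 𝒩(AA t z a1 f) ⊓ 𝒞[t], ∀ x ∈ ({z, a1} : Set G), x ≠ 1 →
      n * x * n⁻¹ = z ∨ n * x * n⁻¹ = a1 ∨ n * x * n⁻¹ = a1 * z := fun n hn x hx x1 =>
    (tt_E E (conj_mem_of_norm le_rfl (s.fix n hn.2 hn.1).2 (subset_closure hx))).resolve_left (by simpa using x1)
  have mρ : ρ ∈ 𝒩(AA t z a1 f) ⊓ 𝒞[t] := ⟨tt_rhoN s.toRho, mem_cent1.2 (mul_inv_eq_iff_eq_mul.1 s.ρt)⟩
  have c2 : a2 * a1 * a2⁻¹ = a1 * z := by rw [h.r, mul_assoc a1, ← h.c2]; group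
  have i1 : (𝒞[z]).relIndex (𝒩(AA t z a1 f) ⊓ 𝒞[t]) = 3 := by
    rw [H25.relIndex_cent1_eq_ncard, tt_nc E {Z, A1, A1 * Z}]
    · decide
    simp only [Finset.coe_insert, Finset.coe_singleton, Set.image_insert_eq, Set.image_singleton, map_mul, E.Z, E.A1]
    refine Set.Subset.antisymm ?_ ?_
    · rintro _ ⟨n, hn, rfl⟩
      exact hE n hn z (.inl rfl) z1
    · rintro _ (rfl | rfl | rfl)
      exacts [⟨1, one_mem _, by simp⟩, ⟨ρ, mρ, s.ρz⟩, ⟨ρ * ρ, mul_mem mρ mρ, by rw [← s.ρa, ← s.ρz]; group⟩]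
  have i2 : (𝒞[a1]).relIndex (𝒞[z] ⊓ (𝒩(AA t z a1 f) ⊓ 𝒞[t])) = 2 := by
    rw [H25.relIndex_cent1_eq_ncard, tt_nc E {A1, A1 * Z}]
    · decide
    simp only [Finset.coe_insert, Finset.coe_singleton, Set.image_insert_eq, Set.image_singleton, map_mul, E.Z, E.A1]
    refine Set.Subset.antisymm ?_ ?_
    · rintro _ ⟨n, hn, rfl⟩
      refine (hE n hn.2 a1 (.inr rfl) a0).resolve_left fun e => az ?_
      rwa [mul_inv_eq_iff_eq_mul, ← mem_cent1.1 hn.1, mul_right_inj] at e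
    · rintro _ (rfl | rfl)
      · exact ⟨1, one_mem _, by simp⟩
      refine ⟨a2, ⟨mem_cent1.2 h.c2.symm, tt_norm ?_, mem_cent1.2 R.ta2.symm⟩, c2⟩
      rintro _ (rfl | rfl | rfl | rfl)
      · rwa [← h.c2, mul_inv_cancel_right]
      · exact c2 ▸ mul_mem k2 k1
      · rwa [← R.ta2.eq, mul_inv_cancel_right]
      · rwa [← R.fa2.eq, mul_inv_cancel_right]
  have e : 𝒞(AA t z a1 f) ⊓ (𝒩(AA t z a1 f) ⊓ 𝒞[t]) = 𝒞[a1] ⊓ (𝒞[z] ⊓ (𝒩(AA t z a1 f) ⊓ 𝒞[t])) := by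
    refine le_antisymm (le_inf (inf_le_left.trans (cent_le_cent1 k2))
      (inf_le_inf_right _ (cent_le_cent1 k1))) fun n hn => ⟨?_, hn.2.2⟩
    rw [AA, centralizer_closure]
    rintro _ (rfl | rfl | rfl | rfl)
    exacts [(mem_cent1.1 hn.2.1).symm, (mem_cent1.1 hn.1).symm, (mem_cent1.1 hn.2.2.2).symm,
      (mul_inv_eq_iff_eq_mul.1 (s.fix n hn.2.2.2 hn.2.2.1).1).symm]
  rw [← inf_relIndex_right, e, ← relIndex_mul_relIndex _ _ _ inf_le_right inf_le_right, inf_relIndex_right,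
    inf_relIndex_right, i1, i2]

/-- a conjugate of `t` in `A₁` has stabilizer of order six in `Aut_G(A₁)` -/
theorem CB.stab (h : CB F O K T C0 t z a1 a2 f) {s : G} (hs : s ∈ AA t z a1 f) (hc : IsConj t s) :
    (𝒞(AA t z a1 f)).relIndex (𝒩(AA t z a1 f) ⊓ 𝒞[s]) = 6 := by
  obtain ⟨φ, E⟩ := exists_em (e := false) h.toCW h.f2
  obtain ⟨ρ, sd⟩ := h.sd1
  have m : ∀ u v : Md false, u.j = false → v.j = false → u * v = v * u ∧ u * u = 1 := by decide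
  obtain ⟨k, rfl, hk⟩ := h.toB0.emb hc (R := AA t z a1 f) (IsPGroup.of_card (n := 4) sd.card) fun x hx => by
    obtain ⟨u, hu, rfl⟩ := tt_A E hx
    obtain ⟨v, hv, rfl⟩ := tt_A E hs
    rw [mem_cent1, ← map_mul, ← map_mul, (m u v hu.1 hv.1).1]
  rw [← H42.relIndex_cj k]
  change (cj k _).relIndex (cj k _) = 6
  rw [cj_inf, cj_centralizer, cj_normalizer, cj_cent1]
  rcases h.ea16 hk (fun x hx => by
    obtain ⟨y, hy, rfl⟩ := mem_cj'.1 hx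
    obtain ⟨u, hu, rfl⟩ := tt_A E hy
    rw [conj_mul, ← map_mul, (m u u hu.1 hu.1).2]
    simp) (by rw [← Nat.card_congr (cjEquiv k _).toEquiv, sd.card]) with e | e <;> rw [e]
  exacts [tt_st0 h, tt_st0 h.symm]

theorem tt_len (h : CB F O K T C0 t z a1 a2 f) {s : G} (hs : s ∈ AA t z a1 f) (hc : IsConj t s) :
    (𝒞[s]).relIndex 𝒩(AA t z a1 f) = (𝒞[t]).relIndex 𝒩(AA t z a1 f) := by
  have k : ∀ s ∈ AA t z a1 f, IsConj t s → 6 * (𝒞[s]).relIndex 𝒩(AA t z a1 f) =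
      (𝒞(AA t z a1 f)).relIndex 𝒩(AA t z a1 f) := fun s hs hc => by
    rw [← h.stab hs hc, ← inf_relIndex_left 𝒩(AA t z a1 f) 𝒞[s], relIndex_mul_relIndex _ _ _
      (le_inf (cent_le_norm _) (cent_le_cent1 hs)) inf_le_left]
  have := k s hs hc
  have := k t tt_gen.2.2.1 (IsConj.refl t)
  omega

omit [Finite G] in
theorem tt_orb {A : Subgroup G} {s : Set G} (o : Orb t A s) : (𝒞[t]).relIndex 𝒩(A) = s.ncard := by
  rw [H25.relIndex_cent1_eq_ncard, ← Set.ncard_image_of_injective s (mul_right_injective t)]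
  congr 1
  ext y
  exact ⟨fun k => ⟨t⁻¹ * y, (o _).1 (by rwa [mul_inv_cancel_left]), mul_inv_cancel_left _ _⟩,
    fun ⟨x, hx, e⟩ => e ▸ (o x).2 hx⟩

theorem tt_ge (E : Em t z a1 a2 f φ) (s : Rho t z a1 f ρ) {v : Md false} (hv : v.j = false)
    (h : v.i = true ∨ v.k = true) : 3 ≤ (𝒞[φ v]).relIndex 𝒩(AA t z a1 f) := by
  have m : ∀ v : Md false, v.j = false → v.i = true ∨ v.k = true →
    (ttr v).j = false ∧ ({v, ttr v, ttr (ttr v)} : Finset _).card = 3 := by decide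
  rw [H25.relIndex_cent1_eq_ncard, ← (m v hv h).2, ← tt_nc E _ rfl]
  refine Set.ncard_le_ncard ?_
  simp only [Finset.coe_insert, Finset.coe_singleton, Set.image_insert_eq, Set.image_singleton]
  rintro _ (rfl | rfl | rfl)
  exacts [⟨1, one_mem _, by simp⟩, ⟨ρ, tt_rhoN s, tt_rho E s hv⟩, ⟨ρ * ρ, mul_mem (tt_rhoN s) (tt_rhoN s), by
    rw [← tt_rho E s (m v hv h).1, ← tt_rho E s hv]; group⟩]

theorem tt_TyC (h : CB F O K T C0 t z a1 a2 f) (fx : ∀ n ∈ 𝒩(AA t z a1 f), n * f * n⁻¹ = f)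
    (nH : 𝒩(AA t z a1 f) ≤ 𝒩(HH z a1 f)) {s : Set G} (o : Orb t (AA t z a1 f) s)
    (hs : s.ncard = 2 ∨ 4 ≤ s.ncard) : TyC t z a1 f := by
  obtain ⟨φ, E⟩ := exists_em (e := false) h.toCW h.f2
  obtain ⟨ρ, sd⟩ := h.sd1
  have tz := h.toCW.tz (.inl h.f2)
  have HA : HH z a1 f ≤ AA t z a1 f := closure_mono (by rintro _ (rfl | rfl | rfl) <;> simp)
  have m : ∀ v : Md false, v.j = false → (v.l = true → false = true) → v = 1 ∨ v = Z ∨ ttr v = Z ∨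
    ((ttr v).j = false ∧ ttr (ttr v) = Z) ∨ v = Ff ∨
      ((v.i = true ∨ v.k = true) ∧ v ∈ ({Z * Ff, A1 * Ff, A1 * Z * Ff} : Finset _)) := by decide
  have key : ∀ y ∈ HH z a1 f, IsConj t y → ∃ v : Md false, v.j = false ∧ φ v = y ∧ (v.i = true ∨ v.k = true) ∧
      v ∈ ({Z * Ff, A1 * Ff, A1 * Z * Ff} : Finset _) := fun y hy c => by
    have len := (tt_len h (HA hy) c).trans (tt_orb o)
    obtain ⟨v, hv, rfl⟩ := tt_H E hy
    rcases m v hv.1 hv.2.1 with rfl | rfl | e | ⟨e', e⟩ | rfl | e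
    · exact absurd (by simpa using c) h.t1
    · exact absurd (E.Z ▸ c) tz
    · exact absurd (c.trans (isConj_iff.2 ⟨ρ, by rw [tt_rho E sd.toRho hv.1, e, E.Z]⟩)) tz
    · exact absurd (c.trans (isConj_iff.2 ⟨ρ * ρ, by
        rw [← E.Z, ← e, ← tt_rho E sd.toRho e', ← tt_rho E sd.toRho hv.1]; group⟩)) tz
    · rw [E.Ff, relIndex_eq_one.2 fun n hn => mem_cent1.2 (mul_inv_eq_iff_eq_mul.1 (fx n hn))] at len
      omega
    · exact ⟨v, hv.1, rfl, e⟩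
  refine ⟨fx, nH, fun g hg => ?_⟩
  have c : IsConj t (g * t * g⁻¹) := isConj_iff.2 ⟨g, rfl⟩
  have len := (tt_len h (HA hg) c).trans (tt_orb o)
  obtain ⟨v, hv, e, k, -⟩ := key _ hg c
  have l1 := tt_ge E sd.toRho hv k
  have l2 : (𝒞[g * t * g⁻¹]).relIndex 𝒩(AA t z a1 f) ≤ 3 := by
    rw [H25.relIndex_cent1_eq_ncard, show 3 = ({Z * Ff, A1 * Ff, A1 * Z * Ff} : Finset (Md false)).card by decide,
      ← tt_nc E _ rfl]
    refine Set.ncard_le_ncard ?_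
    rintro _ ⟨n, hn, rfl⟩
    obtain ⟨w, -, e', -, k'⟩ := key _ (conj_mem_of_norm nH hn hg) (c.trans (isConj_iff.2 ⟨n, rfl⟩))
    exact ⟨w, k', e'⟩
  rw [e] at l1
  omega

theorem CB.ty (h : CB F O K T C0 t z a1 a2 f) :
    (Orb t (AA t z a1 f) {1} ∧ ∀ n ∈ 𝒩(AA t z a1 f), n * f * n⁻¹ = f) ∨
    Orb t (AA t z a1 f) {1, f, t * f} ∨ ∃ f', (f' = f ∨ f' = t * f) ∧
      (Ty2 t z a1 f' ∨ Ty4 t z a1 f' ∨ Ty5 t z a1 f' ∨ Ty6 t z a1 f' ∨ Ty7 t z a1 f') := by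
  have R := rel_of (e := false) h.toCW h.f2
  obtain ⟨ρ, sd⟩ := h.sd1
  rcases ty_one h.toD8 sd h.t2 h.f2 R.ta1 R.ta2 R.fa1 R.fa2 R.tf (h.toCW.tz (.inl h.f2)) with
    H | H | ⟨f', hf, fx, nH, H⟩
  · exact .inl H
  · exact .inr (.inl H)
  refine .inr (.inr ⟨f', hf, ?_⟩)
  obtain ⟨h', e⟩ : CB F O K T C0 t z a1 a2 f' ∧ AA t z a1 f = AA t z a1 f' := by
    rcases hf with rfl | rfl
    · exact ⟨h, rfl⟩
    refine ⟨h.tf, le_antisymm ((closure_le _).2 ?_) ((closure_le _).2 ?_)⟩ <;> rintro _ (rfl | rfl | rfl | rfl)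
    exacts [tt_gen.1, tt_gen.2.1, tt_gen.2.2.1, (mul_mem_cancel_left tt_gen.2.2.1).1 tt_gen.2.2.2,
      tt_gen.1, tt_gen.2.1, tt_gen.2.2.1, mul_mem tt_gen.2.2.1 tt_gen.2.2.2]
  rw [e] at fx nH H
  clear e hf sd R h
  obtain ⟨φ, E⟩ := exists_em (e := false) h'.toCW h'.f2
  obtain ⟨ρ, sd⟩ := h'.sd1
  have n2 : ({1, f'} : Set G).ncard = 2 := (tt_nc E {1, Ff} (by simp [E.Ff, Set.image_insert_eq])).trans (by decide)
  have n4 : ({1, z, a1, a1 * z} : Set G).ncard = 4 :=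
    (tt_nc E {1, Z, A1, A1 * Z} (by simp [E.Z, E.A1, Set.image_insert_eq])).trans (by decide)
  have n5 : ({1, z * f', a1 * f', a1 * z * f'} : Set G).ncard = 4 :=
    (tt_nc E {1, Z * Ff, A1 * Ff, A1 * Z * Ff} (by simp [E.Z, E.A1, E.Ff, Set.image_insert_eq])).trans (by decide)
  have n8 : 4 ≤ (HH z a1 f' : Set G).ncard := n4 ▸ Set.ncard_le_ncard (by
    have k1 : z ∈ HH z a1 f' := subset_closure (by simp)
    have k2 : a1 ∈ HH z a1 f' := subset_closure (by simp)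
    rintro _ (rfl | rfl | rfl | rfl)
    exacts [one_mem _, k1, k2, mul_mem k2 k1])
  rcases H with ⟨o, u⟩ | ⟨o, u⟩ | ⟨o, u⟩ | ⟨o, u, x | x⟩
  · have c := tt_TyC h' fx nH o (.inl n2)
    refine .inl ⟨c, o, u, fun g hg => ?_⟩
    have len := ((tt_len h' hg (isConj_iff.2 ⟨g, rfl⟩)).trans (tt_orb o)).trans n2
    obtain ⟨v, hv, e⟩ := tt_A E hg
    have m : ∀ v : Md false, v.j = false → (v.i = true ∨ v.k = true) ∨ v = 1 ∨ v = Ff ∨ v = Tt ∨ v = Tt * Ff := by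
      decide
    rcases m v hv.1 with k | rfl | rfl | rfl | rfl
    · have := tt_ge E sd.toRho hv.1 k
      rw [e] at this
      omega
    · exact absurd (e ▸ φ.map_one ▸ one_mem _) (c.noHH g)
    · exact absurd (e ▸ E.Ff.symm ▸ subset_closure (by simp)) (c.noHH g)
    · exact .inl (e.symm.trans E.Tt)
    · exact .inr (by rw [← e, map_mul, E.Tt, E.Ff])
  · exact .inr (.inl ⟨tt_TyC h' fx nH o (.inr n4.ge), o, u⟩)
  · exact .inr (.inr (.inl ⟨tt_TyC h' fx nH o (.inr n5.ge), o, u⟩))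
  · exact .inr (.inr (.inr (.inl ⟨tt_TyC h' fx nH o (.inr n8), o, x, u⟩)))
  · exact .inr (.inr (.inr (.inr ⟨tt_TyC h' fx nH o (.inr n8), o, x, u⟩)))

end Cfsg.Agent.DIH.V7
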