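import Cfsg.Agent.DA7.Defs
import Cfsg.Agent.DA7.TyTwo
import Cfsg.Agent.DA7.YB

set_option autoImplicit false

namespace Cfsg.Agent.DIH.V7

open Subgroup H49
open H42 (SylIn)

variable {G : Type*} [Group G] [Finite G] {F O K T C0 P P1 P2 S : Subgroup G}
  {t z a a' a1 a2 f : G}

/-- elements of `V` -/
def tpV (z t f : G) (k l m : Bool) : G := pw k z * pw l t * pw m f

/-- `t y` lies in the orbit of `t` under `N(A)` -/
def TpR (t : G) (A : Subgroup G) (y : G) : Prop := ∃ n ∈ 𝒩(A), n * t * n⁻¹ = t * y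

namespace CB

variable (h : CB F O K T C0 t z a1 a2 f)
include h

omit [Finite G] in
theorem tp_c : Commute t a1 ∧ Commute t a2 ∧ Commute t f ∧ Commute t z ∧ Commute f z := by
  have e : z = (a1 * a2)⁻¹ * (a2 * a1) := by rw [h.r]; group
  have c1 : Commute t a1 := (mem_cent1.1 (h.sylT.le h.a1T)).symm
  have c2 : Commute t a2 := (mem_cent1.1 (h.sylT.le h.a2T)).symm
  have f1 : Commute f a1 := h.fa1
  have f2 : Commute f a2 := h.fa2
  exact ⟨c1, c2, (mem_cent1.1 (h.sylT.le h.fT)).symm, e ▸ (c1.mul_right c2).inv_right.mul_right (c2.mul_right c1),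
    e ▸ (f1.mul_right f2).inv_right.mul_right (f2.mul_right f1)⟩

omit [Finite G] in
theorem tp_fzz : f * z * z = f := by rw [mul_assoc, h.z2, mul_one]

omit [Finite G] in
theorem tp_ab : AA t z a1 f ≤ 𝒞(AA t z a1 f) := by
  obtain ⟨c1, -, c3, c4, c5⟩ := h.tp_c
  refine abelian_iff.1 (isMulCommutative_closure ?_)
  rintro _ (rfl | rfl | rfl | rfl) _ (rfl | rfl | rfl | rfl)
  exacts [rfl, h.c1, c4.symm, c5.symm, h.c1.symm, rfl, c1.symm, h.fa1.symm, c4, c1, rfl, c3, c5, h.fa1,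
    c3.symm, rfl]

omit [Finite G] in
theorem tp_sq : ∀ u ∈ AA t z a1 f, u * u = 1 := fun u hu => by
  induction hu using closure_induction with
  | mem x hx => rcases hx with rfl | rfl | rfl | rfl; exacts [h.z2, h.s1, h.t2, h.f2]
  | one => exact mul_one 1
  | mul x y hx hy ex ey =>
    rw [mul_assoc, ← mul_assoc y, le_cent_iff.1 h.tp_ab x hx y hy, mul_assoc, ey, mul_one, ex]
  | inv x _ ex => rw [← mul_inv_rev, ex, inv_one]

omit [Finite G] in
theorem tp_le : AA t z a1 f ≤ TT t a1 a2 f := by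
  have m1 : a1 ∈ TT t a1 a2 f := subset_closure (by simp)
  have m2 : a2 ∈ TT t a1 a2 f := subset_closure (by simp)
  have e : z = (a1 * a2)⁻¹ * (a2 * a1) := by rw [h.r]; group
  refine (closure_le _).2 ?_
  rintro _ (rfl | rfl | rfl | rfl)
  exacts [e ▸ mul_mem (inv_mem (mul_mem m1 m2)) (mul_mem m2 m1), m1, subset_closure (by simp),
    subset_closure (by simp)]

omit [Finite G] in
theorem tp_T : TT t a1 a2 f ≤ T := h.TC0 ▸ inf_le_left

omit [Finite G] in
theorem tp_a2 : a2 ∉ AA t z a1 f := fun m => h.z1 (by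
  have := le_cent_iff.1 h.tp_ab a1 (subset_closure (by simp)) a2 m
  rwa [h.r, mul_eq_left] at this)

omit [Finite G] in
theorem tp_ne : AA t z a2 (f * z) ≠ AA t z a1 f := fun e => h.tp_a2 (e ▸ subset_closure (by simp))

theorem tp_nf {y : G} (hy : y ∈ AA t z a1 f) : ∃ i k l m, y = pw i a1 * tpV z t f k l m := by
  obtain ⟨i, j, k, l, m, e⟩ := (h.nf (.inl h.f2)).1 (h.tp_le hy)
  have pm : ∀ (b : Bool) {g : G}, g ∈ AA t z a1 f → pw b g ∈ AA t z a1 f := fun b g hg => by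
    cases b; exacts [one_mem _, hg]
  cases j
  · exact ⟨i, k, l, m, by simp [e, pw, tpV, mul_assoc]⟩
  · refine absurd ?_ h.tp_a2
    rwa [e, mul_mem_cancel_right (pm _ (subset_closure (by simp))),
      mul_mem_cancel_right (pm _ (subset_closure (by simp))), mul_mem_cancel_right (pm _ (subset_closure (by simp))),
      mul_mem_cancel_left (pm _ (subset_closure (by simp)))] at hy

theorem tp_inj {i k l m i' k' l' m' : Bool} : pw i a1 * tpV z t f k l m = pw i' a1 * tpV z t f k' l' m' ↔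
    i = i' ∧ k = k' ∧ l = l' ∧ m = m' := by
  refine ⟨fun e => ?_, by rintro ⟨rfl, rfl, rfl, rfl⟩; rfl⟩
  have := h.nf_inj (.inl h.f2) (i := i) (j := false) (k := k) (l := l) (m := m) (i' := i') (j' := false)
    (k' := k') (l' := l') (m' := m') (by simpa [pw, tpV, mul_assoc] using e)
  tauto

/-- the two sides are permuted by the normalizer of a group between `T₀` and `T` -/
theorem tp_perm {X : Subgroup G} (h0 : TT t a1 a2 f ≤ X) (hX : X ≤ T) {m : G} (hm : m ∈ 𝒩(X)) :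
    cj m (AA t z a1 f) = AA t z a1 f ∨ cj m (AA t z a1 f) = AA t z a2 (f * z) := by
  refine h.ea16 ((cj_le_of_mem_norm (h.tp_le.trans h0) hm).trans hX) (fun u hu => ?_)
    (by rw [card_cj, h.sd1.choose_spec.card])
  obtain ⟨y, hy, rfl⟩ := mem_cj'.1 hu
  rw [conj_mul, h.tp_sq y hy, mul_one, mul_inv_cancel]

omit [Finite G] in
theorem tp_cV : TT t a1 a2 f ≤ 𝒞(closure {z, t, f}) := by
  obtain ⟨c1, c2, c3, c4, c5⟩ := h.tp_c
  refine (closure_le _).2 fun x hx => le_cent1_iff.1 ((closure_le _).2 fun y hy => mem_cent1.2 ?_)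
  rcases hx with rfl | rfl | rfl | rfl <;> rcases hy with rfl | rfl | rfl
  exacts [h.c1, c1, h.fa1, h.c2, c2, h.fa2, c4.symm, rfl, c3.symm, c5.symm, c3, rfl]

end CB

/-- `t^{N(A₁)} ∩ V = t^{N(A₁) ∩ N(A₂)}` -/
theorem CB.orbV (h : CB F O K T C0 t z a1 a2 f) {n : G} (hn : n ∈ 𝒩(AA t z a1 f))
    (hV : n * t * n⁻¹ ∈ closure {z, t, f}) :
    ∃ m ∈ 𝒩(AA t z a1 f) ⊓ 𝒩(AA t z a2 (f * z)), m * t * m⁻¹ = n * t * n⁻¹ := by
  have sy := h.sylN
  obtain ⟨c, hc, e⟩ := sy.exists_conj (isPGroup_cj.2 sy.isP) (R := cj n⁻¹ (TT t a1 a2 f)) fun x hx => by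
    rw [mem_cj, inv_inv] at hx
    refine ⟨mem_cent1.2 ?_, (mul_mem_cancel_left hn).1 ((mul_mem_cancel_right (inv_mem hn)).1 (sy.le hx).2)⟩
    have := le_cent_iff.1 h.tp_cV _ hx _ hV
    rw [conj_mul, conj_mul, mul_left_inj, mul_right_inj] at this
    exact this.symm
  have hg : c * n⁻¹ ∈ 𝒩(TT t a1 a2 f) := H42.mem_normalizer_of_conj_mem fun x hx => by
    have := e _ (conj_mem_cj.2 hx)
    convert this using 1
    group
  have h1 : (c * n⁻¹)⁻¹ ∈ 𝒩(AA t z a1 f) := inv_mem (mul_mem hc.2 (inv_mem hn))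
  refine ⟨(c * n⁻¹)⁻¹, ⟨h1, mem_norm_iff_cj.2 ?_⟩, ?_⟩
  · refine (h.symm.tp_perm h.TT_symm.le h.tp_T (inv_mem hg)).resolve_right fun e => h.tp_ne ?_
    rw [h.tp_fzz, ← cj_eq_of_mem_norm h1, cj_inj] at e
    exact e
  · rw [mul_inv_rev, inv_inv, mul_inv_rev, inv_inv, mul_assoc n, ← (mem_cent1.1 (inv_mem hc.1)).symm]
    group

omit [Finite G] in
theorem tp_AA_tf (t z a f : G) : AA t z a (t * f) = AA t z a f := by
  refine le_antisymm ((closure_le _).2 ?_) ((closure_le _).2 ?_) <;> rintro _ (rfl | rfl | rfl | rfl)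
  exacts [subset_closure (by simp), subset_closure (by simp), subset_closure (by simp),
    mul_mem (subset_closure (by simp)) (subset_closure (by simp)), subset_closure (by simp),
    subset_closure (by simp), subset_closure (by simp),
    (mul_mem_cancel_left (x := t) (subset_closure (by simp))).1 (subset_closure (by simp))]

/-- the signature of a side: the part of the orbit inside `V` -/
def TpS (t z a f : G) (p : Bool → Bool → Bool → Bool) : Prop :=
  ∀ k l m, TpR t (AA t z a f) (tpV z t f k l m) ↔ p k l m = true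

namespace CB

variable (h : CB F O K T C0 t z a1 a2 f)
include h

theorem tp_set {L : List (Bool × Bool × Bool × Bool)} {s : Set G} (o : Orb t (AA t z a1 f) s)
    (e : ∀ y, y ∈ s ↔ y ∈ L.map fun x => pw x.1 a1 * tpV z t f x.2.1 x.2.2.1 x.2.2.2) :
    TpS t z a1 f fun k l m => decide ((false, k, l, m) ∈ L) := fun k l m => by
  rw [TpR, o, e, ← one_mul (tpV ..), show (1 : G) = pw false a1 from rfl, List.mem_map, decide_eq_true_iff]
  simp only [h.tp_inj]
  exact ⟨by rintro ⟨⟨_, _, _, _⟩, hx, rfl, rfl, rfl, rfl⟩; exact hx, fun hx => ⟨_, hx, rfl, rfl, rfl, rfl⟩⟩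

theorem tp_s1 (o : Orb t (AA t z a1 f) {1}) : TpS t z a1 f fun k l m => !k && !l && !m := by
  convert h.tp_set (L := [(false, false, false, false)]) o (by simp [pw, tpV]) using 4
  rename_i k l m; revert k l m; decide

theorem tp_s3 (o : Orb t (AA t z a1 f) {1, f, t * f}) : TpS t z a1 f fun k l m => !k && (!l || m) := by
  convert h.tp_set (L := [(false, false, false, false), (false, false, false, true), (false, false, true, true)])
    o (by simp [pw, tpV]) using 4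
  rename_i k l m; revert k l m; decide

theorem tp_s2 (o : Ty2 t z a1 f) : TpS t z a1 f fun k l _ => !k && !l := by
  convert h.tp_set (L := [(false, false, false, false), (false, false, false, true)])
    o.orb (by simp [pw, tpV]) using 4
  rename_i k l m; revert k l m; decide

theorem tp_s4 (o : Ty4 t z a1 f) : TpS t z a1 f fun _ l m => !l && !m := by
  convert h.tp_set (L := [(false, false, false, false), (false, true, false, false), (true, false, false, false),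
    (true, true, false, false)]) o.orb (by simp [pw, tpV]) using 4
  rename_i k l m; revert k l m; decide

theorem tp_s5 (o : Ty5 t z a1 f) : TpS t z a1 f fun k l m => !l && (k == m) := by
  convert h.tp_set (L := [(false, false, false, false), (false, true, false, true), (true, false, false, true),
    (true, true, false, true)]) o.orb (by simp [pw, tpV, mul_assoc]) using 4
  rename_i k l m; revert k l m; decide

omit [Finite G] h in
theorem tp_s6 (c : TyC t z a1 f) (o : Orb t (AA t z a1 f) (HH z a1 f)) : TpS t z a1 f fun _ l _ => !l := by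
  intro k l m
  have pm : ∀ (b : Bool) {g : G}, g ∈ HH z a1 f → pw b g ∈ HH z a1 f := fun b g hg => by
    cases b; exacts [one_mem _, hg]
  rw [TpR, o, tpV, SetLike.mem_coe, mul_mem_cancel_right (pm _ (subset_closure (by simp))),
    mul_mem_cancel_left (pm _ (subset_closure (by simp)))]
  cases l
  · simp [pw]
  · simpa [pw] using c.noHH 1

omit [Finite G] in
theorem tp_V2 (k l m : Bool) : tpV z t (f * z) k l m = tpV z t f (xor k m) l m := by
  obtain ⟨-, -, -, c4, c5⟩ := h.tp_c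
  have zz : ∀ x, z * (z * x) = x := fun x => by rw [← mul_assoc, h.z2, one_mul]
  cases k <;> cases l <;> cases m <;> simp [tpV, pw, c5.eq, mul_assoc, c4.left_comm, zz]

omit [Finite G] in
theorem tp_Vt (k l m : Bool) : tpV z t (t * f) k l m = tpV z t f k (xor l m) m := by
  have tt : ∀ x, t * (t * x) = x := fun x => by rw [← mul_assoc, h.t2, one_mul]
  cases k <;> cases l <;> cases m <;> simp [tpV, pw, mul_assoc, tt]

theorem tp_R {k l m : Bool} (r : TpR t (AA t z a1 f) (tpV z t f k l m)) :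
    ∃ n ∈ 𝒩(AA t z a1 f) ⊓ 𝒩(AA t z a2 (f * z)), n * t * n⁻¹ = t * tpV z t f k l m := by
  obtain ⟨n, hn, e⟩ := r
  have pm : ∀ (b : Bool) {g : G}, g ∈ closure {z, t, f} → pw b g ∈ closure {z, t, f} := fun b g hg => by
    cases b; exacts [one_mem _, hg]
  rw [← e]
  exact h.orbV hn (e ▸ mul_mem (subset_closure (by simp)) (mul_mem (mul_mem (pm _ (subset_closure (by simp)))
    (pm _ (subset_closure (by simp)))) (pm _ (subset_closure (by simp)))))

theorem tp_cmp {p q : Bool → Bool → Bool → Bool} (s1 : TpS t z a1 f p) (s2 : TpS t z a2 (f * z) q) (k l m : Bool) :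
    p (xor k m) l m = q k l m := by
  rw [Bool.eq_iff_iff, ← s1, ← s2]
  refine ⟨fun r => ?_, fun r => ?_⟩
  · obtain ⟨n, hn, e⟩ := h.tp_R r
    exact ⟨n, hn.2, h.tp_V2 k l m ▸ e⟩
  · obtain ⟨n, hn, e⟩ := h.symm.tp_R r
    exact ⟨n, h.tp_fzz ▸ hn.2, h.tp_V2 k l m ▸ e⟩

omit [Finite G] in
theorem tp_tf {p : Bool → Bool → Bool → Bool} (s : TpS t z a1 (t * f) p) :
    TpS t z a1 f fun k l m => p k (xor l m) m := fun k l m => by
  rw [← s, h.tp_Vt, tp_AA_tf, Bool.xor_assoc, Bool.xor_self, Bool.xor_false]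

theorem tp_fix {y : G} (hy : y ∈ AA t z a1 f) (c : ∀ n ∈ 𝒩(AA t z a1 f), n * y * n⁻¹ = y) :
    ∃ l m, y = tpV z t f false l m := by
  obtain ⟨ρ, r⟩ := h.sd1
  have hρ : ρ ∈ 𝒩(AA t z a1 f) := mem_norm_of_cj_le (by
    rw [cj, AA, MonoidHom.map_closure, closure_le]
    rintro _ ⟨_, rfl | rfl | rfl | rfl, rfl⟩ <;> simp only [MulEquiv.coe_toMonoidHom, MulAut.conj_apply, r.ρz, r.ρa,
      r.ρt, r.ρf]
    exacts [subset_closure (by simp), mul_mem (subset_closure (by simp)) (subset_closure (by simp)),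
      subset_closure (by simp), subset_closure (by simp)])
  obtain ⟨i, k, l, m, rfl⟩ := h.tp_nf hy
  have e := c ρ hρ
  have e' : ρ * (pw i a1 * tpV z t f k l m) * ρ⁻¹ = pw (xor i k) a1 * tpV z t f i l m := by
    have p : ∀ (b : Bool) {x y : G}, ρ * x * ρ⁻¹ = y → ρ * pw b x * ρ⁻¹ = pw b y := fun b x y e => by
      cases b <;> simp [pw, e]
    rw [tpV, ← conj_mul, ← conj_mul, ← conj_mul, p _ r.ρa, p _ r.ρz, p _ r.ρt, p _ r.ρf, tpV, ← mul_assoc,
      ← mul_assoc, ← mul_assoc, ← mul_assoc]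
    congr 2
    cases i <;> cases k <;> simp [pw, mul_assoc, h.c1, ← mul_assoc a1 a1, h.s1]
  rw [e', h.tp_inj] at e
  obtain ⟨rfl, rfl⟩ : i = false ∧ k = false := by revert e; cases i <;> cases k <;> simp
  exact ⟨l, m, one_mul _⟩

theorem tp_cz {s : G} (hs : s ∈ AA t z a1 f) : ∃ c ∈ 𝒞[t], TT t a1 a2 f ≤ 𝒞[c * s * c⁻¹] := by
  obtain ⟨i, k, l, m, rfl⟩ := h.tp_nf hs
  obtain ⟨ρ, r⟩ := h.sd1
  have mp : ∀ {y} b, y ∈ closure {z, t, f} → pw b y ∈ closure {z, t, f} := fun b hy => by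
    cases b; exacts [one_mem _, hy]
  have cV : ∀ k, TT t a1 a2 f ≤ 𝒞[pw k z * (pw l t * pw m f)] := fun k y hy => mem_cent1.2
    (mem_centralizer_iff.1 (h.tp_cV hy) _ (mul_mem (mp k (subset_closure (by simp))) (mul_mem
      (mp l (subset_closure (by simp))) (mp m (subset_closure (by simp)))))).symm
  cases i
  · exact ⟨1, one_mem _, by simpa [pw, tpV, mul_assoc] using cV k⟩
  · obtain ⟨c, hc, e⟩ := r.toRho.toz h.s1 h.c1 (w := pw l t * pw m f)
      (by rw [← conj_mul, pw_fix r.ρt, pw_fix r.ρf]) k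
    exact ⟨c, hc, by
      rw [show pw true a1 * tpV z t f k l m = a1 * pw k z * (pw l t * pw m f) by simp [pw, tpV, mul_assoc], e]
      exact cV true⟩

theorem tp_11 (o1 : Orb t (AA t z a1 f) {1}) (o2 : Orb t (AA t z a2 (f * z)) {1}) : False := by
  obtain ⟨x, xN, xt⟩ := h.toB0.exN fun s hs c => by
    obtain ⟨g, rfl⟩ := isConj_iff.1 c
    have e := h.toCW.eqT
    rcases h.ea0 (U := zpowers (g * t * g⁻¹)) (zpowers_le.2 (e ▸ hs)) (by
      rintro _ ⟨n, rfl⟩
      show (g * t * g⁻¹) ^ n * (g * t * g⁻¹) ^ n = 1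
      rw [← (Commute.refl _).mul_zpow, conj_mul, h.t2, mul_one, mul_inv_cancel, one_zpow]) with m | m
    · exact e ▸ h.tp_cz (m (mem_zpowers _))
    · exact e ▸ h.TT_symm ▸ h.symm.tp_cz (m (mem_zpowers _))
  have fx : ∀ {A : Subgroup G}, Orb t A {1} → ∀ n ∈ 𝒩(A), n * t * n⁻¹ = t := fun o n hn => by
    have := (o (t⁻¹ * (n * t * n⁻¹))).1 ⟨n, hn, by group⟩
    rwa [Set.mem_singleton_iff, inv_mul_eq_one, eq_comm] at this
  have e1 := (h.tp_perm h.tp_T le_rfl xN).resolve_left fun e => xt (fx o1 x (mem_norm_iff_cj.2 e))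
  have e2 := (h.symm.tp_perm h.symm.tp_T le_rfl xN).resolve_left fun e => xt (fx o2 x (mem_norm_iff_cj.2 e))
  have key : ∀ {A B : Subgroup G}, Orb t A {1} → cj x A = B → ∀ n ∈ 𝒩(B), n * (x * t * x⁻¹) * n⁻¹ = x * t * x⁻¹ :=
    fun o e n hn => by
      rw [← e, ← cj_normalizer, mem_cj] at hn
      conv_rhs => rw [← fx o _ hn]
      group
  rw [h.tp_fzz] at e2
  obtain ⟨l, m, a⟩ := h.tp_fix (e2 ▸ conj_mem_cj.2 (subset_closure (by simp))) (key o2 e2)
  obtain ⟨l', m', b⟩ := h.symm.tp_fix (e1 ▸ conj_mem_cj.2 (subset_closure (by simp))) (key o1 e1)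
  rw [a, h.tp_V2] at b
  obtain ⟨-, b1, -, rfl⟩ := (h.tp_inj (i := false) (i' := false)).1 (congrArg (1 * ·) b)
  obtain rfl : m = false := by simpa using b1
  cases l
  · exact h.t1 (by simpa [tpV, pw] using a)
  · exact xt (by simpa [tpV, pw] using a)

theorem tp_44 (o1 : Ty4 t z a1 f) (o2 : Ty4 t z a2 (t * (f * z))) : False := by
  obtain ⟨n, hn, e⟩ := h.tp_R ((h.tp_s4 o1 true false false).2 rfl)
  have e2 := o2.fixf n (by rw [tp_AA_tf]; exact hn.2)
  rw [← conj_mul, ← conj_mul, e, o1.fixf n hn.1, tpV, h.tp_c.2.2.2.2.eq] at e2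
  exact h.z1 (conj_eq_one_iff.1 (by simpa [pw, mul_assoc] using e2 : n * z * n⁻¹ = 1))

theorem tp_aux (o : Orb t (AA t z a1 f) {1} ∨ Orb t (AA t z a1 f) {1, f, t * f} ∨
    Ty2 t z a1 f ∨ Ty4 t z a1 f ∨ Ty5 t z a1 f ∨ Ty6 t z a1 f ∨ Ty7 t z a1 f) :
    ∃ a1 a2 f : G, CB F O K T C0 t z a1 a2 f ∧
    (Ty2 t z a1 f ∧ Ty5 t z a2 (f * z) ∨ Ty4 t z a1 f ∧ Ty4 t z a2 (f * z) ∨
      Ty6 t z a1 f ∧ Ty6 t z a2 (f * z) ∨ Ty6 t z a1 f ∧ Ty7 t z a2 (f * z) ∨
      Ty7 t z a1 f ∧ Ty7 t z a2 (f * z)) := by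
  have g := h.symm
  have e := h.tp_fzz.symm
  rcases g.ty with ⟨p, -⟩ | p | ⟨_, rfl | rfl, p | p | p | p | p⟩ <;>
    [have s' := g.tp_s1 p; have s' := g.tp_s3 p; have s' := g.tp_s2 p; have s' := g.tp_s4 p; have s' := g.tp_s5 p;
      have s' := tp_s6 p.toTyC p.orb; have s' := tp_s6 p.toTyC p.orb; have s' := g.tp_tf (g.tf.tp_s2 p);
      have s' := g.tp_tf (g.tf.tp_s4 p); have s' := g.tp_tf (g.tf.tp_s5 p);
      have s' := g.tp_tf (tp_s6 p.toTyC p.orb); have s' := g.tp_tf (tp_s6 p.toTyC p.orb)]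
  all_goals
    rcases o with o | o | o | o | o | o | o <;>
      [have s := h.tp_s1 o; have s := h.tp_s3 o; have s := h.tp_s2 o; have s := h.tp_s4 o; have s := h.tp_s5 o;
        have s := tp_s6 o.toTyC o.orb; have s := tp_s6 o.toTyC o.orb] <;>
    first
    | exact absurd (h.tp_cmp s s') (by decide)
    | exact (h.tp_11 o p).elim
    | exact (h.tp_44 o p).elim
    | exact ⟨_, _, _, h, .inl ⟨o, p⟩⟩
    | exact ⟨_, _, _, h, .inr (.inl ⟨o, p⟩)⟩
    | exact ⟨_, _, _, h, .inr (.inr (.inl ⟨o, p⟩))⟩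
    | exact ⟨_, _, _, h, .inr (.inr (.inr (.inl ⟨o, p⟩)))⟩
    | exact ⟨_, _, _, h, .inr (.inr (.inr (.inr ⟨o, p⟩)))⟩
    | exact ⟨_, _, _, g, .inl ⟨p, e ▸ o⟩⟩
    | exact ⟨_, _, _, g, .inr (.inr (.inr (.inl ⟨p, e ▸ o⟩)))⟩

end CB

theorem CB.pair (h : CB F O K T C0 t z a1 a2 f) : ∃ a1 a2 f : G, CB F O K T C0 t z a1 a2 f ∧
    (Ty2 t z a1 f ∧ Ty5 t z a2 (f * z) ∨ Ty4 t z a1 f ∧ Ty4 t z a2 (f * z) ∨
      Ty6 t z a1 f ∧ Ty6 t z a2 (f * z) ∨ Ty6 t z a1 f ∧ Ty7 t z a2 (f * z) ∨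
      Ty7 t z a1 f ∧ Ty7 t z a2 (f * z)) := by
  rcases h.ty with ⟨o, -⟩ | o | ⟨_, rfl | rfl, o⟩
  exacts [h.tp_aux (.inl o), h.tp_aux (.inr (.inl o)), h.tp_aux (.inr (.inr o)), h.tf.tp_aux (.inr (.inr o))]

theorem CB.share (h : CB F O K T C0 t z a1 a2 f) : ∃ P1 P2 : Subgroup G,
    SylIn 2 P1 𝒩(AA t z a1 f) ∧ SylIn 2 P2 𝒩(AA t z a2 (f * z)) ∧ TT t a1 a2 f ≤ P1 ∧
      TT t a1 a2 f ≤ P2 ∧ Share P1 P2 t z a1 a2 f := by
  have t1 : TT t a1 a2 f ≤ 𝒩(AA t z a1 f) := h.sylN.le.trans inf_le_right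
  have t2 : TT t a1 a2 f ≤ 𝒩(AA t z a2 (f * z)) := h.TT_symm ▸ h.symm.sylN.le.trans inf_le_right
  obtain ⟨T2, s, hT⟩ := H42.exists_sylIn h.sylN.isP (le_inf t1 t2)
  obtain ⟨P1, s1, h1⟩ := H42.exists_sylIn s.isP (s.le.trans inf_le_left)
  obtain ⟨P2, s2, h2⟩ := H42.exists_sylIn s.isP (s.le.trans inf_le_right)
  exact ⟨P1, P2, s1, s2, hT.trans h1, hT.trans h2,
    s.of_le_of_isPGroup (le_inf h1 h2) (inf_le_inf s1.le s2.le) s1.isP.to_inf_left⟩

end Cfsg.Agent.DIH.V7
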