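import Cfsg.Agent.DA7.D44
import Cfsg.Agent.DA7.Bas2
import Cfsg.Agent.DA7.Bas3
import Cfsg.Agent.DA7.Cmp
import Cfsg.Agent.DA7.TyPair
import Cfsg.Agent.H42.Index2

set_option autoImplicit false
set_option linter.unusedSimpArgs false

namespace Cfsg.Agent.DIH.V7

open Subgroup H49 PM
open H42 (SylIn)

variable {G : Type*} [Group G] [Finite G] {F O K T C0 P P1 P2 R S : Subgroup G}
  {t z a A a1 a2 f x w y ρ1 ρ2 : G} {m n i j γ : Bool}

namespace S44

open CmpX

section
omit [Finite G]
variable {b : G} {l : Bool}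

theorem tl {u v r : G} (h : u * v = r) (g : G) : u * (v * g) = r * g := by rw [← h, mul_assoc]
theorem sq {u : G} (h : u * u = 1) (g : G) : u * (u * g) = g := by rw [tl h, one_mul]

/-- the rules that sort words in `t, a, A, b, z, f` -/
theorem rT (h : Rl t z a A f) (e : El t z a A f b true false false false false false l false) (g : G) :
    (a * (t * g) = t * (a * g) ∧ A * (t * g) = t * (A * g) ∧ b * (t * g) = t * (z * (b * g)) ∧
      z * (t * g) = t * (z * g) ∧ f * (t * g) = t * (f * g)) ∧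
    (A * (a * g) = a * (A * (z * g)) ∧ b * (a * g) = a * (b * g) ∧ z * (a * g) = a * (z * g) ∧
      f * (a * g) = a * (f * g)) ∧
    (b * (A * g) = A * (b * g) ∧ z * (A * g) = A * (z * g) ∧ f * (A * g) = A * (f * g)) ∧
    (z * (b * g) = b * (z * g) ∧ f * (b * g) = b * (f * g) ∧ f * (z * g) = z * (f * g)) ∧
    t * (t * g) = g ∧ a * (a * g) = g ∧ A * (A * g) = g ∧ z * (z * g) = g ∧ f * (f * g) = g ∧
      b * (b * g) = pw l z * g :=
  ⟨⟨h.ta1.symm.left_comm g, h.ta2.symm.left_comm g, by simpa [pw, mul_assoc] using tl e.yt g,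
    h.tz.symm.left_comm g, h.tf.symm.left_comm g⟩,
   ⟨by simpa only [mul_assoc] using tl h.r g, by simpa [pw, mul_assoc] using tl e.y1 g,
    Commute.left_comm h.c1 g, h.fa1.left_comm g⟩,
   ⟨by simpa [pw, mul_assoc] using tl e.y2 g, Commute.left_comm h.c2 g, h.fa2.left_comm g⟩,
   ⟨e.yz.symm.left_comm g, e.yf.symm.left_comm g, h.fz.left_comm g⟩,
   sq h.t2 g, sq h.s1 g, sq h.s2 g, sq h.z2 g, sq h.f2 g, by simpa [pw, mul_assoc] using tl e.yy g⟩

/-- the rules that move `x` to the right -/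
theorem rX (h : Rl t z a A f) (s : Lin t z a A f ρ1 x false l) (e : x * (A * x * A) = b) (g : G) :
    x * (t * g) = t * (a * (x * g)) ∧ x * (a * g) = a * (x * g) ∧ x * (A * g) = b * (A * (pw l a * (x * g))) ∧
      x * (b * g) = b * (x * g) ∧ x * (z * g) = z * (x * g) ∧ x * (f * g) = f * (x * g) ∧
      x * (x * g) = pw l a * g := by
  have xx : x * x = pw l a := s.xx.trans (one_mul _)
  have x4 : pw l a * pw l a = 1 := by cases l; exacts [one_mul _, h.s1]
  refine ⟨by simpa only [mul_assoc] using tl (mul_inv_eq_iff_eq_mul.1 s.xt) g, Commute.left_comm s.xa g, ?_, ?_,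
    Commute.left_comm s.xz g, Commute.left_comm s.xf g, tl xx g⟩
  · have := sq x4 g
    simp only [← e, ← xx, mul_assoc, sq h.s2] at this ⊢
    rw [this]
  · have := tl s.xx' g
    simp only [← e, pw, cond_false, mul_one, mul_assoc] at this ⊢
    rw [this]

/-- the same on the other side -/
theorem rW (h : Rl t z a A f) (s : Lin t z A a (f * z) ρ2 w false false) (e : w * (a * w * a) = b) (g : G) :
    w * (t * g) = t * (A * (w * g)) ∧ w * (A * g) = A * (w * g) ∧ w * (a * g) = b * (a * (w * g)) ∧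
      w * (z * g) = z * (w * g) ∧ w * (f * g) = f * (w * g) ∧ w * (w * g) = g := by
  obtain ⟨h1, h2, h3, -, h5, -, h7⟩ := rX h.symm s e g
  exact ⟨h1, h2, by simpa [pw] using h3, h5, Commute.left_comm
    (by simpa using Commute.mul_right s.xf (Commute.inv_right s.xz)) g, by simpa [pw] using h7⟩

theorem one {u v : G} (h : u * 1 = v * 1) : u = v := mul_right_cancel h

/-- changing `x` by `a` -/
theorem adj (h : Rl t z a A f) (s : Lin t z a A f ρ1 x false false) : Lin t z a A f ρ1 (x * a) false false ∧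
    x * a * (A * (x * a) * A) = x * (A * x * A) * z := by
  have r1 := rT h (el_lin h s)
  have r2 := rX h s rfl
  have e1 := s.ρx
  have e2 := s.ρx'
  have e3 : A * x * A = x * (x * (A * x * A)) := by rw [(r2 _).2.2.2.2.2.2]; simp [pw]
  have e4 : A * (x * a) * A = A * x * A * (a * z) := by
    rw [mul_assoc _ A, ← mul_assoc A a, h.r, mul_assoc _ z, h.z2, mul_one]; group
  have e5 : x * a * (A * x * A * (a * z)) = x * (A * x * A) * z := by
    rw [e3]
    generalize x * (A * x * A) = b at r1 r2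
    exact one (by simp only [mul_assoc, r1, r2, pw, cond_false, one_mul])
  refine ⟨{ s with xt := ?_, xz := ?_, xa := ?_, xf := ?_, xx := ?_, xx' := ?_, ρx := ?_, ρx' := ?_ }, e4 ▸ e5⟩
  · exact mul_inv_eq_iff_eq_mul.2 (one (by simp only [mul_assoc, r1, r2]))
  · exact one (by simp only [mul_assoc, r1, r2])
  · exact one (by simp only [mul_assoc, r1, r2])
  · exact one (by simp only [mul_assoc, r1, r2])
  · exact one (by simp only [mul_assoc, r1, r2, pw, cond_false, one_mul])
  · rw [e4, e3]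
    generalize x * (A * x * A) = b at r1 r2
    exact one (by simp only [mul_assoc, r1, r2, pw, cond_false, one_mul])
  · rw [← conj_mul, e1, s.ρa, e4]; simp [pw]
  · rw [e4, e5, ← conj_mul, e2, ← conj_mul, s.ρa, s.ρz, eq_inv_iff_mul_eq_one]
    generalize x * (A * x * A) = b at r1
    rw [mul_assoc, inv_mul_eq_one]
    exact one (by simp only [mul_assoc, r1])

/-- conjugating by an element that centralizes `T₀` -/
theorem cjL {k : G} {ε : Bool} (s : Lin t z a A f ρ1 x ε l) (ht : k * t * k⁻¹ = t) (hz : k * z * k⁻¹ = z)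
    (ha : k * a * k⁻¹ = a) (hA : k * A * k⁻¹ = A) (hf : k * f * k⁻¹ = f) :
    Lin t z a A f (k * ρ1 * k⁻¹) (k * x * k⁻¹) ε l := by
  have c : ∀ {u v : G}, u = v → MulAut.conj k u = MulAut.conj k v := congrArg _
  obtain ⟨⟨⟨h0, h1, h2, h3, h4⟩, h5, h6, h7⟩, h8, h9, h10, h11, h12, h13, h14, h15, h16⟩ := s
  replace h1 := c h1; replace h2 := c h2; replace h3 := c h3; replace h4 := c h4; replace h9 := c h9
  replace h10 := c h10; replace h11 := c h11; replace h12 := c h12; replace h13 := c h13; replace h14 := c h14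
  replace h15 := c h15; replace h16 := c h16
  simp only [map_mul, map_inv] at h1 h2 h3 h4 h9 h10 h11 h12 h13 h14 h15 h16
  simp only [MulAut.conj_apply, BM.pw_conj, ht, hz, ha, hA, hf] at h1 h2 h3 h4 h9 h10 h11 h12 h13 h14 h15 h16
  exact ⟨⟨⟨by rwa [← MulAut.conj_apply, MulEquiv.orderOf_eq], h1, h2, h3, h4⟩, h5, h6, h7⟩, h8, h9, h10, h11, h12,
    h13, h14, h15, h16⟩

end

theorem nrm {g : G} {s : Set G} (h : ∀ y ∈ s, g * y * g⁻¹ ∈ closure s) : g ∈ 𝒩(closure s) :=
  mem_norm_of_cj_le (cj_le_iff.2 ((closure_le _).2 fun y hy => mem_cj.2 (by simpa only [inv_inv] using h y hy)))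

theorem jf (h : CB F O K T C0 t z a A f) (s1 : Lin t z a A f ρ1 x false false) (o : Ty4 t z a f)
    (s2 : Lin t z A a (f * z) ρ2 w false false) (e : w * (a * w * a) = x * (A * x * A) * pw i z * f) : False := by
  have r1 := rT (rl h) (el_lin (rl h) s1)
  have r2 := rX (rl h) s1 rfl
  have r3 := rW (rl h) s2 e
  have r4 := (rX (rl h).symm s2 e 1).2.2.2.1
  generalize x * (A * x * A) = b at *
  have r5 : ∀ g, w * (b * g) = b * (w * g) := fun g => by
    have : w * b * (pw i z * f) = b * w * (pw i z * f) := one (by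
      cases i <;> simpa only [mul_assoc, r3, pw, cond_true, cond_false, one_mul] using r4)
    simpa only [mul_assoc] using tl (mul_right_cancel this) g
  have m : ∀ {y}, y ∈ ({z, a, t, f} : Set G) → y ∈ closure ({z, a, t, f} : Set G) := fun k => subset_closure k
  have k : x * w * x * w * t * (x * w * x * w)⁻¹ = t * tpV z t f (!i) false true := mul_inv_eq_iff_eq_mul.2 (one (by
    cases i <;> simp only [tpV, mul_assoc, r1, r2, r3, r5, pw, cond_true, cond_false, one_mul, Bool.not_true,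
      Bool.not_false]))
  refine absurd ((h.tp_s4 o (!i) false true).1 ⟨_, nrm ?_, k⟩) (by simp)
  have c : ∀ {y}, y ∈ ({z, a, t, f} : Set G) → x * w * x * w * y * 1 = y * (x * w * x * w) * 1 →
      x * w * x * w * y * (x * w * x * w)⁻¹ ∈ closure ({z, a, t, f} : Set G) := fun k e => by
    rw [one e, mul_inv_cancel_right]; exact m k
  rintro _ (rfl | rfl | rfl | rfl)
  · exact c (by simp) (by simp only [mul_assoc, r2, r3])
  · exact c (by simp) (by cases i <;> simp only [mul_assoc, r1, r2, r3, r5, pw, cond_true, cond_false, one_mul])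
  · rw [k]
    exact mul_mem (m (by simp)) (mul_mem (mul_mem (pw_mem (m (by simp)) _) (one_mem _)) (m (y := f) (by simp)))
  · exact c (by simp) (by simp only [mul_assoc, r2, r3])

/-- `x w x w b` centralizes `T₂` -/
theorem cen (h : Rl t z a A f) (s1 : Lin t z a A f ρ1 x false false) (s2 : Lin t z A a (f * z) ρ2 w false false)
    (e : w * (a * w * a) = x * (A * x * A)) :
    ∀ y ∈ ({t, z, a, A, f, x * (A * x * A)} : Set G),
      y * (x * w * x * w * (x * (A * x * A))) = x * w * x * w * (x * (A * x * A)) * y := by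
  have r1 := rT h (el_lin h s1)
  have r2 := rX h s1 rfl
  have r3 := rW h s2 e
  have r4 := fun g => (rX h.symm s2 e g).2.2.2.1
  generalize x * (A * x * A) = b at *
  rintro _ (rfl | rfl | rfl | rfl | rfl | rfl) <;>
    exact one (by simp only [mul_assoc, r1, r2, r3, r4, pw, cond_false, one_mul])

/-- a conjugate of `w` whose product with `x` is a 2-element -/
theorem two (h : Rl t z a A f) (s1 : Lin t z a A f ρ1 x false false) (s2 : Lin t z A a (f * z) ρ2 w false false)
    (e : w * (a * w * a) = x * (A * x * A)) : ∃ w ρ, Lin t z A a (f * z) ρ w false false ∧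
      w * (a * w * a) = x * (A * x * A) ∧ ∃ k : ℕ, (x * w) ^ 2 ^ k = 1 := by
  obtain ⟨u, hu, o, ho, h1, h2, h3⟩ := B3.parts (x * w)
  have h4 := cen h s1 s2 e
  have r1 := rT h (el_lin h s1)
  have r2 := rX h s1 rfl
  have r3 := rW h s2 e
  have r4 := fun g => (rX h.symm s2 e g).2.2.2.1
  generalize x * (A * x * A) = b at *
  have h5 : (x * w) ^ 4 ∈ centralizer ({t, z, a, A, f, b} : Set G) := by
    rw [show (x * w) ^ 4 = x * w * x * w * b * (x * w * x * w * b) from one (by
      simp only [pow_succ, pow_zero, mul_assoc, r1, r2, r3, r4, pw, cond_false, one_mul])]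
    exact mul_mem h4 h4
  have h6 : o ∈ centralizer ({t, z, a, A, f, b} : Set G) := by
    refine BM.mem_of_odd h2 (BM.mem_of_odd (h2.of_dvd_nat (_root_.sq o ▸ orderOf_pow_dvd 2)) ?_)
    obtain ⟨n, rfl⟩ := ho
    rw [show (x * w) ^ n * (x * w) ^ n * ((x * w) ^ n * (x * w) ^ n) = ((x * w) ^ 4) ^ n by group]
    exact zpow_mem h5 n
  obtain ⟨r, hr⟩ := h2
  have h7 : o ^ (r + 1) * o ^ (r + 1) = o := by
    rw [← pow_add, show r + 1 + (r + 1) = orderOf o + 1 by omega, pow_succ, pow_orderOf_eq_one, one_mul]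
  have h8 := pow_mem h6 (r + 1)
  obtain ⟨n, h9⟩ := pow_mem ho (r + 1)
  generalize o ^ (r + 1) = k at *
  have c : ∀ y ∈ ({t, z, a, A, f, b} : Set G), k * y * k⁻¹ = y := fun y hy => mul_inv_eq_iff_eq_mul.2 (h8 y hy).symm
  refine ⟨_, _, cjL s2 (c t (by simp)) (c z (by simp)) (c A (by simp)) (c a (by simp))
    (by rw [← conj_mul, c f (by simp), c z (by simp)]), ?_, ?_⟩
  · rw [← c b (by simp), ← e, ← conj_mul, ← conj_mul, ← conj_mul, c a (by simp)]
  · have xk : x * k = k⁻¹ * x := by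
      have : SemiconjBy x (x * w) (x * w)⁻¹ := eq_inv_mul_iff_mul_eq.2 (one (by
        simp only [mul_assoc, r2, r3, pw, cond_false, one_mul]))
      simpa only [← h9, inv_zpow] using (this.zpow_right n).eq
    have ck : k * (x * w) = x * w * k := h9 ▸ (Commute.zpow_self _ n).eq
    rwa [← mul_assoc, ← mul_assoc, xk, mul_assoc _ x, inv_mul_eq_iff_eq_mul.2
      (show x * w = k * (x * w * k⁻¹) by rw [← mul_assoc, ck, mul_inv_cancel_right]), h3, ← h7, ← mul_assoc,
      mul_inv_cancel_right, mul_inv_cancel_right]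

theorem fin (h : CB F O K T C0 t z a A f) (s1 : L4 P1 t z a A f ρ1 x false false) (o : Ty4 t z A (f * z))
    (s2 : Lin t z A a (f * z) ρ2 w false false) (e : w * (a * w * a) = x * (A * x * A)) {k : ℕ}
    (hk : (x * w) ^ 2 ^ k = 1) : ∃ (R : Subgroup G) (m n : Bool), Q00 F O K T C0 R t z a A f x w ρ1 ρ2 m n := by
  have h4 := cen (rl h) s1.toLin s2 e
  have r1 := rT (rl h) (el_lin (rl h) s1.toLin)
  have r2 := rX (rl h) s1.toLin rfl
  have r3 := rW (rl h) s2 e
  have r4 := fun g => (rX (rl h).symm s2 e g).2.2.2.1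
  have m : ∀ {y}, y ∈ ({z, a, A, t, f, x} : Set G) → y ∈ P1 := fun k => s1.gen ▸ subset_closure k
  have mb : x * (A * x * A) ∈ P1 := mul_mem (m (by simp)) (mul_mem (mul_mem (m (by simp)) (m (by simp))) (m (by simp)))
  suffices H : ∃ m n, x * w * x * w = x * (A * x * A) * pw m z * pw n f by
    obtain ⟨p, q, H⟩ := H
    have hn : w ∈ 𝒩(P1) := by
      generalize x * (A * x * A) = b at *
      have c : ∀ {y y'}, y' ∈ P1 → w * y * 1 = y' * w * 1 → w * y * w⁻¹ ∈ closure ({z, a, A, t, f, x} : Set G) :=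
        fun k e => by rw [one e, mul_inv_cancel_right]; exact s1.gen ▸ k
      rw [s1.gen]
      refine nrm ?_
      rintro _ (rfl | rfl | rfl | rfl | rfl | rfl)
      · exact c (m (by simp; left; rfl)) (by simp only [mul_assoc, r3])
      · exact c (mul_mem mb (m (by simp; right; left; rfl))) (by simp only [mul_assoc, r3])
      · exact c (m (by simp; right; right; left; rfl)) (by simp only [mul_assoc, r3])
      · exact c (mul_mem (m (y := _) (.inr (.inr (.inr (.inl rfl))))) (m (y := A) (by simp))) (by simp only [mul_assoc, r3])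
      · exact c (m (y := _) (.inr (.inr (.inr (.inr (.inl rfl)))))) (by simp only [mul_assoc, r3])
      · exact c (mul_mem (m (y := _) (.inr (.inr (.inr (.inr (.inr rfl)))))) (H ▸ mul_mem (mul_mem mb
          (pw_mem (m (by simp)) p)) (pw_mem (m (by simp)) q))) (by simp only [mul_assoc, r2, r3, pw, cond_false, one_mul])
    have h1 : w ∉ P1 := fun k => h.tp_a2 ((mul_mem_cancel_left (subset_closure (by simp))).1
      (s2.xt ▸ H42.conj_mem_of_mem_normalizer (s1.sylP.le k) (subset_closure (by simp))))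
    refine ⟨P1 ⊔ zpowers w, p, q, h, s1.toLin, s2, s1.ty, o, e, H, ?_, ?_⟩
    · rw [s1.gen, zpowers_eq_closure, ← Subgroup.closure_union]
      exact congrArg _ (Set.ext fun y => by simp only [Set.mem_union, Set.mem_insert_iff, Set.mem_singleton_iff, or_assoc])
    · rw [H42.card_sup_zpowers hn (by rw [s2.xx]; simp [pw]) h1, s1.cardP]
  generalize x * (A * x * A) = b at *
  have h5 : (x * w * x * w * b) ^ 2 ^ (k + 1) = 1 := by
    rw [pow_succ', pow_mul, show (x * w * x * w * b) ^ 2 = (x * w) ^ 4 from one (by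
      simp only [pow_succ, pow_zero, mul_assoc, r1, r2, r3, r4, pw, cond_false, one_mul]), ← pow_mul, mul_comm,
      pow_mul, hk, one_pow]
  obtain ⟨i, p, l, q, h6⟩ := h.tp_nf (s1.toSd.two h.tp_ab (c := x * w * x * w * b) (by
    rw [AA, centralizer_closure]
    exact fun y hy => h4 y (by simp only [Set.mem_insert_iff, Set.mem_singleton_iff] at hy ⊢; tauto))
    (B3.isP_zpowers h5) (mem_zpowers _))
  have h7 := congrArg (· * 1) (h4 A (by simp))
  have h8 := congrArg (· * 1) (h4 b (by simp))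
  have h9 := eq_mul_inv_of_mul_eq h6
  rw [h6] at h7 h8
  refine ⟨p, q, ?_⟩
  rw [h9, mul_inv_eq_iff_eq_mul]
  refine one ?_
  cases i <;> cases l <;> cases p <;> cases q <;>
    simp only [tpV, mul_assoc, r1, pw, cond_true, cond_false, one_mul, mul_right_inj] at h7 h8 ⊢ <;>
    simp only [mul_one, right_eq_mul, left_eq_mul, mul_eq_right, mul_eq_left, h.z1, h.z1.symm] at h7 h8

end S44

open S44 CmpX

theorem b44mix {x1 x2 : G} (h : CB F O K T C0 t z a1 a2 f) (s1 : Lin t z a1 a2 f ρ1 x1 false true)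
    (s2 : Lin t z a2 a1 (f * z) ρ2 x2 false false)
    (e : x2 * (a1 * x2 * a1) = t * (x1 * (a2 * x1 * a2)) * pw i z * pw j f) : False := by
  have r1 := rT (rl h) (el_lin (rl h) s1)
  have r2 := rX (rl h) s1 rfl
  have r3 := rW (rl h) s2 e
  generalize x1 * (a2 * x1 * a2) = b at *
  have m : ∀ {y}, y ∈ ({z, a2, f * z} : Set G) → y ∈ HH z a2 (f * z) := fun k => subset_closure k
  obtain ⟨k, hk⟩ : ∃ k, x2 * x1 * t * 1 = b * a2 * a1 * pw k z * pw j (f * z) * (x2 * x1) * 1 := by
    cases i <;> cases j <;> first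
      | refine ⟨false, ?_⟩; simp only [mul_assoc, r1, r2, r3, pw, cond_true, cond_false, one_mul]; done
      | refine ⟨true, ?_⟩; simp only [mul_assoc, r1, r2, r3, pw, cond_true, cond_false, one_mul]
  have e2 : x1 * (a2 * pw k z * pw j (f * z)) = b * a2 * a1 * pw k z * pw j (f * z) * x1 := one (by
    cases k <;> cases j <;> simp only [mul_assoc, r1, r2, pw, cond_true, cond_false, one_mul])
  refine s2.noHH (x1⁻¹ * x2 * x1) ?_
  rw [show x1⁻¹ * x2 * x1 * t * (x1⁻¹ * x2 * x1)⁻¹ = x1⁻¹ * (x2 * x1 * t * (x2 * x1)⁻¹ * x1) by group, one hk,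
    mul_inv_cancel_right, ← e2, inv_mul_cancel_left]
  exact mul_mem (mul_mem (m (by simp)) (pw_mem (m (by simp)) _)) (pw_mem (m (by simp)) _)

theorem q00 {x1 x2 : G} (h : CB F O K T C0 t z a1 a2 f) (s1 : L4 P1 t z a1 a2 f ρ1 x1 false false)
    (s2 : L4 P2 t z a2 a1 (f * z) ρ2 x2 false false)
    (e : x2 * (a1 * x2 * a1) = x1 * (a2 * x1 * a2) * pw i z * pw j f) :
    ∃ (R : Subgroup G) (w ρ : G) (m n : Bool), Q00 F O K T C0 R t z a1 a2 f x1 w ρ1 ρ m n := by
  cases j
  swap
  · exact (jf h s1.toLin s1.ty s2.toLin e).elim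
  obtain ⟨w, l, e'⟩ : ∃ w, Lin t z a2 a1 (f * z) ρ2 w false false ∧ w * (a1 * w * a1) = x1 * (a2 * x1 * a2) := by
    cases i
    · exact ⟨_, s2.toLin, by simpa [pw] using e⟩
    · obtain ⟨l, k⟩ := adj (rl h).symm s2.toLin
      exact ⟨_, l, by rw [k, e]; simp [pw, mul_assoc, h.z2]⟩
  obtain ⟨w, ρ, l, e', k, hk⟩ := two (rl h) s1.toLin l e'
  obtain ⟨R, m, n, q⟩ := fin h s1 s2.ty l e' hk
  exact ⟨R, w, ρ, m, n, q⟩

theorem Q00.symm (q : Q00 F O K T C0 R t z a A f x w ρ1 ρ2 m n) :
    Q00 F O K T C0 R t z A a (f * z) w x ρ2 ρ1 (xor m n) n := by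
  have h := q.toCB
  refine ⟨h.symm, q.l2, h.tp_fzz.symm ▸ q.l1, q.ty2, h.tp_fzz.symm ▸ q.ty1, q.bb.symm, ?_, ?_, q.cardR⟩
  · have r1 := rT (rl h) (el_lin (rl h) q.l1)
    have r2 := rX (rl h) q.l1 rfl
    have r3 := rW (rl h) q.l2 q.bb
    have e := q.xw
    rw [q.bb, mul_assoc (x * (A * x * A)), (rl h).vv, ← mul_right_inj (x * w * x * w)]
    generalize x * (A * x * A) = b at *
    conv_rhs => rw [e]
    refine one ?_
    cases m <;> cases n <;> simp only [mul_assoc, r1, r2, r3, pw, cond_true, cond_false, one_mul, Bool.xor_self,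
      Bool.xor_false, Bool.false_xor]
  · have m1 : ∀ {y}, y ∈ ({z, a, A, t, f, x, w} : Set G) → y ∈ closure ({z, a, A, t, f, x, w} : Set G) :=
      fun k => subset_closure k
    have m2 : ∀ {y}, y ∈ ({z, A, a, t, f * z, w, x} : Set G) → y ∈ closure ({z, A, a, t, f * z, w, x} : Set G) :=
      fun k => subset_closure k
    rw [q.genR]
    refine le_antisymm ((closure_le _).2 ?_) ((closure_le _).2 ?_) <;> rintro _ (rfl | rfl | rfl | rfl | rfl | rfl | rfl)
    exacts [m2 (by simp), m2 (by simp), m2 (by simp), m2 (by simp),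
      (mul_mem_cancel_right (m2 (y := z) (by simp))).1 (m2 (by simp)), m2 (by simp), m2 (by simp),
      m1 (by simp), m1 (by simp), m1 (by simp), m1 (by simp), mul_mem (m1 (by simp)) (m1 (by simp)), m1 (by simp),
      m1 (by simp)]

end Cfsg.Agent.DIH.V7
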