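import Cfsg.Agent.DA7.Defs
import Cfsg.Agent.DA7.Bas3
import Cfsg.Agent.DA7.TyPair
import Cfsg.Agent.DA7.SRk
import Cfsg.Agent.H42.Index2

set_option autoImplicit false

namespace Cfsg.Agent.DIH.V7

open Subgroup H49
open H42 (SylIn)

variable {G : Type*} [Group G] [Finite G] {F O K T C0 P P1 P2 R S : Subgroup G}
  {t z a A a1 a2 f x w y ρ1 ρ2 : G} {m n i j γ : Bool}

/-- an element normalizing `T₀` normalizes `A₁` or interchanges `A₁, A₂` and maps `f` to `f z` -/
theorem swap_f (h : CB F O K T C0 t z a1 a2 f) (o1 : TyC t z a1 f) (o2 : Ty4 t z a2 (f * z)) {u : G}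
    (hu : u ∈ 𝒩(TT t a1 a2 f)) : u ∈ 𝒩(AA t z a1 f) ∨ (cj u (AA t z a1 f) = AA t z a2 (f * z) ∧
      cj u (AA t z a2 (f * z)) = AA t z a1 f ∧ u * f * u⁻¹ = f * z) := by
  obtain e | e := h.tp_perm le_rfl h.tp_T hu
  · exact .inl (mem_norm_iff_cj.2 e)
  refine .inr ⟨e, ?_, ?_⟩
  · obtain e' | e' := h.symm.tp_perm h.TT_symm.le h.tp_T hu
    · exact absurd (cj_injective u (e'.trans e.symm)) h.tp_ne
    · rwa [h.tp_fzz] at e'
  have hf : u * f * u⁻¹ ∈ AA t z a2 (f * z) := e ▸ conj_mem_cj.2 (subset_closure (by simp))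
  have fx : ∀ n ∈ 𝒩(AA t z a2 (f * z)), n * (u * f * u⁻¹) * n⁻¹ = u * f * u⁻¹ := fun n hn => by
    have k := o1.fixf (u⁻¹ * n * u) (mem_norm_iff_cj.2 (by
      rw [cj_mul, cj_mul, e, cj_eq_of_mem_norm hn, ← e, cj_cj, inv_mul_cancel]
      exact cj_eq_of_mem (one_mem _)))
    calc n * (u * f * u⁻¹) * n⁻¹ = u * (u⁻¹ * n * u * f * (u⁻¹ * n * u)⁻¹) * u⁻¹ := by group
      _ = _ := by rw [k]
  obtain ⟨l, m, k⟩ := h.symm.tp_fix hf fx
  obtain ⟨x, xt, xz, xa, xf⟩ := o2.exx
  have hx : x ∈ 𝒩(AA t z a2 (f * z)) := mem_norm_of_cj_le (by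
    rw [cj, AA, MonoidHom.map_closure, closure_le]
    rintro _ ⟨_, rfl | rfl | rfl | rfl, rfl⟩
    · exact subset_closure (by simp [xz])
    · exact subset_closure (by simp [xa])
    · exact (show MulAut.conj x _ = _ from xt) ▸ mul_mem (subset_closure (by simp)) (subset_closure (by simp))
    · exact subset_closure (.inr (.inr (.inr xf))))
  have a1' : a2 ≠ 1 := fun e => h.tp_a2 (e ▸ one_mem _)
  have k2 := fx x hx
  rw [k] at k2 ⊢
  cases l <;> cases m <;> simp only [tpV, pw, cond_true, cond_false, one_mul, mul_one] at k k2 ⊢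
  · have f1 : f = 1 := conj_eq_one_iff.1 k
    have := h.nf_inj (.inl h.f2) (i := false) (j := false) (k := false) (l := false) (m := true) (i' := false)
      (j' := false) (k' := false) (l' := false) (m' := false) (by simp [pw, f1])
    simp at this
  · exact absurd (by simpa [xt] using k2) a1'
  · rw [← conj_mul, xt, xf] at k2
    exact absurd (by simpa using k2) a1'

end Cfsg.Agent.DIH.V7
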