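import Cfsg.Agent.DA7.NS
import Cfsg.Agent.DA7.B44m
import Cfsg.Agent.DA7.Bas2
import Cfsg.Agent.COMP.Tools

set_option autoImplicit false
set_option maxRecDepth 100000

namespace Cfsg.Agent.DIH.V7

open Subgroup H49 PM
open H42 (SylIn)

variable {G : Type*} [Group G] [Finite G] {F O K T C0 P P1 P2 R S : Subgroup G}
  {t z a A a1 a2 f x w y ρ1 ρ2 : G} {m n i j γ : Bool}

namespace P44

theorem cnt_aut (α : PM D44 ≃* PM D44) (v : PM D44) :
    (cnt fun g => g * v = v * g) = cnt fun g => g * α v = α v * g :=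
  cnt_congr α.toEquiv fun g => by
    change _ ↔ α g * α v = α v * α g
    rw [← map_mul, ← map_mul, α.apply_eq_iff_eq]

theorem autH (α : PM D44 ≃* PM D44) (v : PM D44) : (α v).v < 8 ↔ v.v < 8 := by
  have k : ∀ v : PM D44, v.v < 8 ↔ v * v = 1 ∧ 64 ≤ cnt fun g => g * v = v * g := by decide +kernel
  rw [k, k, ← cnt_aut, ← map_mul, α.map_eq_one_iff]

omit [Finite G] in
theorem pw_mem {Y : Subgroup G} (h : y ∈ Y) (i : Bool) : pw i y ∈ Y := by
  cases i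
  exacts [one_mem _, h]

omit [Finite G] in
theorem map_pw {H : Type*} [Group H] (φ : H →* G) (i : Bool) (v : H) : φ (pw i v) = pw i (φ v) := by
  cases i
  exacts [map_one φ, rfl]

variable {φ : PM D44 →* G}

omit [Finite G] in
theorem cen (e : Em11 φ P t z a A f x) : P ≤ 𝒞[f] ∧ P ≤ 𝒞[z] := by
  rw [← e.range, ← e.ef, ← e.ez]
  constructor <;> rintro _ ⟨v, rfl⟩ <;> rw [mem_cent1, ← map_mul, ← map_mul] <;> congr 1 <;> revert v <;>
    decide +kernel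

theorem core (q : Q11 F O K T C0 P t z a A f x w ρ1 ρ2 i j) (e : Em11 φ P t z a A f x) {s : G} (hs : s ∈ 𝒩(P))
    (h1 : s ∉ P) (h2 : IsPGroup 2 (P ⊔ zpowers s : Subgroup G)) : ∃ α : PM D44 ≃* PM D44,
      (∀ v, φ (α v) = s * φ v * s⁻¹) ∧ 40 ≤ (α (el _ 32)).v ∧ (α (el _ 32)).v < 48 := by
  obtain ⟨α, hα⟩ := exists_aut e.inj (e.range ▸ hs)
  have k := (by decide +kernel : ∀ v : PM D44, v * v = 1 → v * el _ 4 = el _ 4 * v →
    (cnt fun g => g * v = v * g) = 32 → 32 ≤ v.v ∧ v.v < 48) (α (el _ 32))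
    (by rw [← map_mul, α.map_eq_one_iff]; decide +kernel)
    (by
      rw [← α.apply_symm_apply (el _ 4), ← map_mul, ← map_mul, α.apply_eq_iff_eq]
      exact (by decide +kernel : ∀ v : PM D44, v.v < 8 → el _ 32 * v = v * el _ 32) _
        ((autH α.symm _).2 (by decide +kernel)))
    (by rw [← cnt_aut]; decide +kernel)
  refine ⟨α, hα, not_lt.1 fun c => h1 ?_, k.2⟩
  have n : s ∈ 𝒩(AA t z a f) := H42.mem_normalizer_of_conj_mem fun y hy => by
    obtain ⟨v, hv, rfl⟩ := e.memA1.1 hy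
    refine e.memA1.2 ⟨α v, ?_, hα v⟩
    rcases (by decide +kernel : ∀ v : PM D44, v.v % 32 < 8 ∧ v.v < 64 → v.v < 8 ∨ (el _ 32 * v).v < 8) v hv with u | u
    · have := (autH α v).2 u
      omega
    · have := (by decide +kernel : ∀ s : PM D44, 32 ≤ s.v → s.v < 40 → ∀ v : PM D44, (s * v).v < 8 →
        v.v % 32 < 8 ∧ v.v < 64) _ k.1 c (α v)
      exact this (map_mul α _ _ ▸ (autH α _).2 u)
  exact q.l1.sylP.eq_of_le h2 (sup_le q.l1.sylP.le (zpowers_le.2 n)) le_sup_left ▸ mem_sup_right (mem_zpowers s)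

theorem exs (hP : IsPGroup 2 P) (hn : ¬ SylIn 2 P ⊤) (hS : SylIn 2 S ⊤) (h : P ≤ S) :
    ∃ s ∈ S, s ∈ 𝒩(P) ∧ s ∉ P ∧ IsPGroup 2 (P ⊔ zpowers s : Subgroup G) := by
  obtain ⟨s, h1, h2, -, h3⟩ := exists_step' hP h fun c => hn (c.eq_of_le hS.isP le_rfl h ▸ hS)
  exact ⟨s, h1.2, h1.1, h2, h3⟩

theorem cardH (e : Em11 φ P t z a A f x) : Nat.card (HH z a f) = 8 := by
  have : HH z a f = (subQ (fun v : PM D44 => v.v < 8) (by decide +kernel) (by decide +kernel)).map φ :=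
    Subgroup.ext fun _ => e.memH
  rw [this, card_map_of_injective e.inj]
  exact (cnt_eq fun v : PM D44 => v.v < 8).trans (by decide +kernel)

end P44

open P44

theorem Q11.step (q : Q11 F O K T C0 P t z a A f x w ρ1 ρ2 i j) {s : G} (hs : s ∈ 𝒩(P)) (h1 : s ∉ P)
    (h2 : IsPGroup 2 (P ⊔ zpowers s : Subgroup G)) : False := by
  obtain ⟨φ, e⟩ := q.em
  obtain ⟨α, hα, k1, k2⟩ := core q e hs h1 h2
  have mP : ∀ v, φ v ∈ P := fun v => e.range ▸ ⟨v, rfl⟩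
  have l := q.l2
  have cc : ∀ {u v : G}, u * v = v * u → u * v * u⁻¹ = v := fun h => by rw [h, mul_inv_cancel_right]
  have wz := cc l.xz
  have wf : w * f * w⁻¹ = f := by
    have := cc l.xf
    rwa [← conj_mul, wz, mul_left_inj] at this
  have ww : w * w = A := l.xx.trans (one_mul A)
  obtain ⟨β, hβ, β1⟩ : ∃ β : PM D44, φ β = w * (a * w * a) ∧ (8 ≤ β.v ∧ β.v < 12) :=
    ⟨el _ 8 * pw i (el _ 2) * pw j (el _ 1), by rw [map_mul, map_mul, map_pw, map_pw, e.eb, e.ez, e.ef, q.bb],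
      by cases i <;> cases j <;> decide +kernel⟩
  have wa : w * a * w⁻¹ = φ (β * el _ 4 * el _ 64) := by
    rw [map_mul, map_mul, hβ, e.ea, e.eA, ← inv_eq_of_mul_eq_one_right q.s2, ← ww, mul_assoc w _ a, mul_assoc _ a a,
      q.s1]
    group
  have wb : w * φ β * w⁻¹ = φ β := by
    refine cc ?_
    rw [hβ, mul_assoc w (a * w * a) w, ← l.xx'.trans (mul_one _)]
  have xt := q.l1.xt
  have gt : w * x * t * (w * x)⁻¹ = φ (el _ 32 * el _ 64 * (β * el _ 4 * el _ 64)) := by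
    rw [map_mul, ← wa, map_mul, e.et, e.eA, ← l.xt, conj_mul, ← xt]; group
  have ga : w * x * a * (w * x)⁻¹ = φ (β * el _ 4 * el _ 64) := by
    rw [← wa, mul_assoc w, q.l1.xa]; group
  have gf : w * x * f * (w * x)⁻¹ = f := Eq.trans (by rw [mul_assoc w, q.l1.xf]; group) wf
  have gz : w * x * z * (w * x)⁻¹ = z := Eq.trans (by rw [mul_assoc w, q.l1.xz]; group) wz
  have gA : w * x * A * (w * x)⁻¹ ∈ P := by
    obtain ⟨v, v1, v2⟩ := (by decide +kernel : ∀ β : PM D44, 8 ≤ β.v ∧ β.v < 12 → ∃ v : PM D44, v.v < 4 ∧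
      el _ 16 * el _ 64 * (el _ 16)⁻¹ = el _ 64 * β * el _ 4 * v) β β1
    have := congrArg φ v2
    simp only [map_mul, map_inv, e.ex, e.eA, e.ea] at this
    have wv : w * φ v * w⁻¹ = φ v := by
      rcases (by decide +kernel : ∀ v : PM D44, v.v < 4 → v = 1 ∨ v = el _ 1 ∨ v = el _ 2 ∨ v = el _ 1 * el _ 2) v v1
        with rfl | rfl | rfl | rfl
      · simp
      · rwa [e.ef]
      · rwa [e.ez]
      · rw [map_mul, e.ef, e.ez, cc l.xf]
    rw [show w * x * A * (w * x)⁻¹ = w * (x * A * x⁻¹) * w⁻¹ by group, this, ← conj_mul, ← conj_mul, ← conj_mul,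
      cc l.xa, wb, wa, wv]
    exact mul_mem (mul_mem (mul_mem (e.eA ▸ mP _) (mP _)) (mP _)) (mP _)
  have b1 := (by decide +kernel : ∀ β : PM D44, 8 ≤ β.v ∧ β.v < 12 → 64 ≤ (β * el _ 4 * el _ 64).v ∧
    40 ≤ (el _ 32 * el _ 64 * (β * el _ 4 * el _ 64)).v ∧ (el _ 32 * el _ 64 * (β * el _ 4 * el _ 64)).v < 48) β β1
  generalize el _ 32 * el _ 64 * (β * el _ 4 * el _ 64) = τ at gt b1
  generalize β * el _ 4 * el _ 64 = μ at ga b1
  generalize w * x = g at gt ga gf gz gA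
  obtain ⟨p, hp⟩ := (by decide +kernel : ∀ u : PM D44, 40 ≤ u.v → u.v < 48 → ∀ τ : PM D44, 40 ≤ τ.v ∧ τ.v < 48 →
    ∃ p : PM D44, p * u * p⁻¹ = τ ∨ p * u * p⁻¹ = τ * el _ 1) _ k1 k2 τ b1.2
  have c32 : Nat.card (P ⊓ 𝒞[φ τ] : Subgroup G) = 32 := by
    rw [← e.range, card_cent e.inj]
    exact (by decide +kernel : ∀ τ : PM D44, 40 ≤ τ.v ∧ τ.v < 48 → (cnt fun g => g * τ = τ * g) = 32) τ b1.2
  have Tt : TT t a A f ≤ 𝒞[t] := (BM.T0_le q.toCW).trans q.sylT.le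
  have TP : TT t a A f ≤ P := fun y hy => by obtain ⟨v, -, rfl⟩ := e.memT.1 hy; exact mP v
  have e1 : cj g (TT t a A f) = P ⊓ 𝒞[φ τ] := eq_of_le_of_card_ge (le_inf (cj_le_iff.2 ((closure_le _).2 (by
      rintro _ (rfl | rfl | rfl | rfl) <;> rw [SetLike.mem_coe, mem_cj, inv_inv]
      exacts [ga ▸ mP _, gA, gt ▸ mP _, gf.symm ▸ e.ef ▸ mP _]))) (by rw [← gt, ← cj_cent1]; exact cj_mono g Tt))
    (by rw [c32, card_cj, q.cardT0])
  have n : φ p * s ∈ 𝒩(P) := mul_mem (le_normalizer (mP p)) hs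
  have act : ∀ v, φ p * s * φ v * (φ p * s)⁻¹ = φ (p * α v * p⁻¹) := fun v => by
    rw [map_mul, map_mul, map_inv, hα]; group
  have e2 : cj (φ p * s) (TT t a A f) = P ⊓ 𝒞[φ τ] := eq_of_le_of_card_ge (fun y hy => by
    have y1 := cj_le_of_mem_norm TP n hy
    have y2 := cj_mono _ Tt hy
    rw [cj_cent1, ← e.et, act, mem_cent1] at y2
    refine ⟨y1, mem_cent1.2 ?_⟩
    rcases hp with u | u <;> rw [u] at y2
    · exact y2
    · rwa [map_mul, e.ef, ← mul_assoc, mul_assoc _ f, ← mem_cent1.1 ((cen e).1 y1), ← mul_assoc, mul_left_inj] at y2)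
    (by rw [c32, card_cj, q.cardT0])
  have u := q.toCB.ns q.l1.ty q.ty2 (u := g⁻¹ * (φ p * s))
    (mem_norm_iff_cj.2 (by rw [cj_mul, e2, ← e1, cj_inv_cj]))
  · have aA : a ∈ AA t z a f := subset_closure (by simp)
    obtain ⟨v, hv, u1⟩ := e.memA1.1 (conj_mem_of_norm le_rfl u aA)
    have c : φ v * a = a * φ v := by
      rw [← e.ea, ← map_mul, ← map_mul,
        (by decide +kernel : ∀ v : PM D44, v.v % 32 < 8 ∧ v.v < 64 → v * el _ 4 = el _ 4 * v) v hv]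
    have u2 : g * φ v * g⁻¹ = φ (p * α (el _ 4) * p⁻¹) := by rw [u1, ← act, e.ea]; group
    have c' : p * α (el _ 4) * p⁻¹ * μ = μ * (p * α (el _ 4) * p⁻¹) :=
      e.inj (by rw [map_mul, map_mul φ μ, ← u2, ← ga, conj_mul, conj_mul, c])
    have := (by decide +kernel : ∀ u : PM D44, u.v < 8 → ∀ p : PM D44, (p * u * p⁻¹).v < 8 ∧
      ((p * u * p⁻¹).v < 4 → u.v < 4)) _ ((autH α (el _ 4)).2 (by decide +kernel)) p
    have c4 := this.2 ((by decide +kernel : ∀ u : PM D44, u.v < 8 → ∀ μ : PM D44, 64 ≤ μ.v → u * μ = μ * u → u.v < 4)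
      _ this.1 μ b1.1 c')
    have c5 := (by decide +kernel : ∀ u : PM D44, u.v < 4 → ∀ v : PM D44, u * v = v * u) _ c4 (α (el _ 64))
    rw [← map_mul, ← map_mul, α.apply_eq_iff_eq] at c5
    exact absurd c5 (by decide +kernel)

theorem Q11.syl (q : Q11 F O K T C0 P t z a A f x w ρ1 ρ2 i j) : SylIn 2 P ⊤ := by
  by_contra c
  obtain ⟨y, hy, h1, -, h2⟩ := exists_step q.l1.sylP.isP c
  exact q.step hy h1 h2

end Cfsg.Agent.DIH.V7
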