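import Cfsg.Agent.DA7.Defs
import Cfsg.Agent.DA7.B61m
import Cfsg.Agent.DA7.Bas3
import Cfsg.Agent.DA7.B44s

set_option autoImplicit false
set_option linter.unusedSimpArgs false

namespace Cfsg.Agent.DIH.V7

open Subgroup H49
open H42 (SylIn)

variable {G : Type*} [Group G] [Finite G] {F O K T C0 P P1 P2 S : Subgroup G}
  {t z a a' a1 a2 f : G}

variable {ρ x c d e κ σ δ y : G} {i p q : Bool}

namespace A61

open CmpX S44

variable {A w g : G}

section
omit [Finite G]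

theorem cjA (n : G) :
    cj n (AA t z a f) = AA (n * t * n⁻¹) (n * z * n⁻¹) (n * a * n⁻¹) (n * f * n⁻¹) := by
  simp only [cj, AA, MonoidHom.map_closure, Set.image_insert_eq, Set.image_singleton]
  rfl

theorem cjH (n : G) : cj n (HH z a f) = HH (n * z * n⁻¹) (n * a * n⁻¹) (n * f * n⁻¹) := by
  simp only [cj, HH, MonoidHom.map_closure, Set.image_insert_eq, Set.image_singleton]
  rfl

theorem mH : z ∈ HH z a f ∧ a ∈ HH z a f ∧ f ∈ HH z a f :=
  ⟨subset_closure (by simp), subset_closure (by simp), subset_closure (by simp)⟩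

theorem HA : HH z a f ≤ AA t z a f :=
  closure_mono fun y hy => by simp only [Set.mem_insert_iff, Set.mem_singleton_iff] at hy ⊢; tauto

theorem HH_eq (i j : Bool) : HH z (a * pw i z * pw j f) (f * z) = HH z a f := by
  obtain ⟨h1, h2, h3⟩ := mH (z := z) (a := a) (f := f)
  obtain ⟨k1, k2, k3⟩ := mH (z := z) (a := a * pw i z * pw j f) (f := f * z)
  have k4 := (mul_mem_cancel_right k1).1 k3
  refine le_antisymm ((closure_le _).2 ?_) ((closure_le _).2 ?_) <;> rintro _ (rfl | rfl | rfl)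
  exacts [h1, mul_mem (mul_mem h2 (pw_mem h1 _)) (pw_mem h3 _), mul_mem h3 h1, k1,
    (mul_mem_cancel_right (pw_mem k1 i)).1 ((mul_mem_cancel_right (pw_mem k4 j)).1 k2), k4]

theorem cH (h1 : g * z = z * g) (h2 : g * a = a * g) (h3 : g * f = f * g) : g ∈ 𝒞(HH z a f) := by
  rw [HH, centralizer_closure]
  rintro _ (rfl | rfl | rfl)
  exacts [h1.symm, h2.symm, h3.symm]

/-- the rules for `c` -/
theorem rC (h : Rl t z a A f) (l : L6 P t z a A f ρ x c false true true false) (g : G) :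
    c * (t * g) = t * (f * (c * g)) ∧ c * (a * g) = a * (c * g) ∧ c * (A * g) = A * (c * g) ∧
      c * (x * (A * x * A) * g) = x * (A * x * A) * (c * g) ∧ c * (z * g) = z * (c * g) ∧
      c * (f * g) = f * (c * g) ∧ c * (c * g) = f * g ∧ x * (c * g) = c * (x * g) := by
  have e := el_ce h l.toCe
  exact ⟨by simpa only [mul_assoc] using tl (mul_inv_eq_iff_eq_mul.1 l.ct) g, Commute.left_comm l.ca g,
    by simpa [pw, mul_assoc] using tl e.y2 g, (c_lin h e l.xf l.cx).symm.left_comm g, e.yz.left_comm g,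
    e.yf.left_comm g, by simpa [pw] using tl l.cc g, Commute.left_comm l.cx.symm g⟩

theorem naA (h : Rl t z a A f) : a * A ≠ A * a := fun e =>
  h.z1 (by simpa [e] using h.r.symm)

end

theorem nA (h1 : g ∈ 𝒞(HH z a f)) (h2 : t⁻¹ * (g * t * g⁻¹) ∈ HH z a f) : g ∈ 𝒩(AA t z a f) := by
  have k : ∀ y ∈ HH z a f, g * y * g⁻¹ ∈ AA t z a f := fun y hy => by
    rw [← h1 y hy, mul_inv_cancel_right]; exact HA hy
  refine nrm ?_
  rintro _ (rfl | rfl | rfl | rfl)
  exacts [k _ mH.1, k _ mH.2.1, (mul_mem_cancel_left (inv_mem (subset_closure (by simp)))).1 (HA h2),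
    k _ mH.2.2]

/-- the group `Q₁` -/
theorem Qf (h : Rl t z a A f) (l : L6 P t z a A f ρ x c false true true false) :
    IsPGroup 2 (Q6 t A x c) ∧ 128 ≤ Nat.card (Q6 t A x c) ∧ Q6 t A x c ≤ 𝒞(HH z a f) := by
  have r1 := rT h (el_lin h l.toLin)
  have r2 := rX h l.toLin rfl
  have r3 := rC h l
  have m : ∀ {y}, y ∈ ({z, a, A, t, f, x, c} : Set G) → y ∈ P := fun k => l.gen ▸ subset_closure k
  have m' : ∀ {y}, y ∈ ({x, A * x * A, c, t} : Set G) → y ∈ Q6 t A x c := fun k => subset_closure k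
  have iA : A⁻¹ = A := inv_eq_of_mul_eq_one_right h.s2
  have q1 : Q6 t A x c ≤ P := (closure_le _).2 (by
    rintro _ (rfl | rfl | rfl | rfl)
    exacts [m (by simp), mul_mem (mul_mem (m (by simp)) (m (by simp))) (m (by simp)), m (by simp), m (by simp)])
  have q2 : Q6 t A x c ≤ 𝒞(HH z a f) := (closure_le _).2 (by
    generalize x * (A * x * A) = b at r1 r2 r3
    rintro _ (rfl | rfl | rfl | rfl) <;> refine cH ?_ ?_ ?_ <;>
      exact one (by simp only [mul_assoc, r1, r2, r3, pw, cond_true, one_mul]))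
  have q3 : A ∈ 𝒩(Q6 t A x c) := nrm (by
    rw [iA]
    rintro _ (rfl | rfl | rfl | rfl)
    · exact m' (by simp)
    · rw [show A * (A * x * A) * A = x by rw [← mul_assoc, ← mul_assoc, h.s2, one_mul, mul_assoc, h.s2, mul_one]]
      exact m' (by simp)
    · rw [l.ac]; exact mul_mem (m' (by simp)) (one_mem _)
    · rw [← h.ta2.eq, mul_assoc _ A A, h.s2, mul_one]; exact m' (by simp))
  have q4 : P ≤ Q6 t A x c ⊔ zpowers A := by
    have mx := m' (y := x) (by simp)
    have mc := m' (y := c) (by simp)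
    have mb := mul_mem mx (m' (y := A * x * A) (by simp))
    have bb := (el_lin h l.toLin).yy
    rw [l.gen, closure_le]
    rintro _ (rfl | rfl | rfl | rfl | rfl | rfl | rfl)
    · exact mem_sup_left (by simpa [bb, pw] using mul_mem mb mb)
    · exact mem_sup_left (by simpa [l.xx, pw] using mul_mem mx mx)
    · exact mem_sup_right (mem_zpowers _)
    · exact mem_sup_left (m' (by simp))
    · exact mem_sup_left (by simpa [l.cc, pw] using mul_mem mc mc)
    · exact mem_sup_left mx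
    · exact mem_sup_left mc
  have q5 := card_le_of_le q4
  rw [H42.card_sup_zpowers q3 (h.s2 ▸ one_mem _) (fun k => naA h (q2 k a mH.2.1)), l.cardP] at q5
  exact ⟨l.sylP.isP.to_le q1, by omega, q2⟩

/-- the Frattini argument -/
theorem fr (h : Rl t z a A f) (l : L6 P t z a A f ρ x c false true true false) {Q : Subgroup G}
    (hQ : IsPGroup 2 Q) (hc : 128 ≤ Nat.card Q) (h1 : Q ≤ 𝒩(AA t z a f)) (h2 : Q ≤ 𝒞(HH z a f)) :
    ∃ τ ∈ 𝒩(Q), t⁻¹ * (τ * t * τ⁻¹) ∈ HH z a f ∧ τ * f * τ⁻¹ = f ∧ τ * z * τ⁻¹ = a ∧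
      τ * a * τ⁻¹ = a * z := by
  have : Fact (Nat.Prime 2) := ⟨Nat.prime_two⟩
  have nM : 𝒩(AA t z a f) ≤ 𝒩(𝒩(AA t z a f) ⊓ 𝒞(HH z a f)) := norm_inf le_normalizer (norm_cent l.nH)
  have s1 := l.sylP.inf_normal inf_le_left nM
  have c1 : Nat.card (P ⊓ (𝒩(AA t z a f) ⊓ 𝒞(HH z a f)) : Subgroup G) ≤ 128 := by
    obtain ⟨k, hk⟩ := card_dvd_of_le (inf_le_left : P ⊓ (𝒩(AA t z a f) ⊓ 𝒞(HH z a f)) ≤ P)
    rcases k with _ | _ | k
    · rw [l.cardP] at hk; omega
    · have e := eq_of_le_of_card_ge (inf_le_left : P ⊓ (𝒩(AA t z a f) ⊓ 𝒞(HH z a f)) ≤ P) (by omega)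
      have mA : A ∈ P := l.gen ▸ subset_closure (by simp)
      rw [← e] at mA
      exact (naA h (mA.2.2 a mH.2.1)).elim
    · rw [l.cardP] at hk; nlinarith
  obtain ⟨S, hS, QS⟩ := H42.exists_sylIn hQ (le_inf h1 h2)
  have c2 := hS.card_eq s1
  obtain rfl := eq_of_le_of_card_ge QS (by omega)
  have m : ∀ {y}, y ∈ ({z, a, t, f} : Set G) → y ∈ closure ({z, a, t, f} : Set G) := fun k => subset_closure k
  have ρA : ρ ∈ 𝒩(AA t z a f) := nrm (by
    rintro _ (rfl | rfl | rfl | rfl)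
    · rw [l.ρz]; exact m (by simp)
    · rw [l.ρa]; exact mul_mem (m (by simp)) (m (by simp))
    · rw [l.ρt]; exact m (by simp)
    · rw [l.ρf]; exact m (by simp))
  obtain ⟨k, hk, h0⟩ := frattini_cent hS (fun m hm => ⟨m, hm, 1, one_mem _, (mul_one m).symm⟩) (nM ρA)
  have k1 : ∀ {y y'}, ρ * y * ρ⁻¹ = y' → y' ∈ HH z a f → k⁻¹ * ρ * y * (k⁻¹ * ρ)⁻¹ = y' := fun {y y'} e hy => by
    calc _ = k⁻¹ * (ρ * y * ρ⁻¹ * k) := by group
      _ = _ := by rw [e, hk.2 _ hy, inv_mul_cancel_left]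
  exact ⟨_, h0, (l.ty.orb _).1 ⟨_, mul_mem (inv_mem hk.1) ρA, (mul_inv_cancel_left _ _).symm⟩, k1 l.ρf mH.2.2,
    k1 l.ρz mH.2.1, k1 l.ρa (mul_mem mH.2.1 mH.1)⟩

end A61

open CmpX S44 A61

theorem b61a {ρ2 x2 c2 : G} {i j i' j' : Bool} (h : CB F O K T C0 t z a1 a2 f)
    (s1 : L6 P1 t z a1 a2 f ρ x c false true true false)
    (s2 : L6 P2 t z a2 a1 (f * z) ρ2 x2 c2 false true true false)
    (hb : x2 * (a1 * x2 * a1) = x * (a2 * x * a2) * pw i z * pw j f)
    (hc : c2 = x * (a2 * x * a2) * c * pw i' z * pw j' f) :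
    Q61 F O K T C0 P1 t z a1 a2 f ρ x c ∧ ∃ σ p q, Sg61 t z a1 a2 f x c σ p q := by
  have R := rl h
  obtain ⟨q1, q2, q3⟩ := Qf R s1
  have r1 := rT R (el_lin R s1.toLin)
  have r2 := rX R s1.toLin rfl
  have r3 := rC R s1
  have r4 := fun g => rX R.symm s2.toLin hb g
  have wf : Commute x2 f := by simpa using Commute.mul_right s2.xf (Commute.inv_right s2.xz)
  have wv : ∀ k l, Commute x2 (pw k z * pw l f) := fun k l => (pw_comm s2.xz k).mul_right (pw_comm wf l)
  have wb : Commute x2 (x * (a2 * x * a2)) := by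
    have e : Commute x2 (x * (a2 * x * a2) * pw i z * pw j f) := one (by simpa only [mul_assoc] using (r4 1).2.2.2.1)
    rw [mul_assoc] at e
    simpa only [mul_inv_cancel_right] using e.mul_right (wv i j).inv_right
  have wc : Commute x2 c := by
    have e : Commute x2 c2 := s2.cx.symm
    rw [hc, mul_assoc] at e
    simpa only [mul_inv_cancel_right, inv_mul_cancel_left] using
      wb.inv_right.mul_right (e.mul_right (wv i' j').inv_right)
  have r5 := fun g => And.intro (r4 g).1 <| And.intro (r4 g).2.1 <| And.intro (r4 g).2.2.1 <|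
    And.intro (r4 g).2.2.2.2.1 <| And.intro (wf.left_comm g) <| And.intro (wb.left_comm g) (wc.left_comm g)
  clear r4
  have mx : x ∈ Q6 t a2 x c := subset_closure (by simp)
  obtain ⟨b, eb⟩ : ∃ b, b = x * (a2 * x * a2) := ⟨_, rfl⟩
  rw [← eb] at r1 r2 r3 r5
  have nz : x2 * x * z * (x2 * x)⁻¹ = z :=
    mul_inv_eq_iff_eq_mul.2 (one (by simp only [mul_assoc, r2, r5]))
  have nf : x2 * x * (f * z) * (x2 * x)⁻¹ = f * z :=
    mul_inv_eq_iff_eq_mul.2 (one (by simp only [mul_assoc, r2, r5]))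
  have na : x2 * x * a2 * (x2 * x)⁻¹ = a1 * pw i z * pw j f := mul_inv_eq_iff_eq_mul.2 (one (by
    cases i <;> cases j <;> simp only [mul_assoc, r1, r2, r5, pw, cond_true, cond_false, one_mul]))
  have nt : x2 * x * t * (x2 * x)⁻¹ = t * b * (a1 * pw i z * pw j f * z) := mul_inv_eq_iff_eq_mul.2 (one (by
    cases i <;> cases j <;> simp only [mul_assoc, r1, r2, r5, pw, cond_true, cond_false, one_mul]))
  refine ⟨⟨h, s1, isConj_iff.2 ⟨_, s2.ρz⟩, isConj_iff.2 ⟨a1 * ρ2, ?_⟩, isConj_iff.2 ⟨_, s2.xt⟩,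
    isConj_iff.2 ⟨x2, ?_⟩, isConj_iff.2 ⟨x * pw (!i) b * pw j c * (x2 * x), ?_⟩⟩, ?_⟩
  · have e : ρ2 * f = f * z * a2 * ρ2 := by
      rw [← mul_inv_eq_iff_eq_mul, ← s2.ρz, ← s2.ρf, conj_mul, h.tp_fzz]
    rw [mul_inv_eq_iff_eq_mul, mul_assoc, e]
    exact one (by simp only [mul_assoc, r1])
  · exact mul_inv_eq_iff_eq_mul.2 (one (by simp only [mul_assoc, r3, r5]))
  · rw [← eb, mul_inv_eq_iff_eq_mul]
    refine one ?_
    cases i <;> cases j <;> simp only [mul_assoc, r1, r2, r3, r5, pw, cond_true, cond_false, one_mul,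
      Bool.not_true, Bool.not_false]
  have eH : cj (x2 * x) (HH z a2 (f * z)) = HH z a1 f := by rw [cjH, nz, nf, na, HH_eq]
  have m0 : a1 * pw i z * pw j f ∈ HH z a1 f := mul_mem (mul_mem mH.2.1 (pw_mem mH.1 _)) (pw_mem mH.2.2 _)
  obtain ⟨τ, h1, h2, h3, h4, h5⟩ := fr R.symm s2 (Q := cj (x2 * x)⁻¹ (Q6 t a2 x c)) (isPGroup_cj.2 q1)
    (by rwa [card_cj]) (by
      rw [← le_cj_iff, cj_normalizer, cjA, nz, nf, na, nt, Q6, closure_le]
      have k : ∀ {g u}, g ∈ Q6 t a2 x c → u ∈ HH z a1 f →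
          g * (t * b * (a1 * pw i z * pw j f * z)) * 1 = t * b * (a1 * pw i z * pw j f * z) * u * g * 1 →
          g ∈ 𝒩(AA (t * b * (a1 * pw i z * pw j f * z)) z (a1 * pw i z * pw j f) (f * z)) := fun m u e =>
        nA (by rw [HH_eq]; exact q3 m) (by rwa [HH_eq, one e, mul_inv_cancel_right, inv_mul_cancel_left])
      rintro _ (rfl | rfl | rfl | rfl)
      · exact k mx mH.2.1 (by
          cases i <;> cases j <;> simp only [mul_assoc, r1, r2, pw, cond_true, cond_false, one_mul])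
      · exact k (subset_closure (by simp)) (mul_mem mH.2.1 mH.1) (by
          cases i <;> cases j <;> simp only [mul_assoc, r1, r2, pw, cond_true, cond_false, one_mul])
      · exact k (subset_closure (by simp)) mH.2.2 (by
          cases i <;> cases j <;> simp only [mul_assoc, r1, r3, pw, cond_true, cond_false, one_mul])
      · exact k (subset_closure (by simp)) mH.1 (by
          cases i <;> cases j <;> simp only [mul_assoc, r1, pw, cond_true, cond_false, one_mul]))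
    (by rwa [← le_cj_iff, cj_centralizer, eH])
  generalize x2 * x = n at *
  have k : ∀ {y y' u u'}, τ * y * τ⁻¹ = y' → n * y * n⁻¹ = u → n * y' * n⁻¹ = u' →
      n * τ * n⁻¹ * u * (n * τ * n⁻¹)⁻¹ = u' := fun e1 e2 e3 => by rw [← e3, ← e2, ← e1]; group
  have k5 := k h5 na (by rw [← conj_mul, na, nz])
  refine ⟨n * τ * n⁻¹, i, j, ?_, ?_, k h3 nf nf, k h4 nz na, k5⟩
  · have := (conj_mem_cj (g := n)).2 h1
    rwa [cj_normalizer, cj_cj_inv] at this
  · have e1 := (conj_mem_cj (g := n)).2 h2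
    have e2 : t * b = n * t * n⁻¹ * (a1 * pw i z * pw j f * z)⁻¹ := by rw [nt, mul_inv_cancel_right]
    have e4 : n * τ * n⁻¹ * (a1 * pw i z * pw j f * z) * (n * τ * n⁻¹)⁻¹ ∈ HH z a1 f := by
      rw [← conj_mul (b := n * τ * n⁻¹), k5, k h4 nz na]
      exact mul_mem (mul_mem m0 mH.1) m0
    rw [eH] at e1
    have := mul_mem (mul_mem (mul_mem m0 mH.1) e1) (inv_mem e4)
    rw [← eb, e2]
    generalize a1 * pw i z * pw j f * z = u at this
    convert this using 1
    group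

end Cfsg.Agent.DIH.V7
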