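import Cfsg.Agent.DA7.Defs
import Cfsg.Agent.DA7.B61k

set_option autoImplicit false
set_option maxRecDepth 100000

namespace Cfsg.Agent.DIH.V7

open Subgroup H49
open H42 (SylIn)

variable {G : Type*} [Group G] [Finite G] {F O K T C0 P P1 P2 S : Subgroup G}
  {t z a a' a1 a2 f : G}

variable {ρ x c d e κ σ δ y : G} {i p q : Bool}

namespace B61d

open PM

abbrev V := ZMod 4 × ZMod 4 × ZMod 4

noncomputable def em (v : V) : PM D61 := el _ 16 ^ v.1.val * el _ 26 ^ v.2.1.val * el _ 32 ^ v.2.2.val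

def lin (p q r v : V) : V := v.1 • p + v.2.1 • q + v.2.2 • r

theorem em_add : ∀ u v, em (u + v) = em u * em v := by decide +kernel

theorem em_smul : ∀ (k : ZMod 4) (u : V), em (k • u) = em u ^ k.val := by decide +kernel

theorem em_inj : ∀ u v, em u = em v → u = v := by decide +kernel

theorem em_lift : ∀ v : PM D61, v.v < 128 → v * v ≠ 1 → ∃ u, em u = v := by decide +kernel

theorem em_lt : ∀ u, (em u).v < 128 := by decide +kernel

theorem em_H : ∀ u, u + u = 0 → (em u).v < 8 := by decide +kernel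

theorem em_inn : ∀ v : PM D61, v.v < 128 →
    (∀ u, v * em u * v⁻¹ = em u) ∨ ∀ u, v * em u * v⁻¹ = em (-u) := by decide +kernel

def Inn (g : V → V) (w : V) : Prop := w + w = 0 → g (2, 2, 0) = (2, 2, 0) → g (2, 0, 0) = (2, 0, 0) →
  g (0, 0, 2) = (0, 0, 2) → (g (1, 0, 0) = (1, 0, 0) ∧ g (0, 1, 0) = (0, 1, 0) ∧ g (0, 0, 1) = (0, 0, 1)) ∨
    (g (1, 0, 0) = -(1, 0, 0) ∧ g (0, 1, 0) = -(0, 1, 0) ∧ g (0, 0, 1) = -(0, 0, 1))

instance decInn (g : V → V) (w : V) : Decidable (Inn g w) := by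
  unfold Inn
  infer_instance

/-- composition of affine maps -/
def cp (a b : (V → V) × V) : (V → V) × V := (fun v => a.1 (b.1 v), a.2 + a.1 b.2)

def rh : (V → V) × V := (lin (0, 1, 0) (3, 3, 0) (0, 0, 1), 0)

def sw : (V → V) × V := (lin (0, 1, 0) (1, 0, 0) (0, 0, 1), 0)

def dl (p q r : V) : (V → V) × V := (lin p q r, (1, 1, 0))

set_option synthInstance.maxSize 1000 in
theorem fin : ∀ p : V, p + p = (2, 0, 0) → ∀ q : V, q + q = (0, 2, 0) → ∀ r : V, r + r = (2, 2, 2) →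
    Inn (cp (dl p q r) (dl p q r)).1 (cp (dl p q r) (dl p q r)).2 →
    Inn (cp (cp (dl p q r) sw) (cp (dl p q r) sw)).1 (cp (cp (dl p q r) sw) (cp (dl p q r) sw)).2 →
    Inn (cp (dl p q r) (cp (cp rh (cp (dl p q r) (cp rh rh))) (cp (cp rh rh) (cp (dl p q r) rh)))).1
      (cp (dl p q r) (cp (cp rh (cp (dl p q r) (cp rh rh))) (cp (cp rh rh) (cp (dl p q r) rh)))).2 →
    (p = (1, 2, 0) ∧ q = (2, 1, 0) ∧ (r = (1, 1, 1) ∨ r = (3, 3, 1))) ∨
      (p = (3, 2, 0) ∧ q = (2, 3, 0) ∧ (r = (3, 3, 3) ∨ r = (1, 1, 3))) := by decide +kernel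

variable {φ : PM D61 →* G}

/-- `n` acts on `Q₁` as the affine map `m` -/
def Ac (φ : PM D61 →* G) (n : G) (m : (V → V) × V) : Prop :=
  (∀ v, n * φ (em v) * n⁻¹ = φ (em (m.1 v))) ∧ n * φ (el _ 64) * n⁻¹ = φ (el _ 64) * φ (em m.2)

omit [Finite G] in
theorem Ac.mul {n n' : G} {m m' : (V → V) × V} (h : Ac φ n m) (h' : Ac φ n' m') : Ac φ (n * n') (cp m m') := by
  refine ⟨fun v => ?_, ?_⟩
  · rw [show n * n' * φ (em v) * (n * n')⁻¹ = n * (n' * φ (em v) * n'⁻¹) * n⁻¹ by group, h'.1, h.1]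
    rfl
  · rw [show n * n' * φ (el _ 64) * (n * n')⁻¹ = n * (n' * φ (el _ 64) * n'⁻¹) * n⁻¹ by group, h'.2, ← conj_mul, h.1,
      h.2, mul_assoc, ← map_mul φ (em _), ← em_add]
    rfl

theorem em_e : em (1, 0, 0) = el _ 16 ∧ em (0, 1, 0) = el _ 26 ∧ em (0, 0, 1) = el _ 32 ∧ em (2, 2, 0) = el _ 1 ∧
    em (2, 0, 0) = el _ 2 ∧ em (0, 0, 2) = el _ 4 ∧ em (1, 1, 0) = el _ 8 ∧ em 0 = 1 := by decide +kernel

omit [Finite G] in
theorem ac_lin {n : G} {u v w s : V} (h1 : n * φ (el _ 16) * n⁻¹ = φ (em u)) (h2 : n * φ (el _ 26) * n⁻¹ = φ (em v))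
    (h3 : n * φ (el _ 32) * n⁻¹ = φ (em w)) (h4 : n * φ (el _ 64) * n⁻¹ = φ (el _ 64) * φ (em s)) :
    Ac φ n (lin u v w, s) := by
  refine ⟨fun k => ?_, h4⟩
  show _ = φ (em (k.1 • u + k.2.1 • v + k.2.2 • w))
  rw [em_add, em_add, em_smul, em_smul, em_smul, em]
  simp only [map_mul, map_pow]
  rw [← h1, ← h2, ← h3, ← conj_mul, ← conj_mul, conj_pow, conj_pow, conj_pow]

theorem inn (h : Q61 F O K T C0 P t z a a' f ρ x c) (E : Em61 φ P t z a a' f x c) {n : G}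
    (hn : n ∈ 𝒩(Q6 t a' x c)) {m : (V → V) × V} (k : Ac φ n m) : Inn m.1 m.2 := by
  intro h0 h1 h2 h3
  have ht : t * (n * t * n⁻¹) ∈ HH z a f := by
    rw [← E.et, k.2, ← mul_assoc, E.et, h.t2, one_mul]
    exact E.memH.2 ⟨_, em_H _ h0, rfl⟩
  have hc : n ∈ 𝒞(HH z a f) := by
    refine le_cent1_iff.1 ((closure_le _).2 ?_)
    have c1 := k.1 (2, 2, 0)
    have c2 := k.1 (2, 0, 0)
    have c3 := k.1 (0, 0, 2)
    rw [h1, em_e.2.2.2.1, E.ez] at c1
    rw [h2, em_e.2.2.2.2.1, E.ea] at c2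
    rw [h3, em_e.2.2.2.2.2.1, E.ef] at c3
    rintro g (rfl | rfl | rfl)
    · exact mem_cent1.2 (mul_inv_eq_iff_eq_mul.1 c1).symm
    · exact mem_cent1.2 (mul_inv_eq_iff_eq_mul.1 c2).symm
    · exact mem_cent1.2 (mul_inv_eq_iff_eq_mul.1 c3).symm
  obtain ⟨r, hr, hr'⟩ := (h.ker hn ht).2.2 hc
  obtain ⟨v, hv, rfl⟩ := E.memQ.1 hr
  have key : ∀ u, em (m.1 u) = v * em u * v⁻¹ := fun u => E.inj <| by
    have := hr' _ (E.memQ.2 ⟨_, em_lt u, rfl⟩)
    rw [← k.1, map_mul, map_mul, map_inv]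
    calc n * φ (em u) * n⁻¹ = φ v * ((φ v)⁻¹ * n * φ (em u)) * n⁻¹ := by group
      _ = _ := by rw [← this]; group
  rcases em_inn v hv with e | e
  · exact Or.inl ⟨em_inj _ _ ((key _).trans (e _)), em_inj _ _ ((key _).trans (e _)), em_inj _ _ ((key _).trans (e _))⟩
  · exact Or.inr ⟨em_inj _ _ ((key _).trans (e _)), em_inj _ _ ((key _).trans (e _)), em_inj _ _ ((key _).trans (e _))⟩

theorem lift (E : Em61 φ P t z a a' f x c) (hn : δ ∈ 𝒩(Q6 t a' x c)) {g : PM D61} (hg : g.v < 128) {s : V}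
    (hs : s ≠ 0) (e : δ * φ (g * g) * δ⁻¹ = φ (em s)) : ∃ u, u + u = s ∧ δ * φ g * δ⁻¹ = φ (em u) := by
  obtain ⟨v, hv, e1⟩ := E.memQ.1 (conj_mem_of_norm le_rfl hn (E.memQ.2 ⟨g, hg, rfl⟩))
  have e2 : v * v = em s := E.inj (by rw [map_mul, e1, conj_mul, ← map_mul, e])
  obtain ⟨u, rfl⟩ := em_lift v hv fun e3 => hs (em_inj _ _ (by rw [← e2, e3, em_e.2.2.2.2.2.2.2]))
  exact ⟨u, em_inj _ _ (by rw [em_add, e2]), e1.symm⟩

theorem q61_inv (h : Q61 F O K T C0 P t z a a' f ρ x c) : Q61 F O K T C0 P t z a a' f ρ x c⁻¹ := by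
  obtain ⟨φ, E⟩ := h.l1.em61 h.toCB
  have l := h.l1
  have g : closure {z, a, a', t, f, x, c⁻¹} = closure {z, a, a', t, f, x, c} := by
    apply le_antisymm <;> rw [closure_le] <;> intro g hg <;>
      simp only [Set.mem_insert_iff, Set.mem_singleton_iff] at hg <;>
      rcases hg with e | e | e | e | e | e | e <;> rw [e] <;>
      first
        | (apply Subgroup.subset_closure; simp; done)
        | (apply inv_mem; apply Subgroup.subset_closure; simp; done)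
        | (apply inv_mem_iff.1; apply Subgroup.subset_closure; simp; done)
  have fc := h.fc
  have fb := h.fb
  have cρ := l.cρ
  obtain ⟨-, -, ez, ea, ef, -, ex, ec, et, eA⟩ := E
  refine ⟨h.toCB, ⟨l.toLin, ⟨?_, ?_, ?_, ?_, (show Commute c ρ from cρ).inv_left, ?_, ?_⟩, ?_, l.ty, l.gen.trans g.symm,
    l.sylP, l.cardP⟩, h.fz, h.ff, h.ft,
    (isConj_iff.2 ⟨t, ?_⟩).trans (fc.trans (isConj_iff.2 ⟨t, ?_⟩)),
    (isConj_iff.2 ⟨t, ?_⟩).trans (fb.trans (isConj_iff.2 ⟨x * (a' * x * a') * t, ?_⟩))⟩ <;>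
    subst ez ea ef ex ec et eA <;> simp only [pw, cond_true, cond_false, mul_one, ← map_mul, ← map_inv] <;>
    exact congrArg φ (by decide +kernel)

theorem norm_form (h : Q61 F O K T C0 P t z a a' f ρ x c) (s : Dl61 t z a a' f x c δ) :
    Dn61 t a' x c δ ∨ Dn61 t a' x c⁻¹ δ ∨ Dn61 t a' x c (δ * t) ∨ Dn61 t a' x c⁻¹ (δ * t) := by
  obtain ⟨φ, E⟩ := h.l1.em61 h.toCB
  have l := h.l1
  have nδ := s.nQ
  have nρ := h.ρQ.1
  have nA : a' ∈ 𝒩(Q6 t a' x c) := h.ρQ.2 (E.range ▸ ⟨_, E.eA⟩)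
  have I : ∀ {n : G}, n ∈ 𝒩(Q6 t a' x c) → ∀ {m : (V → V) × V}, Ac φ n m → Inn m.1 m.2 := fun hn _ k => inn h E hn k
  have L : ∀ {g : PM D61}, g.v < 128 → ∀ {s : V}, s ≠ 0 → δ * φ (g * g) * δ⁻¹ = φ (em s) →
      ∃ u, u + u = s ∧ δ * φ g * δ⁻¹ = φ (em u) := fun hg _ hs e => lift E nδ hg hs e
  have ρx := l.ρx
  have ρy := l.ρx'
  have ρc := l.cρ
  have ρt := l.ρt
  obtain ⟨-, dt, dz, da, df⟩ := s
  obtain ⟨-, -, ez, ea, ef, -, ex, ec, et, eA⟩ := E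
  subst ez ea ef ex ec et eA
  have ey : φ (el _ 128) * φ (el _ 16) * φ (el _ 128) = φ (el _ 26) := by
    simp only [← map_mul]
    exact congrArg φ (by decide +kernel)
  rw [ey] at ρx ρy dt
  obtain ⟨u, hu, du⟩ := L (g := el _ 16) (by decide) (s := (2, 0, 0)) (by decide) (by
    rw [em_e.2.2.2.2.1, show el D61 16 * el _ 16 = el _ 2 by decide +kernel, da])
  obtain ⟨v, hv, dv⟩ := L (g := el _ 26) (by decide) (s := (0, 2, 0)) (by decide) (by
    rw [show em (0, 2, 0) = el _ 2 * el _ 1 by decide +kernel,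
      show el D61 26 * el _ 26 = el _ 2 * el _ 1 by decide +kernel, map_mul, ← conj_mul, da, dz])
  obtain ⟨w, hw, dw⟩ := L (g := el _ 32) (by decide) (s := (2, 2, 2)) (by decide) (by
    rw [show em (2, 2, 2) = el _ 4 * el _ 1 by decide +kernel,
      show el D61 32 * el _ 32 = el _ 4 by decide +kernel, map_mul, df])
  have aδ : Ac φ δ (dl u v w) := ac_lin du dv dw (by
    rw [dt, ← map_mul φ (el _ 16), show el D61 16 * el _ 26 = em (1, 1, 0) by decide +kernel])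
  have aρ : Ac φ ρ rh := ac_lin (by rw [ρx, em_e.2.1]; exact mul_one _)
    (by rw [ρy, ← map_mul, ← map_inv]; exact congrArg φ (by decide +kernel))
    (by rw [← ρc, mul_inv_cancel_right, em_e.2.2.1]) (by rw [ρt, em_e.2.2.2.2.2.2.2, map_one, mul_one])
  have aA : Ac φ (φ (el _ 128)) sw := by
    refine ac_lin ?_ ?_ ?_ ?_ <;> simp only [← map_mul, ← map_inv] <;> exact congrArg φ (by decide +kernel)
  have key := fin u hu v hv w hw (I (mul_mem nδ nδ) (aδ.mul aδ))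
    (I (mul_mem (mul_mem nδ nA) (mul_mem nδ nA)) ((aδ.mul aA).mul (aδ.mul aA)))
    (I (mul_mem nδ (mul_mem (mul_mem nρ (mul_mem nδ (mul_mem nρ nρ))) (mul_mem (mul_mem nρ nρ) (mul_mem nδ nρ))))
      (aδ.mul ((aρ.mul (aδ.mul (aρ.mul aρ))).mul ((aρ.mul aρ).mul (aδ.mul aρ)))))
  have cj2 : ∀ g : G, δ * φ (el _ 64) * g * (δ * φ (el _ 64))⁻¹ = δ * (φ (el _ 64) * g * (φ (el _ 64))⁻¹) * δ⁻¹ :=
    fun g => by group
  have ci : ∀ g : G, δ * g⁻¹ * δ⁻¹ = (δ * g * δ⁻¹)⁻¹ := fun g => by group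
  have tx : φ (el _ 64) * φ (el _ 16) * (φ (el _ 64))⁻¹ = (φ (el _ 16))⁻¹ := by
    simp only [← map_mul, ← map_inv]
    exact congrArg φ (by decide +kernel)
  have ty : φ (el _ 64) * φ (el _ 26) * (φ (el _ 64))⁻¹ = (φ (el _ 26))⁻¹ := by
    simp only [← map_mul, ← map_inv]
    exact congrArg φ (by decide +kernel)
  have tc : φ (el _ 64) * φ (el _ 32) * (φ (el _ 64))⁻¹ = (φ (el _ 32))⁻¹ := by
    simp only [← map_mul, ← map_inv]
    exact congrArg φ (by decide +kernel)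
  have tc' : φ (el _ 64) * (φ (el _ 32))⁻¹ * (φ (el _ 64))⁻¹ = φ (el _ 32) := by
    simp only [← map_mul, ← map_inv]
    exact congrArg φ (by decide +kernel)
  rcases key with ⟨rfl, rfl, rfl | rfl⟩ | ⟨rfl, rfl, rfl | rfl⟩
  · refine Or.inl ⟨?_, ?_, ?_, ?_⟩ <;> rw [ey]
    · exact dt
    · rw [du, ← map_pow, ← map_mul]; exact congrArg φ (by decide +kernel)
    · rw [dv, ← map_pow, ← map_mul]; exact congrArg φ (by decide +kernel)
    · rw [dw, ← map_mul, ← map_mul]; exact congrArg φ (by decide +kernel)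
  · refine Or.inr (Or.inl ⟨?_, ?_, ?_, ?_⟩) <;> rw [ey]
    · exact dt
    · rw [du, ← map_pow, ← map_mul]; exact congrArg φ (by decide +kernel)
    · rw [dv, ← map_pow, ← map_mul]; exact congrArg φ (by decide +kernel)
    · rw [ci, dw, ← map_inv, ← map_inv, ← map_mul, ← map_mul]; exact congrArg φ (by decide +kernel)
  · refine Or.inr (Or.inr (Or.inl ⟨?_, ?_, ?_, ?_⟩)) <;> rw [ey, cj2]
    · rw [mul_inv_cancel_right]; exact dt
    · rw [tx, ci, du, ← map_pow, ← map_mul, ← map_inv]; exact congrArg φ (by decide +kernel)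
    · rw [ty, ci, dv, ← map_pow, ← map_mul, ← map_inv]; exact congrArg φ (by decide +kernel)
    · rw [tc, ci, dw, ← map_mul, ← map_mul, ← map_inv]; exact congrArg φ (by decide +kernel)
  · refine Or.inr (Or.inr (Or.inr ⟨?_, ?_, ?_, ?_⟩)) <;> rw [ey, cj2]
    · rw [mul_inv_cancel_right]; exact dt
    · rw [tx, ci, du, ← map_pow, ← map_mul, ← map_inv]; exact congrArg φ (by decide +kernel)
    · rw [ty, ci, dv, ← map_pow, ← map_mul, ← map_inv]; exact congrArg φ (by decide +kernel)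
    · rw [tc', dw, ← map_inv, ← map_mul, ← map_mul]; exact congrArg φ (by decide +kernel)

end B61d

theorem b61d (h : Q61 F O K T C0 P t z a a' f ρ x c) (s : Dl61 t z a a' f x c δ) :
    ∃ c δ, Q61 F O K T C0 P t z a a' f ρ x c ∧ Dn61 t a' x c δ := by
  rcases B61d.norm_form h s with k | k | k | k
  · exact ⟨_, _, h, k⟩
  · exact ⟨_, _, B61d.q61_inv h, k⟩
  · exact ⟨_, _, h, k⟩
  · exact ⟨_, _, B61d.q61_inv h, k⟩

end Cfsg.Agent.DIH.V7
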