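import Cfsg.Agent.DA7.Defs
import Cfsg.Agent.DA7.B61k
import Cfsg.Agent.DA7.Bas2
import Cfsg.Agent.H42.Index2

set_option autoImplicit false

namespace Cfsg.Agent.DIH.V7

open Subgroup H49
open H42 (SylIn)

variable {G : Type*} [Group G] [Finite G] {F O K T C0 P P1 P2 S : Subgroup G}
  {t z a a' a1 a2 f : G}

variable {ρ x c d e κ σ δ y : G} {i p q : Bool}

namespace E61

open PM
open H63 (nf map_nf)

/-- the element with a given code -/
noncomputable abbrev o (n : ℕ) : PM D61 := el D61 n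

theorem N_eq : D61.N = 8 := by decide +kernel

theorem hsub : ∀ i < 8, (1 : PM D61).v < 2 ^ i ∧
    ∀ a : PM D61, a.v < 2 ^ i → ∀ b : PM D61, b.v < 2 ^ i → (a * b).v < 2 ^ i := by decide +kernel

/-- the chain -/
noncomputable def Y (φ : PM D61 →* G) (i : ℕ) : Subgroup G :=
  (subQ (fun p => p.v < 2 ^ (i % 8)) (hsub _ (Nat.mod_lt _ (by norm_num))).1
    (hsub _ (Nat.mod_lt _ (by norm_num))).2).map φ

variable {φ : PM D61 →* G} {g g' k : G} {α β : PM D61 → PM D61}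

omit [Finite G] in
theorem mem_Y {i : ℕ} (hi : i < 8) : g ∈ Y φ i ↔ ∃ p : PM D61, p.v < 2 ^ i ∧ φ p = g := by
  change (∃ p : PM D61, p.v < 2 ^ (i % 8) ∧ φ p = g) ↔ _
  rw [Nat.mod_eq_of_lt hi]

/-- `g` acts on `Q₁` as `α` -/
def Ac (φ : PM D61 →* G) (g : G) (α : PM D61 → PM D61) : Prop :=
  ∀ p : PM D61, p.v < 128 → (α p).v < 128 ∧ g * φ p * g⁻¹ = φ (α p)

section
omit [Finite G]

theorem Ac.mul (h : Ac φ g α) (h' : Ac φ g' β) : Ac φ (g * g') fun p => α (β p) := fun p hp =>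
  ⟨(h _ (h' p hp).1).1, by rw [← (h _ (h' p hp).1).2, ← (h' p hp).2]; group⟩

theorem Ac.congr (h : Ac φ g α) (e : ∀ p : PM D61, p.v < 128 → α p = β p) : Ac φ g β :=
  fun p hp => e p hp ▸ h p hp

theorem Ac.inv (h : Ac φ g α) (e : ∀ p : PM D61, p.v < 128 → (β p).v < 128 ∧ α (β p) = p) :
    Ac φ g⁻¹ β := fun p hp => ⟨(e p hp).1, by
  have := (h _ (e p hp).1).2
  rw [(e p hp).2] at this
  rw [← this]; group⟩

theorem ac_id (hk : k ∈ 𝒞(Y φ 7)) : Ac φ k fun p => p := fun p hp =>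
  ⟨hp, mul_inv_eq_iff_eq_mul.2 (mem_centralizer_iff.1 hk _ ((mem_Y (by norm_num)).2 ⟨p, hp, rfl⟩)).symm⟩

theorem Ac.cen (h : Ac φ g α) (h' : Ac φ g' α) : g'⁻¹ * g ∈ 𝒞(Y φ 7) := mem_centralizer_iff.2 fun y hy => by
  obtain ⟨p, hp, rfl⟩ := (mem_Y (by norm_num)).1 hy
  have := (h p hp).2.trans (h' p hp).2.symm
  calc φ p * (g'⁻¹ * g) = g'⁻¹ * (g' * φ p * g'⁻¹) * g := by group
    _ = _ := by rw [← this]; group

theorem Ac.mv (h : Ac φ g α) {p : PM D61} (hp : p.v < 128) : g * φ p = φ (α p) * g := by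
  rw [← (h p hp).2, inv_mul_cancel_right]

/-- the action given by the images of the generators -/
noncomputable def al (L : List ℕ) (p : PM D61) : PM D61 := nf 2 8 (fun k => o (L.getD k 0)) p.v

theorem r0 : o 1 = o 8 * o 8 ∧ o 2 = o 16 * o 16 ∧ o 4 = o 32 * o 32 ∧ o 26 = o 128 * o 16 * o 128 := by
  decide +kernel

theorem ac_of (E : Em61 φ P t z a a' f x c) {n0 n1 n2 n3 n4 n5 n6 m : ℕ} (hx : g * x * g⁻¹ = φ (o n4))
    (hy : g * (a' * x * a') * g⁻¹ = φ (o m)) (hc : g * c * g⁻¹ = φ (o n5)) (ht : g * t * g⁻¹ = φ (o n6))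
    (h : o n0 = o n3 * o n3 ∧ o n1 = o n4 * o n4 ∧ o n2 = o n5 * o n5 ∧ o n3 = o n4 * o m ∧
      ∀ p : PM D61, p.v < 128 → (al [n0, n1, n2, n3, n4, n5, n6] p).v < 128) :
    Ac φ g (al [n0, n1, n2, n3, n4, n5, n6]) := fun p hp => ⟨h.2.2.2.2 p hp, by
  have hb : g * φ (o 8) * g⁻¹ = φ (o n3) := by rw [E.eb, ← conj_mul, hx, hy, h.2.2.2.1, map_mul]
  have e1 : nf 2 8 (fun k => o (2 ^ k)) p.v = p := N_eq ▸ rel_self.2 p
  have e2 := map_nf (MulAut.conj g).toMonoidHom 2 8 (fun n => φ (o (2 ^ n))) p.v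
  rw [← map_nf, e1] at e2
  rw [al, map_nf]
  refine e2.trans (H80M.nf_lt 8 (i := 7) hp fun l hl => ?_)
  change g * φ (o (2 ^ l)) * g⁻¹ = _
  interval_cases l
  · exact (by rw [r0.1, h.1, map_mul, map_mul, ← conj_mul, hb] : g * φ (o 1) * g⁻¹ = φ (o n0))
  · exact (by rw [r0.2.1, h.2.1, map_mul, map_mul, ← conj_mul, E.ex, hx] : g * φ (o 2) * g⁻¹ = φ (o n1))
  · exact (by rw [r0.2.2.1, h.2.2.1, map_mul, map_mul, ← conj_mul, E.ec, hc] : g * φ (o 4) * g⁻¹ = φ (o n2))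
  · exact hb
  · exact (E.ex ▸ hx : g * φ (o 16) * g⁻¹ = φ (o n4))
  · exact (E.ec ▸ hc : g * φ (o 32) * g⁻¹ = φ (o n5))
  · exact (E.et ▸ ht : g * φ (o 64) * g⁻¹ = φ (o n6))⟩

/-- the action of `d` -/
noncomputable def ad : PM D61 → PM D61 := al [1, 2, 5, 9, 19, 40, 72]
/-- the action of `e` -/
noncomputable def ae : PM D61 → PM D61 := al [1, 2, 6, 11, 18, 50, 82]
/-- the action of `ρ` -/
noncomputable def ar : PM D61 → PM D61 := al [2, 3, 4, 18, 26, 32, 64]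
/-- the action of `A` -/
noncomputable def aA (p : PM D61) : PM D61 := o 128 * p * o 128

theorem r1 : o 19 = o 16 * (o 128 * o 16 * o 128) ^ 2 ∧ o 24 = o 128 * o 16 * o 128 * o 16 ^ 2 ∧
    o 40 = o 32 * o 8 ∧ o 72 = o 64 * o 8 ∧ o 9 = (o 8)⁻¹ ∧ o 128 * o 128 = 1 ∧
    ad (o 16) = o 19 ∧ ad (o 26) = o 24 ∧ ad (o 32) = o 40 ∧ ad (o 64) = o 72 := by decide +kernel

theorem ac_d (E : Em61 φ P t z a a' f x c) (s : Dn61 t a' x c δ) : Ac φ δ ad := by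
  obtain ⟨h1, h2, h3, h4, -⟩ := r1
  exact ac_of E (m := 24) (by rw [h1, s.dx]; simp only [map_mul, map_pow, E.ex, E.eA])
    (by rw [h2, s.dy]; simp only [map_mul, map_pow, E.ex, E.eA]) (by rw [h3, s.dc, map_mul, E.ec, E.eb])
    (by rw [h4, s.dt, map_mul, E.et, E.eb]) (by decide +kernel)

theorem dn_of (E : Em61 φ P t z a a' f x c) (h : Ac φ d ad) : Dn61 t a' x c d := by
  obtain ⟨h1, h2, h3, h4, -, -, h5, h6, h7, h8⟩ := r1
  have k1 := (h (o 16) (by decide +kernel)).2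
  have k2 := (h (o 26) (by decide +kernel)).2
  have k3 := (h (o 32) (by decide +kernel)).2
  have k4 := (h (o 64) (by decide +kernel)).2
  rw [h5, h1] at k1
  rw [h6, h2, r0.2.2.2] at k2
  rw [h7, h3] at k3
  rw [h8, h4] at k4
  simp only [map_mul, map_pow, E.ex, E.eA, E.ec, E.et, E.eb] at k1 k2 k3 k4
  exact ⟨k4, k1, k2, k3⟩

theorem ac_r (E : Em61 φ P t z a a' f x c) (l : L6 P t z a a' f ρ x c false true true false) : Ac φ ρ ar :=
  ac_of E (m := 9) (by rw [r0.2.2.2, l.ρx]; simp only [map_mul, E.ex, E.eA, pw, cond_false, mul_one])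
    (by rw [r1.2.2.2.2.1, l.ρx', map_inv, E.eb]) (by rw [E.ec, ← l.cρ, mul_inv_cancel_right])
    (by rw [E.et, l.ρt]) (by decide +kernel)

theorem AA1 (E : Em61 φ P t z a a' f x c) : a' * a' = 1 := by
  rw [← E.eA, ← map_mul, r1.2.2.2.2.2.1, map_one]

theorem mapA (E : Em61 φ P t z a a' f x c) (p : PM D61) : φ (aA p) = a' * φ p * a' := by
  rw [aA, map_mul, map_mul, E.eA]

theorem r2 : ∀ p : PM D61, p.v < 128 → (aA p).v < 128 ∧ (ar (ar p)).v < 128 ∧ ar (ar (ar p)) = p ∧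
    ar (ad (ar (ar p))) = ae p ∧ ad (ad p) = p ∧ aA (ad (aA p)) = ad p ∧ aA (ae (aA p)) = ad (ae p) ∧
    ae (ad (ae p)) = ad p ∧ ∀ u : PM D61, u.v < 8 → u * p * u⁻¹ = p := by decide +kernel

theorem ac_A (E : Em61 φ P t z a a' f x c) : Ac φ a' aA := fun p hp =>
  ⟨(r2 p hp).1, by rw [mapA E, inv_eq_of_mul_eq_one_right (AA1 E)]⟩

theorem ac_e (h : Ac φ κ ar) (h' : Ac φ d ad) : Ac φ (κ * d * κ⁻¹) ae :=
  ((h.mul h').mul (h.inv (β := fun p => ar (ar p)) fun p hp => ⟨(r2 p hp).2.1, (r2 p hp).2.2.1⟩)).congr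
    fun p hp => (r2 p hp).2.2.2.1

theorem ac_H {u : PM D61} (hu : u.v < 8) : Ac φ (φ u) fun p => p := fun p hp =>
  ⟨hp, by rw [← map_inv, ← map_mul, ← map_mul, (r2 p hp).2.2.2.2.2.2.2.2 u hu]⟩

/-- the elements stabilizing the chain -/
def St (φ : PM D61 →* G) : Subgroup G :=
  closure {g | ∀ i < 7, ∀ y ∈ Y φ (i + 1), g * y * g⁻¹ * y⁻¹ ∈ Y φ i}

theorem Ac.st (h : Ac φ g α) (e : ∀ i < 7, ∀ p : PM D61, p.v < 2 ^ (i + 1) → (α p * p⁻¹).v < 2 ^ i) :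
    g ∈ St φ := subset_closure fun i hi y hy => by
  obtain ⟨p, hp, rfl⟩ := (mem_Y (by omega)).1 hy
  refine (mem_Y (by omega)).2 ⟨_, e i hi p hp, ?_⟩
  rw [map_mul, map_inv, (h p (hp.trans_le (Nat.pow_le_pow_right two_pos (show i + 1 ≤ 7 by omega)))).2]

theorem r3 : (∀ i < 7, ∀ p : PM D61, p.v < 2 ^ (i + 1) → (ad p * p⁻¹).v < 2 ^ i ∧ (ae p * p⁻¹).v < 2 ^ i ∧
    ∀ k < 8, (o (2 ^ k) * p * (o (2 ^ k))⁻¹ * p⁻¹).v < 2 ^ i) ∧
    (∀ k < 8, ∀ p : PM D61, p.v < 128 → (o (2 ^ k) * p * (o (2 ^ k))⁻¹).v < 128) ∧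
    ∀ p : PM D61, p.v < 2 ^ 0 → p = 1 := by decide +kernel

theorem P_le (E : Em61 φ P t z a a' f x c) : P ≤ St φ := E.range ▸ range_le fun k hk =>
  Ac.st (α := fun p => o (2 ^ k) * p * (o (2 ^ k))⁻¹)
    (fun p hp => ⟨r3.2.1 k (N_eq ▸ hk) p hp, by rw [map_mul, map_mul, map_inv]⟩)
    fun i hi p hp => (r3.1 i hi p hp).2.2 k (N_eq ▸ hk)

end

theorem two_P (E : Em61 φ P t z a a' f x c) : IsPGroup 2 P :=
  E.range ▸ isPGroup.of_surjective _ φ.rangeRestrict_surjective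

theorem mv (E : Em61 φ P t z a a' f x c) {R Z : Subgroup G} (hR : IsPGroup 2 R) (hZ : IsPGroup 2 Z)
    (h1 : R ≤ St φ) (h2 : Z ≤ St φ) : ∃ k ∈ 𝒞(Y φ 7), IsPGroup 2 (R ⊔ cj k Z : Subgroup G) := by
  have hm : ∀ i < 7, Y φ i ≤ Y φ (i + 1) := fun i hi y hy => by
    obtain ⟨p, hp, rfl⟩ := (mem_Y (by omega)).1 hy
    exact (mem_Y (by omega)).2 ⟨p, hp.trans_le (Nat.pow_le_pow_right two_pos (by omega)), rfl⟩
  have hn : St φ ≤ 𝒩(Y φ 7) := (closure_le _).2 fun g hg => H42.mem_normalizer_of_conj_mem fun y hy =>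
    (mul_mem_cancel_right (inv_mem hy)).1 (hm 6 (by norm_num) (hg 6 (by norm_num) y hy))
  refine move_two hR hZ (h1.trans hn) (h2.trans hn) fun g hg => chain_two (Y φ) 7 (eq_bot_iff.2 fun y hy => ?_) hm
    ((two_P E).to_le (E.range ▸ map_le_range _ _)) (fun _ h => h) g (sup_le h1 h2 hg)
  obtain ⟨p, hp, rfl⟩ := (mem_Y (by omega)).1 hy
  rw [r3.2.2 p hp, map_one]
  exact one_mem _

theorem Q_eq (E : Em61 φ P t z a a' f x c) : Q6 t a' x c = Y φ 7 :=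
  Subgroup.ext fun _ => E.memQ.trans (mem_Y (i := 7) (by norm_num)).symm

/-- the 2-group `X` -/
theorem exX (E : Em61 φ P t z a a' f x c) (hρ : Ac φ ρ ar) (s : Ac φ δ ad) :
    ∃ (X : Subgroup G) (d k : G), IsPGroup 2 X ∧ P ≤ X ∧ d ∈ X ∧ k ∈ 𝒞(Y φ 7) ∧
      k * ρ * d * (k * ρ)⁻¹ ∈ X ∧ Ac φ d ad := by
  obtain ⟨u, hu, w, hw, ⟨n, hn⟩, ho, e⟩ := B3.parts δ
  have h2 : δ * δ ∈ 𝒞(Y φ 7) := by
    simpa using ((s.mul s).congr fun p hp => (r2 p hp).2.2.2.2.1).cen (ac_id (one_mem _))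
  have h3 : w ∈ 𝒞(Y φ 7) := BM.mem_of_odd ho (by
    obtain ⟨m, rfl⟩ := mem_zpowers_iff.1 hw
    rw [← (Commute.refl δ).mul_zpow]
    exact zpow_mem h2 m)
  have h4 : Ac φ u ad := by
    have := s.mul (ac_id (inv_mem h3))
    rwa [show δ * w⁻¹ = u by rw [mul_inv_eq_iff_eq_mul]; exact e] at this
  have sd : ∀ {g}, Ac φ g ad → zpowers g ≤ St φ := fun h =>
    zpowers_le.2 (h.st fun i hi p hp => (r3.1 i hi p hp).1)
  obtain ⟨k, hk, h5⟩ := mv E (two_P E) (B3.isP_zpowers hn) (P_le E) (sd h4)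
  rw [cj_zpowers] at h5
  have h6 : Ac φ (k * u * k⁻¹) ad := ((ac_id hk).mul h4).mul (ac_id (inv_mem hk))
  obtain ⟨k', hk', h7⟩ := mv E h5 (Z := zpowers (ρ * (k * u * k⁻¹) * ρ⁻¹))
    (cj_zpowers ρ _ ▸ isPGroup_cj.2 (h5.to_le le_sup_right)) (sup_le (P_le E) (sd h6))
    (zpowers_le.2 ((ac_e hρ h6).st fun i hi p hp => (r3.1 i hi p hp).2.1))
  rw [cj_zpowers] at h7
  refine ⟨_, _, k', h7, le_sup_left.trans le_sup_left, mem_sup_left (mem_sup_right (mem_zpowers _)), hk',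
    mem_sup_right ?_, h6⟩
  rw [show k' * ρ * (k * u * k⁻¹) * (k' * ρ)⁻¹ = k' * (ρ * (k * u * k⁻¹) * ρ⁻¹) * k'⁻¹ by group]
  exact mem_zpowers _

theorem eqv (h : Q61 F O K T C0 P t z a a' f ρ x c) (E : Em61 φ P t z a a' f x c) {X : Subgroup G}
    (hX : IsPGroup 2 X) (h1 : g ∈ X) (h2 : g' ∈ X) (h3 : Ac φ g α) (h4 : Ac φ g' α) :
    ∃ v : PM D61, v.v < 8 ∧ g = g' * φ v := by
  obtain ⟨v, hv, e⟩ := E.memH.1 (h.two hX (mul_mem (inv_mem h2) h1) (Q_eq E ▸ h3.cen h4))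
  exact ⟨v, hv, by rw [e, mul_inv_cancel_left]⟩

set_option synthInstance.maxSize 2000 in
theorem r4 : ∀ h4 : PM D61, h4.v < 8 → (h4 * aA h4).v < 128 ∧ ∀ h2 : PM D61, h2.v < 8 → h2 * aA h2 = 1 →
    ∀ h1 : PM D61, h1.v < 8 → ad h1 = h1 → ad h2 * h1 * ae (h4 * aA h4) = 1 →
      ∃ u : PM D61, u.v < 8 ∧ ad u * h1 * u = 1 ∧ h2 * aA u = u := by
  decide +kernel

set_option synthInstance.maxSize 2000 in
theorem r5 : ∀ h4 : PM D61, h4.v < 8 → h4 * aA h4 = 1 → ∀ h3 : PM D61, h3.v < 8 → ad (ae h4) * h3 * h4 = 1 →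
    ∃ i m : Bool, h3 = pw i (o 2 * o 1) ∧ h4 * aA (pw m (o 2)) = pw m (o 2) * pw i (o 4) := by
  decide +kernel

theorem r6 : (∀ m : Bool, (pw m (o 2)).v < 8 ∧ ad (pw m (o 2)) = pw m (o 2) ∧ ae (pw m (o 2)) = pw m (o 2) ∧
    pw m (o 2) * pw m (o 2) = 1) ∧ (∀ u : PM D61, u * o 4 * u⁻¹ = o 4 ∧ u * o 5 * u⁻¹ = o 5) ∧
    ad (o 4) = o 5 ∧ ae (o 4) = o 6 ∧ o 5 ≠ o 4 ∧ o 6 ≠ o 4 ∧ o 6 ≠ o 5 ∧ (o 4).v < 128 ∧
    ∀ k < 7, (o (2 ^ k)).v < 128 := by decide +kernel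

theorem lt128 {u : PM D61} (h : u.v < 8) : u.v < 128 := by omega

omit [Finite G] in
theorem inv2 {A : G} (h : A * A = 1) : (∀ g : G, A * (A * g * A) * A = g) ∧
    ∀ g g' : G, A * (g * g') * A = A * g * A * (A * g' * A) := by
  have cA : ∀ g : G, A * (A * g) = g := fun g => by rw [← mul_assoc, h, one_mul]
  exact ⟨fun g => by simp only [mul_assoc, cA, h, mul_one], fun g g' => by simp only [mul_assoc, cA]⟩

/-- the involution `d` -/
theorem exD (h : Q61 F O K T C0 P t z a a' f ρ x c) (E : Em61 φ P t z a a' f x c) {X : Subgroup G}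
    (hX : IsPGroup 2 X) (hP : P ≤ X) (hd : d ∈ X) (he : e ∈ X) (kd : Ac φ d ad) (ke : Ac φ e ae) :
    ∃ u : PM D61, u.v < 8 ∧ d * φ u * (d * φ u) = 1 ∧ a' * (d * φ u) * a' = d * φ u := by
  have hA : a' ∈ X := hP (E.range ▸ ⟨_, E.eA⟩)
  obtain ⟨i1, i2⟩ := inv2 (AA1 E)
  have kA := ac_A E
  obtain ⟨h1, l1, e1⟩ := eqv h E hX (mul_mem hd hd) (one_mem _)
    ((kd.mul kd).congr fun p hp => (r2 p hp).2.2.2.2.1) (ac_id (one_mem _))
  obtain ⟨h2, l2, e2⟩ := eqv h E hX (mul_mem (mul_mem hA hd) hA) hd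
    (((kA.mul kd).mul kA).congr fun p hp => (r2 p hp).2.2.2.2.2.1) kd
  obtain ⟨h4, l4, e4⟩ := eqv h E hX (mul_mem (mul_mem hA he) hA) (mul_mem hd he)
    (((kA.mul ke).mul kA).congr fun p hp => (r2 p hp).2.2.2.2.2.2.1) (kd.mul ke)
  rw [one_mul] at e1
  obtain ⟨l5, k1⟩ := r4 h4 l4
  have f2 := i1 d
  rw [e2, i2, e2, ← mapA E, mul_assoc, ← map_mul, mul_eq_left] at f2
  have f4 := i1 e
  rw [e4, i2, i2, e2, e4, ← mapA E, kd.mv (lt128 l2)] at f4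
  obtain ⟨u, hu, k2, k3⟩ := k1 h2 l2 (E.inj (f2.trans (map_one φ).symm)) h1 l1 (E.inj (by
      rw [← (kd h1 (lt128 l1)).2, ← e1]; group)) (E.inj (by
      rw [map_mul, map_mul, map_one, ← e1, ← mul_left_inj e, mul_assoc, ← ke.mv l5, map_mul, one_mul]
      simpa only [mul_assoc] using f4))
  refine ⟨u, hu, ?_, ?_⟩
  · rw [← map_one φ, ← k2, map_mul, map_mul, ← e1, ← mul_assoc (φ _), ← kd.mv (lt128 hu)]
    simp only [mul_assoc]
  · rw [i2, e2, ← mapA E, mul_assoc, ← map_mul, k3]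

/-- the involution `e` -/
theorem exE (h : Q61 F O K T C0 P t z a a' f ρ x c) (E : Em61 φ P t z a a' f x c) {X : Subgroup G}
    (hX : IsPGroup 2 X) (hP : P ≤ X) (hd : d ∈ X) (he : e ∈ X) (kd : Ac φ d ad) (ke : Ac φ e ae)
    (dd : d * d = 1) (dA : a' * d * a' = d) (ee : e * e = 1) : ∃ i m : Bool,
      Ac φ (e * pw m a) ae ∧ e * pw m a * (e * pw m a) = 1 ∧ e * pw m a * pw m a = e ∧
      e * pw m a * d * (e * pw m a) = d * pw i (a * z) ∧ a' * (e * pw m a) * a' = d * (e * pw m a) * pw i f := by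
  have hA : a' ∈ X := hP (E.range ▸ ⟨_, E.eA⟩)
  obtain ⟨i1, i2⟩ := inv2 (AA1 E)
  have kA := ac_A E
  obtain ⟨h3, l3, e3⟩ := eqv h E hX (mul_mem (mul_mem he hd) he) hd
    (((ke.mul kd).mul ke).congr fun p hp => (r2 p hp).2.2.2.2.2.2.2.1) kd
  obtain ⟨h4, l4, e4⟩ := eqv h E hX (mul_mem (mul_mem hA he) hA) (mul_mem hd he)
    (((kA.mul ke).mul kA).congr fun p hp => (r2 p hp).2.2.2.2.2.2.1) (kd.mul ke)
  have f4 := i1 e
  rw [e4, i2, i2, dA, e4, ← mapA E, ← mul_assoc, ← mul_assoc, dd, one_mul, mul_assoc, ← map_mul,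
    mul_eq_left] at f4
  have f5 := i2 e e
  rw [ee, mul_one, AA1 E, e4] at f5
  obtain ⟨i, m, k1, k2⟩ := r5 h4 l4 (E.inj (f4.trans (map_one φ).symm)) h3 l3 (E.inj (by
    have := (kd.mul ke).mv (lt128 l4)
    rw [map_mul, map_mul, map_one, f5]
    conv_rhs => enter [1]; rw [this]
    rw [← one_mul (φ h3), ← dd, mul_assoc d, ← e3]
    simp only [mul_assoc]))
  obtain ⟨m1, m2, m3, m4⟩ := r6.1 m
  have c1 := kd.mv (lt128 m1)
  have c2 := ke.mv (lt128 m1)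
  have c3 := congrArg φ m4
  have c4 := congrArg φ k2
  have c5 := ke.mul (ac_H (φ := φ) m1)
  rw [m2] at c1
  rw [m3] at c2
  rw [k1] at e3
  simp only [map_mul, map_one, BM.pw_map, mapA E, E.ea, E.ez, E.ef] at c1 c2 c3 c4 c5 e3
  refine ⟨i, m, c5, ?_, by rw [mul_assoc, c3, mul_one], ?_, ?_⟩
  · rw [mul_assoc, ← mul_assoc (pw m a), ← c2, mul_assoc, c3, mul_one, ee]
  · rw [← e3, mul_assoc e, ← c1, mul_assoc, mul_assoc d, ← mul_assoc (pw m a), ← c2, mul_assoc e, c3, mul_one,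
      mul_assoc]
  · rw [i2, e4, mul_assoc, c4]
    simp only [mul_assoc]

theorem card (E : Em61 φ P t z a a' f x c) (cP : Nat.card P = 256) (kd : Ac φ d ad) (ke : Ac φ e ae)
    (dd : d * d = 1) (dA : d * a' = a' * d) (ee : e * e = 1) (ed : e * d * e = d * pw i (a * z))
    (Ae : a' * e * a' = d * e * pw i f) : Nat.card (P ⊔ zpowers d ⊔ zpowers e : Subgroup G) = 1024 := by
  obtain ⟨-, k1, k2, k3, k4, k5, k6, k7, k8⟩ := r6
  have mP : ∀ p, φ p ∈ P := fun p => E.range ▸ ⟨p, rfl⟩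
  have gen : ∀ {g : G} {R : Subgroup G} {α}, Ac φ g α → P ≤ R → g * a' * g⁻¹ ∈ R → cj g P ≤ R :=
    fun {g R α} h1 h2 h3 => cj_le_iff.2 (E.range ▸ range_le fun k hk => by
      rw [mem_cj, inv_inv]
      rcases Nat.lt_succ_iff_lt_or_eq.1 (show k < 7 + 1 from hk.trans_eq N_eq) with hk | rfl
      · rw [(h1 _ (k8 k hk)).2]; exact h2 (mP _)
      · exact E.eA ▸ h3)
  have hA : a' ∈ P := E.eA ▸ mP _
  have nd : d ∈ 𝒩(P) := mem_norm_of_cj_le (gen kd le_rfl (by rwa [dA, mul_inv_cancel_right]))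
  have df := (kd _ k7).2
  have ef := (ke _ k7).2
  rw [k2] at df
  rw [k3] at ef
  have cP : ∀ {g}, g ∈ P → g * φ (o 4) * g⁻¹ = φ (o 4) ∧ g * φ (o 5) * g⁻¹ = φ (o 5) := fun hg => by
    obtain ⟨u, rfl⟩ := E.range ▸ hg
    simp only [← map_inv, ← map_mul, k1 u, and_self]
  have ei : e⁻¹ = e := inv_eq_of_mul_eq_one_right ee
  have md : d ∈ P ⊔ zpowers d := mem_sup_right (mem_zpowers d)
  have ne : e ∈ 𝒩(P ⊔ zpowers d) := mem_norm_of_cj_le (by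
    rw [cj_sup, cj_zpowers]
    refine sup_le (gen ke le_sup_left ?_) (zpowers_le.2 ?_)
    · have c1 : φ (pw i (o 4)) = pw i f := by rw [BM.pw_map, E.ef]
      have c2 := ke.mv (p := pw i (o 4)) (by cases i <;> decide +kernel)
      rw [ei, show e * a' * e = a' * (a' * e * a') * e by rw [← mul_assoc, ← mul_assoc, AA1 E, one_mul], Ae, ← c1,
        mul_assoc d, c2, mul_assoc, mul_assoc, mul_assoc, ee, mul_one]
      exact mul_mem (mem_sup_left hA) (mul_mem md (mem_sup_left (mP _)))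
    · rw [ei, ed, ← E.ea, ← E.ez, ← map_mul, ← BM.pw_map]
      exact mul_mem md (mem_sup_left (mP _)))
  rw [H42.card_sup_zpowers ne (ee ▸ one_mem _) fun he => ?_, H42.card_sup_zpowers nd (dd ▸ one_mem _)
    fun hd => k4 (E.inj (df.symm.trans (cP hd).1)), ‹Nat.card P = 256›]
  rcases (H42.mem_sup_zpowers nd (dd ▸ one_mem _)).1 he with h | h
  · exact k5 (E.inj (ef.symm.trans (cP h).1))
  · refine k6 (E.inj (ef.symm.trans (Eq.trans ?_ (cP h).2)))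
    rw [← df]; group

end E61

open E61 in
theorem b61e (h : Q61 F O K T C0 P t z a a' f ρ x c) (s : Dn61 t a' x c δ) :
    ∃ (S : Subgroup G) (d e κ : G) (i : Bool), Q63 F O K T C0 P S t z a a' f ρ x c d e κ i := by
  obtain ⟨φ, E⟩ := h.l1.em61 h.toCB
  have kρ := ac_r E h.l1
  obtain ⟨X, d, k, hX, hP, hd, hk, he, kd⟩ := exX E kρ (ac_d E s)
  have kκ : Ac φ (k * ρ) ar := (ac_id hk).mul kρ
  have mP : ∀ p, φ p ∈ P := fun p => E.range ▸ ⟨p, rfl⟩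
  obtain ⟨u, hu, dd, dA⟩ := exD h E hX hP hd he kd (ac_e kκ kd)
  have kd' : Ac φ (d * φ u) ad := kd.mul (ac_H hu)
  obtain ⟨i, m, ke, ee, e1, ed, Ae⟩ := exE h E hX hP (mul_mem hd (hP (mP u)))
    (e := k * ρ * (d * φ u) * (k * ρ)⁻¹) (by
      rw [← conj_mul, (kκ u (lt128 hu)).2]; exact mul_mem he (hP (mP _))) kd' (ac_e kκ kd') dd dA
    (by rw [conj_mul, dd, mul_one, mul_inv_cancel])
  generalize d * φ u = d at *
  generalize hE : k * ρ * d * (k * ρ)⁻¹ * pw m a = e at *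
  have dA' : d * a' = a' * d := by
    conv_lhs => rw [← dA, mul_assoc, AA1 E, mul_one]
  refine ⟨_, d, e, k * ρ, i, h, dn_of E kd', dd, dA', ee, fun g hg => ?_, ?_, ed, Ae, rfl, ?_⟩
  · obtain ⟨p, hp, rfl⟩ := E.memQ.1 hg
    rw [(kκ p hp).2, (kρ p hp).2]
  · cases m
    · exact .inl (by rw [← e1]; exact mul_one _)
    · exact .inr e1.symm
  · rw [← card E h.l1.cardP kd' ke dd dA' ee ed Ae]
    congr 2
    have m1 : ∀ {g}, g ∈ ({x, c, t, a', d, e} : Set G) → g ∈ closure ({x, c, t, a', d, e} : Set G) :=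
      fun k => subset_closure k
    refine le_antisymm ((closure_le _).2 ?_) (sup_le (sup_le ?_ (zpowers_le.2 (m1 (by simp))))
      (zpowers_le.2 (m1 (by simp))))
    · rintro _ (rfl | rfl | rfl | rfl | rfl | rfl)
      exacts [mem_sup_left (mem_sup_left (E.ex ▸ mP _)), mem_sup_left (mem_sup_left (E.ec ▸ mP _)),
        mem_sup_left (mem_sup_left (E.et ▸ mP _)), mem_sup_left (mem_sup_left (E.eA ▸ mP _)),
        mem_sup_left (mem_sup_right (mem_zpowers _)), mem_sup_right (mem_zpowers _)]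
    · have mx := m1 (g := x) (by simp)
      have mc := m1 (g := c) (by simp)
      have mA := m1 (g := a') (by simp)
      have mb := mul_mem mx (mul_mem (mul_mem mA mx) mA)
      obtain ⟨q1, q2, q3, -⟩ := r0
      replace q1 := congrArg φ q1
      replace q2 := congrArg φ q2
      replace q3 := congrArg φ q3
      simp only [map_mul, E.ez, E.ea, E.ef, E.eb, E.ex, E.ec] at q1 q2 q3
      have mz : z ∈ _ := q1 ▸ mul_mem mb mb
      have ma : a ∈ _ := q2 ▸ mul_mem mx mx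
      have mf : f ∈ _ := q3 ▸ mul_mem mc mc
      have mt := m1 (g := t) (by simp)
      refine h.l1.gen.le.trans ((closure_le _).2 ?_)
      rintro _ (rfl | rfl | rfl | rfl | rfl | rfl | rfl) <;> assumption

end Cfsg.Agent.DIH.V7
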