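import Cfsg.Agent.DA7.BaseA

/-! The subgroup of `C(t)` fixing the two classes of four-groups of `K`. -/

set_option autoImplicit false

namespace Cfsg.Agent.DIH.V7

open Subgroup H49 DihedralGroup
open H42 (SylIn)
open COMP (Two)
open DHR (E4 mem_E4 In mem_In mem_cent_range)

variable {G : Type*} [Group G] [Finite G] {F O K T C0 P P1 P2 S : Subgroup G}
  {t z a a' a1 a2 f : G}

theorem frat {D X : Subgroup G} (hD : SylIn 2 D X) {c : G} (hc : c ∈ 𝒩(X)) : ∃ k ∈ X, k * c ∈ 𝒩(D) := by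
  obtain ⟨k, hk, h3⟩ := hD.exists_conj (isPGroup_cj (g := c).2 hD.isP) (cj_le_of_mem_norm hD.le hc)
  exact ⟨k, hk, H42.mem_normalizer_of_conj_mem fun y hy => by
    simpa [mul_assoc] using h3 _ (conj_mem_cj.2 hy)⟩

theorem in_of_normE {φ : DHR.D8 →* G} (hφ : Function.Injective φ) (hD : SylIn 2 φ.range K) {c : G}
    (h1 : c ∈ 𝒩(K)) (h2 : c ∈ 𝒩(E4 φ)) : ∃ k ∈ K, k * c ∈ In φ.range := by
  obtain ⟨k, hk, h3⟩ := frat (hD.of_le (K := K ⊓ 𝒩(E4 φ)) (le_inf hD.le DHR.D_norm_E) inf_le_left)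
    (COMP.mem_normalizer_inf h1 (le_normalizer h2))
  refine ⟨k, hk.1, (DHR.act_cases hφ h3).resolve_right fun ⟨d, e⟩ => ?_⟩
  obtain ⟨x, hx, e'⟩ := conj_mem_of_norm le_rfl (mul_mem hk.2 h2) DHR.aE
  have := mem_cent1.1 hx
  rw [hφ (e'.trans (e (sr 0)))] at this
  clear e; revert this d; decide

omit [Finite G] in
theorem In_le (D : Subgroup G) : In D ≤ 𝒩(D) := sup_le le_normalizer (cent_le_norm _)

theorem in_of_K {φ : DHR.D8 →* G} (hφ : Function.Injective φ) (hD : SylIn 2 φ.range K) {c : G}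
    (h1 : c ∈ K) (h2 : c ∈ 𝒩(φ.range)) : c ∈ In φ.range := by
  obtain ⟨m, hm, h3⟩ := CORE.exists_odd_pow_two c
  refine TE.tools_mem_of_cop (Nat.coprime_two_right.2 hm) (mem_sup_left (COMP.SylIn.mem_of_norm hD
    (pow_mem h1 m) (Two.of_mem h3 (mem_zpowers _)) (pow_mem h2 m))) ?_
  rw [pow_two]
  by_cases k : c ∈ In φ.range
  exacts [mul_mem k k, DHR.out_mul hφ h2 h2 k k]

/-- the stabilizer in `C(t)` of the `K`-class of `E₁` -/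
theorem HL.c0 (h : HL O K t z a1 a2) (hT : SylIn 2 T 𝒞[t]) (h1 : a1 ∈ T) (h2 : a2 ∈ T) :
    ∃ C0 : Subgroup G, C0 ≤ 𝒞[t] ∧ (∀ x ∈ 𝒞[t], ∀ y ∈ 𝒞[t], x ∉ C0 → y ∉ C0 → x * y ∈ C0) ∧
      𝒞[t] ⊓ 𝒩(closure {z, a1}) ≤ C0 ∧ 𝒞[t] ⊓ 𝒩(closure {z, a2}) ≤ C0 ∧
      (∀ y ∈ T, y ∈ C0 → ∃ d ∈ closure {a1, a2}, y * d * a1 = a1 * (y * d) ∧ y * d * a2 = a2 * (y * d)) ∧
      ∀ y ∈ T, y ∉ C0 → (y * a1 * y⁻¹ = a2 ∨ y * a1 * y⁻¹ = a2 * z) ∧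
        (y * a2 * y⁻¹ = a1 ∨ y * a2 * y⁻¹ = a1 * z) := by
  obtain ⟨φ, p⟩ := h.toD8.phi
  obtain ⟨ψ, q⟩ := h.toD8.symm.phi
  have hD : SylIn 2 φ.range K := p.rg ▸ h.sylD
  have e : ψ.range = φ.range := by rw [p.rg, q.rg, Set.pair_comm]
  have TD : T ≤ 𝒩(φ.range) := p.rg ▸ h.TD hT h1 h2
  have m : ∀ c ∈ 𝒞[t], (∃ k ∈ K, k * c ∈ In φ.range) → c ∈ K ⊔ (𝒞[t] ⊓ In φ.range) := fun c hc ⟨k, hk, e⟩ =>
    (mul_mem_cancel_left (mem_sup_left hk)).1 (mem_sup_right ⟨mul_mem (h.KC hk) hc, e⟩)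
  refine ⟨K ⊔ (𝒞[t] ⊓ In φ.range), sup_le h.KC inf_le_left, fun x hx y hy x1 y1 => ?_,
    fun c hc => m c hc.1 (in_of_normE p.inj hD (h.nK hc.1) (p.E ▸ hc.2)),
    fun c hc => m c hc.1 (e ▸ in_of_normE q.inj (e ▸ hD) (h.nK hc.1) (q.E ▸ hc.2)),
    fun y hy y1 => ?_, fun y hy y1 => ?_⟩
  · obtain ⟨k, hk, n1⟩ := frat hD (h.nK hx)
    obtain ⟨l, hl, n2⟩ := frat hD (h.nK hy)
    refine m _ (mul_mem hx hy) ⟨k * (x * l * x⁻¹), mul_mem hk (conj_mem_of_norm h.nK hx hl), ?_⟩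
    convert DHR.out_mul p.inj n1 n2 (fun c => x1 (m x hx ⟨k, hk, c⟩)) (fun c => y1 (m y hy ⟨l, hl, c⟩)) using 1
    group
  · obtain ⟨k, hk, n, hn, rfl⟩ := (mem_sup_of_norm_left (inf_le_left.trans h.nK)).1 y1
    obtain ⟨d, c, hc, e⟩ := mem_In.1 (mul_mem (in_of_K p.inj hD hk
      ((mul_mem_cancel_right (In_le _ hn.2)).1 (TD hy))) hn.2)
    refine ⟨(φ d)⁻¹, p.rg ▸ inv_mem ⟨d, rfl⟩, ?_⟩
    rw [e, hc _ ⟨d, rfl⟩, mul_inv_cancel_right]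
    exact p.cD.1 hc
  · obtain ⟨d, c⟩ := (DHR.act_cases p.inj (TD hy)).resolve_left fun c =>
      y1 (mem_sup_right ⟨hT.le hy, c⟩)
    have k1 : d * DHR.om (sr 0) * d⁻¹ = sr 1 ∨ d * DHR.om (sr 0) * d⁻¹ = sr 3 := by clear c; revert d; decide
    have k2 : d * DHR.om (sr 1) * d⁻¹ = sr 0 ∨ d * DHR.om (sr 1) * d⁻¹ = sr 2 := by clear c k1; revert d; decide
    rw [← p.e4, ← p.e3, ← p.e1, ← p.e2, c, c]
    exact ⟨k1.imp (congrArg φ) (congrArg φ), k2.imp (congrArg φ) (congrArg φ)⟩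

end Cfsg.Agent.DIH.V7
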