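import Cfsg.Agent.DA7.Defs
import Cfsg.Agent.DA7.BaseA
import Cfsg.Agent.DA7.BaseB
import Cfsg.Agent.DA7.BaseC

/-! The three cases for `C_T(D)`. -/

set_option autoImplicit false

namespace Cfsg.Agent.DIH.V7

open Subgroup H49
open H42 (SylIn)
open COMP (Two)

variable {G : Type*} [Group G] [Finite G] {F O K T C0 P P1 P2 S : Subgroup G}
  {t z a a' a1 a2 f ρ ρ1 ρ2 : G}

namespace Bs

/-- the properties of `ρ` -/
structure Sr (K T : Subgroup G) (t z a1 a2 ρ : G) : Prop where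
  mK : ρ ∈ K
  rho : Rho t z a1 1 ρ
  alt : ∀ c ∈ T, c * a1 = a1 * c → c * a2 = a2 * c → c * ρ = ρ * c ∨ c * z * ρ = ρ * (c * z)
  ca : ∀ c ∈ T ⊓ 𝒞[z] ⊓ 𝒞[a1], c * ρ = ρ * c → c * a2 = a2 * c
  cen : ∀ σ ∈ K, Odd (orderOf σ) → σ ∈ 𝒩(T ⊓ 𝒞[z] ⊓ 𝒞[a1]) →
    ∀ c ∈ T ⊓ 𝒞[z] ⊓ 𝒞[a1], c * ρ = ρ * c → c * σ = σ * c
  nB : ρ ∈ 𝒩(T ⊓ 𝒞[z] ⊓ 𝒞[a1])

structure Fm (O K T C0 : Subgroup G) (t z a1 a2 ρ1 ρ2 : G) : Prop extends HL O K t z a1 a2 where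
  t2 : t * t = 1
  sylT : SylIn 2 T 𝒞[t]
  a1T : a1 ∈ T
  a2T : a2 ∈ T
  sr1 : Sr K T t z a1 a2 ρ1
  sr2 : Sr K T t z a2 a1 ρ2
  C0le : C0 ≤ 𝒞[t]
  C0mul : ∀ x ∈ 𝒞[t], ∀ y ∈ 𝒞[t], x ∉ C0 → y ∉ C0 → x * y ∈ C0
  nE1 : 𝒞[t] ⊓ 𝒩(closure {z, a1}) ≤ C0
  nE2 : 𝒞[t] ⊓ 𝒩(closure {z, a2}) ≤ C0
  inn : ∀ y ∈ T, y ∈ C0 → ∃ d ∈ closure {a1, a2}, y * d * a1 = a1 * (y * d) ∧ y * d * a2 = a2 * (y * d)
  out : ∀ y ∈ T, y ∉ C0 → (y * a1 * y⁻¹ = a2 ∨ y * a1 * y⁻¹ = a2 * z) ∧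
    (y * a2 * y⁻¹ = a1 ∨ y * a2 * y⁻¹ = a1 * z)

theorem exists_fm (h : HL O K t z a1 a2) (t2 : t * t = 1) (hT : SylIn 2 T 𝒞[t]) (h1 : a1 ∈ T) (h2 : a2 ∈ T) :
    ∃ C0 ρ1 ρ2, Fm O K T C0 t z a1 a2 ρ1 ρ2 := by
  obtain ⟨ρ1, a, b, c, d, e, f⟩ := h.rho hT h1 h2
  obtain ⟨ρ2, a', b', c', d', e', f'⟩ := h.symm.rho hT h2 h1
  obtain ⟨C0, k1, k2, k3, k4, k5, k6⟩ := h.c0 hT h1 h2
  exact ⟨C0, ρ1, ρ2, h, t2, hT, h1, h2, ⟨a, b, d, e, f, c⟩, ⟨a', b', d', e', f', c'⟩, k1, k2, k3, k4, k5, k6⟩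

/-- `C_T(D, ρ)` -/
def WW (T : Subgroup G) (a1 a2 ρ : G) : Subgroup G := T ⊓ 𝒞[a1] ⊓ 𝒞[a2] ⊓ 𝒞[ρ]

omit [Finite G] in
theorem mem_WW {w : G} : w ∈ WW T a1 a2 ρ ↔ w ∈ T ∧ w * a1 = a1 * w ∧ w * a2 = a2 * w ∧ w * ρ = ρ * w := by
  simp only [WW, mem_inf, mem_cent1, and_assoc]

omit [Finite G] in
theorem cE {c : G} (h1 : c * z = z * c) (h2 : c * a = a * c) : c ∈ 𝒞(closure {z, a}) :=
  le_cent1_iff.1 ((closure_le _).2 (by rintro _ (rfl | rfl); exacts [mem_cent1.2 h1.symm, mem_cent1.2 h2.symm]))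

theorem le_of_syl {P H M : Subgroup G} (hP : SylIn 2 P H) (hM : P ≤ M)
    (hi : ∀ x ∈ H, ∀ y ∈ H, x ∉ M → y ∉ M → x * y ∈ M) : H ≤ M := fun v hv => by_contra fun c =>
  hP.ndvd (COMP.two_relIndex hi hv c ▸ relIndex_dvd_of_le_left H hM)

omit [Finite G] in
theorem norm_of_mul {H M : Subgroup G} (hM : M ≤ H) (hi : ∀ x ∈ H, ∀ y ∈ H, x ∉ M → y ∉ M → x * y ∈ M) :
    H ≤ 𝒩(M) := le_norm_iff.2 fun g hg x hx => by
  by_cases c : g ∈ M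
  · exact mul_mem (mul_mem c hx) (inv_mem c)
  · exact hi _ (mul_mem hg (hM hx)) _ (inv_mem hg) (by rwa [mul_mem_cancel_right hx]) (by rwa [inv_mem_iff])

omit [Finite G] in
theorem odd_cj (g : G) (h : Odd (orderOf ρ)) : Odd (orderOf (g * ρ * g⁻¹)) := by
  rwa [← MulAut.conj_apply, MulEquiv.orderOf_eq]

namespace Fm

variable (h : Fm O K T C0 t z a1 a2 ρ1 ρ2)
include h

theorem symm : Fm O K T C0 t z a2 a1 ρ2 ρ1 :=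
  ⟨h.toHL.symm, h.t2, h.sylT, h.a2T, h.a1T, h.sr2, h.sr1, h.C0le, h.C0mul, h.nE2, h.nE1, fun y hy c => by
    obtain ⟨d, hd, e⟩ := h.inn y hy c
    exact ⟨d, Set.pair_comm a1 a2 ▸ hd, e.symm⟩, fun y hy c => (h.out y hy c).symm⟩

theorem DT : closure {a1, a2} ≤ T := (h.toHL.TK h.sylT h.a1T h.a2T).ge.trans inf_le_left

omit [Finite G] in
theorem zD : z ∈ closure {a1, a2} :=
  have h1 : a1 * a2 ∈ closure {a1, a2} := mul_mem (subset_closure (by simp)) (subset_closure (by simp))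
  h.toD8.sq ▸ mul_mem h1 h1

theorem tW : t ∈ WW T a1 a2 ρ1 :=
  mem_WW.2 ⟨COMP.SylIn.mem_of_norm h.sylT (self_mem_cent1 t) (Two.of_sq h.t2) (cent_le_norm _ (le_cent1_iff.1 h.sylT.le)),
    (mem_cent1.1 (h.sylT.le h.a1T)).symm, (mem_cent1.1 (h.sylT.le h.a2T)).symm, (mem_cent1.1 (h.KC h.sr1.mK)).symm⟩

omit [Finite G] in
theorem zρ : z * ρ1 ≠ ρ1 * z := fun e => by
  obtain ⟨φ, p⟩ := h.toD8.phi
  have := h.sr1.rho.ρz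
  rw [← e, mul_inv_cancel_right, ← p.ez, ← p.e1] at this
  exact absurd (p.inj this) (by decide)

omit [Finite G] in
theorem WD : WW T a1 a2 ρ1 ≤ 𝒞(closure {a1, a2}) := fun w hw => by
  obtain ⟨φ, p⟩ := h.toD8.phi
  exact p.rg ▸ p.cD.2 ⟨(mem_WW.1 hw).2.1, (mem_WW.1 hw).2.2.1⟩

omit [Finite G] in
theorem wz {w : G} (hw : w ∈ WW T a1 a2 ρ1) : w * z = z * w := (h.WD hw z h.zD).symm

omit [Finite G] in
theorem dis : closure {a1, a2} ⊓ WW T a1 a2 ρ1 = ⊥ := eq_bot_iff.2 fun y hy => by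
  obtain ⟨φ, p⟩ := h.toD8.phi
  rcases DHR.cen_range p.inj (p.rg ▸ hy.1) (p.rg ▸ h.WD hy.2) with e | e
  · exact e
  · exact absurd (mem_WW.1 hy.2).2.2.2 (e ▸ p.ez ▸ h.zρ)

theorem alt {w : G} (h0 : w ∈ T) (h1 : w * a1 = a1 * w) (h2 : w * a2 = a2 * w) :
    w ∈ WW T a1 a2 ρ1 ∨ w * z ∈ WW T a1 a2 ρ1 :=
  (h.sr1.alt w h0 h1 h2).imp (fun e => mem_WW.2 ⟨h0, h1, h2, e⟩) fun e => mem_WW.2 ⟨mul_mem h0 (h.DT h.zD),
    by rw [mul_assoc, h.c1, ← mul_assoc, h1, mul_assoc], by rw [mul_assoc, h.c2, ← mul_assoc, h2, mul_assoc], e⟩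

theorem both {w : G} (h1 : w ∈ WW T a1 a2 ρ1) (h2 : w ∈ WW T a2 a1 ρ2) : w = 1 ∨ w = t :=
  h.toHL.zstar h.t2 h.sylT h.sr1.mK h.sr2.mK h.sr1.rho h.sr2.rho (mem_WW.1 h1).1 (mem_WW.1 h1).2.1
    (mem_WW.1 h1).2.2.1 (mem_WW.1 h1).2.2.2 (mem_WW.1 h2).2.2.2

theorem other {w : G} (h1 : w ∈ WW T a1 a2 ρ1) (h2 : w ∉ WW T a2 a1 ρ2) : w * z ∈ WW T a2 a1 ρ2 :=
  (h.symm.alt (mem_WW.1 h1).1 (mem_WW.1 h1).2.2.1 (mem_WW.1 h1).2.1).resolve_left h2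

theorem cl (h1 : f ∈ WW T a1 a2 ρ1) (h2 : f ∉ WW T a2 a1 ρ2) {w : G} (hw : w ∈ WW T a1 a2 ρ1) :
    w = 1 ∨ w = t ∨ w = f ∨ w = t * f := by
  by_cases c : w ∈ WW T a2 a1 ρ2
  · exact (h.both hw c).imp id Or.inl
  · have := mul_mem (h.other hw c) (inv_mem (h.other h1 h2))
    rw [show w * z * (f * z)⁻¹ = w * f⁻¹ by group] at this
    rcases h.both (mul_mem hw (inv_mem h1)) this with e | e
    · exact Or.inr (Or.inr (Or.inl (mul_inv_eq_one.1 e)))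
    · exact Or.inr (Or.inr (Or.inr (mul_inv_eq_iff_eq_mul.1 e)))

theorem dec {y : G} (hy : y ∈ T ⊓ C0) : ∃ d ∈ closure {a1, a2}, ∃ w ∈ WW T a1 a2 ρ1, y = w * d := by
  obtain ⟨d, hd, e1, e2⟩ := h.inn y hy.1 hy.2
  rcases h.alt (mul_mem hy.1 (h.DT hd)) e1 e2 with e | e
  · exact ⟨_, inv_mem hd, _, e, by group⟩
  · exact ⟨_, inv_mem (mul_mem hd h.zD), _, e, by group⟩

theorem WC : WW T a1 a2 ρ1 ≤ T ⊓ C0 := fun _ hw => ⟨(mem_WW.1 hw).1, h.nE1 ⟨h.sylT.le (mem_WW.1 hw).1,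
  cent_le_norm _ (cE (h.wz hw) (mem_WW.1 hw).2.1)⟩⟩

theorem DC : closure {a1, a2} ≤ T ⊓ C0 := le_inf h.DT ((closure_le _).2 (by
  rintro _ (rfl | rfl)
  exacts [h.nE1 ⟨h.sylT.le h.a1T, cent_le_norm _ (cE h.c1.symm rfl)⟩,
    h.nE2 ⟨h.sylT.le h.a2T, cent_le_norm _ (cE h.c2.symm rfl)⟩]))

theorem cardT0 : Nat.card (T ⊓ C0 : Subgroup G) = 8 * Nat.card (WW T a1 a2 ρ1) := by
  obtain ⟨φ, p⟩ := h.toD8.phi
  rw [← DHR.card_range p.inj, p.rg, ← card_sup_of_disjoint (Or.inr (norm_of_cent h.WD)) h.dis]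
  congr 2
  refine le_antisymm (fun y hy => ?_) (sup_le h.DC h.WC)
  obtain ⟨d, hd, w, hw, rfl⟩ := h.dec hy
  exact mul_mem (mem_sup_right hw) (mem_sup_left hd)

theorem TC0 (h1 : f ∈ WW T a1 a2 ρ1) (cl : ∀ w ∈ WW T a1 a2 ρ1, w = 1 ∨ w = t ∨ w = f ∨ w = t * f) :
    T ⊓ C0 = TT t a1 a2 f := by
  refine le_antisymm (fun y hy => ?_) ((closure_le _).2 ?_)
  · obtain ⟨d, hd, w, hw, rfl⟩ := h.dec hy
    have k1 : t ∈ TT t a1 a2 f := subset_closure (by simp)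
    have k2 : f ∈ TT t a1 a2 f := subset_closure (by simp)
    refine mul_mem ?_ (closure_mono (by rintro _ (rfl | rfl) <;> simp) hd)
    rcases cl w hw with rfl | rfl | rfl | rfl
    exacts [one_mem _, k1, k2, mul_mem k1 k2]
  · rintro _ (rfl | rfl | rfl | rfl)
    exacts [h.DC (subset_closure (by simp)), h.DC (subset_closure (by simp)), h.WC h.tW, h.WC h1]

theorem setW (h1 : f ∈ WW T a1 a2 ρ1) (cl : ∀ w ∈ WW T a1 a2 ρ1, w = 1 ∨ w = t ∨ w = f ∨ w = t * f) :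
    Nat.card (WW T a1 a2 ρ1) = ({1, t, f, t * f} : Set G).ncard := by
  rw [← Nat.card_coe_set_eq]
  refine congrArg (fun s : Set G => Nat.card s) (Set.ext fun w => ⟨cl w, ?_⟩ : (WW T a1 a2 ρ1 : Set G) = _)
  rintro (rfl | rfl | rfl | rfl)
  exacts [one_mem _, h.tW, h1, mul_mem h.tW h1]

theorem card4 (t1 : t ≠ 1) (h1 : f ∈ WW T a1 a2 ρ1) (h2 : f ∉ WW T a2 a1 ρ2) : Nat.card (WW T a1 a2 ρ1) = 4 := by
  have f1 : f ≠ 1 := fun e => h2 (e ▸ one_mem _)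
  have ft : f ≠ t := fun e => h2 (e ▸ h.symm.tW)
  have f3 : 1 ≠ t * f := fun e => ft (mul_left_cancel (e.symm.trans h.t2.symm))
  rw [h.setW h1 fun _ => h.cl h1 h2, Set.ncard_insert_of_notMem (by simp [t1.symm, f1.symm, f3]),
    Set.ncard_insert_of_notMem (by simp [ft.symm, f1]), Set.ncard_pair (by simpa using t1)]

theorem sq (h1 : f ∈ WW T a1 a2 ρ1) (h2 : f ∉ WW T a2 a1 ρ2) : f * f = 1 ∨ f * f = t := by
  refine h.both (mul_mem h1 h1) ?_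
  have := mul_mem (h.other h1 h2) (h.other h1 h2)
  rwa [mul_assoc, ← mul_assoc z, ← h.wz h1, mul_assoc, h.z2, mul_one] at this

omit [Finite G] in
theorem DE {d : G} (hd : d ∈ closure {a1, a2}) (e : d * a1 = a1 * d) : d ∈ closure {z, a1} := by
  obtain ⟨φ, p⟩ := h.toD8.phi
  obtain ⟨x, rfl⟩ := p.rg.ge hd
  rw [← p.e1, ← map_mul, ← map_mul] at e
  exact p.E.le ⟨x, mem_cent1.2 (p.inj e), rfl⟩

omit [Finite G] in
theorem ED : closure {z, a1} ≤ closure {a1, a2} := (closure_le _).2 (by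
  rintro _ (rfl | rfl)
  exacts [h.zD, subset_closure (by simp)])

theorem BC : T ⊓ 𝒞[z] ⊓ 𝒞[a1] ≤ T ⊓ C0 := fun _ hy => ⟨hy.1.1, h.nE1 ⟨h.sylT.le hy.1.1,
  cent_le_norm _ (cE (mem_cent1.1 hy.1.2) (mem_cent1.1 hy.2))⟩⟩

omit [Finite G] in
theorem WB : WW T a1 a2 ρ1 ≤ T ⊓ 𝒞[z] ⊓ 𝒞[a1] := fun _ hw =>
  ⟨⟨(mem_WW.1 hw).1, mem_cent1.2 (h.wz hw)⟩, mem_cent1.2 (mem_WW.1 hw).2.1⟩

theorem EB : closure {z, a1} ≤ T ⊓ 𝒞[z] ⊓ 𝒞[a1] := (closure_le _).2 (by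
  rintro _ (rfl | rfl)
  exacts [⟨⟨h.DT h.zD, self_mem_cent1 _⟩, mem_cent1.2 h.c1⟩, ⟨⟨h.a1T, mem_cent1.2 h.c1.symm⟩, self_mem_cent1 _⟩])

theorem Beq : T ⊓ 𝒞[z] ⊓ 𝒞[a1] = closure {z, a1} ⊔ WW T a1 a2 ρ1 := by
  refine le_antisymm (fun y hy => ?_) (sup_le h.EB h.WB)
  obtain ⟨d, hd, w, hw, rfl⟩ := h.dec (h.BC hy)
  exact mul_mem (mem_sup_right hw) (mem_sup_left
    (h.DE hd (mem_cent1.1 ((mul_mem_cancel_left (mem_inf.1 (h.WB hw)).2).1 hy.2))))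

theorem Tz {y : G} (hy : y ∈ T) : y * z * y⁻¹ = z := by
  obtain ⟨φ, p⟩ := h.toD8.phi
  rw [← p.ez, DHR.z_fix p.inj (p.rg ▸ h.toHL.TD h.sylT h.a1T h.a2T hy), mul_inv_cancel_right]

theorem swap (h1 : f ∈ WW T a1 a2 ρ1) (h2 : f ∉ WW T a2 a1 ρ2) {y : G} (hy : y ∈ T) (y1 : y ∉ C0) :
    Swap t z a1 a2 f y := by
  obtain ⟨o1, o2⟩ := h.out y hy y1
  refine ⟨o1, o2, ?_⟩
  have yz := h.Tz hy
  have yt : y * t * y⁻¹ = t := by rw [mem_cent1.1 (h.sylT.le hy), mul_inv_cancel_right]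
  have nz : y ∈ 𝒩(𝒞[z]) := mem_norm_iff_cj.2 (by rw [cj_cent1, yz])
  have eB : cj y (T ⊓ 𝒞[z] ⊓ 𝒞[a1]) = T ⊓ 𝒞[z] ⊓ 𝒞[a2] := by
    rw [cj_inf, cj_inf, cj_eq_of_mem hy, cj_eq_of_mem_norm nz, cj_cent1]
    rcases o1 with e | e <;> rw [e]
    ext x
    simp only [mem_inf, and_congr_right_iff, mem_cent1, and_imp]
    intro _ e
    rw [← mul_assoc, mul_assoc a2, ← e, ← mul_assoc, mul_left_inj]
  have cs := h.sr2.cen (y * ρ1 * y⁻¹) (conj_mem_of_norm h.nK (h.sylT.le hy) h.sr1.mK)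
    (odd_cj y h.sr1.rho.odd) (by rw [← eB, ← cj_normalizer, conj_mem_cj]; exact h.sr1.nB)
  have gD := conj_mem_of_norm (norm_cent (h.toHL.TD h.sylT h.a1T h.a2T)) hy (h.WD h1)
  have g2 : y * f * y⁻¹ ∈ WW T a2 a1 ρ2 := by
    refine (h.symm.alt (conj_mem_of_norm le_normalizer hy (mem_WW.1 h1).1) (gD _ (subset_closure (by simp))).symm
      (gD _ (subset_closure (by simp))).symm).resolve_right fun c => h.zρ ?_
    have := cs _ (h.symm.WB c) (mem_WW.1 c).2.2.2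
    rw [← yz, conj_mul, conj_mul, conj_mul, mul_left_inj, mul_right_inj, mul_assoc, ← mul_assoc ρ1,
      ← (mem_WW.1 h1).2.2.2, mul_assoc, mul_right_inj] at this
    exact this
  have f2 := h.other h1 h2
  have f3 : f * z ∉ WW T a1 a2 ρ1 := fun c => h.zρ (mem_WW.1 ((mul_mem_cancel_left h1).1 c)).2.2.2
  rcases h.symm.cl f2 f3 g2 with e | e | e | e
  · exact absurd (show f = 1 by simpa using e) fun e => h2 (e ▸ one_mem _)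
  · rw [← yt, mul_left_inj, mul_right_inj] at e
    exact absurd (e ▸ h.symm.tW) h2
  · exact Or.inl e
  · exact Or.inr (e.trans (mem_cent1.1 (h.sylT.le (mem_WW.1 f2).1)).symm)

theorem sd (t1 : t ≠ 1) (h1 : f ∈ WW T a1 a2 ρ1) (h2 : f ∉ WW T a2 a1 ρ2) (f2 : f * f = 1) :
    Sd t z a1 f ρ1 ∧ 𝒞[t] ⊓ 𝒩(AA t z a1 f) ≤ C0 := by
  have cl := fun w => h.cl h1 h2 (w := w)
  have ft := mem_cent1.1 (h.sylT.le (mem_WW.1 h1).1)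
  have WWc : WW T a1 a2 ρ1 ≤ 𝒞(WW T a1 a2 ρ1) := fun x hx y hy => by
    rcases cl x hx with rfl | rfl | rfl | rfl <;> rcases cl y hy with rfl | rfl | rfl | rfl <;>
      simp only [mul_one, one_mul, mul_assoc, ft] <;> simp only [← mul_assoc, ft]
  have eA : AA t z a1 f = T ⊓ 𝒞[z] ⊓ 𝒞[a1] := by
    refine le_antisymm ((closure_le _).2 ?_) ?_
    · rintro _ (rfl | rfl | rfl | rfl)
      exacts [h.EB (subset_closure (by simp)), h.EB (subset_closure (by simp)), h.WB h.tW, h.WB h1]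
    · have k1 : t ∈ AA t z a1 f := subset_closure (by simp)
      have k2 : f ∈ AA t z a1 f := subset_closure (by simp)
      refine h.Beq.le.trans (sup_le (closure_mono (by rintro _ (rfl | rfl) <;> simp)) fun w hw => ?_)
      rcases cl w hw with rfl | rfl | rfl | rfl
      exacts [one_mem _, k1, k2, mul_mem k1 k2]
  have BE : T ⊓ 𝒞[z] ⊓ 𝒞[a1] ≤ 𝒞(closure {z, a1}) := fun y hy => cE (mem_cent1.1 hy.1.2) (mem_cent1.1 hy.2)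
  have BK : T ⊓ 𝒞[z] ⊓ 𝒞[a1] ⊓ K = closure {z, a1} := le_antisymm (fun y hy => h.DE
    ((h.toHL.TK h.sylT h.a1T h.a2T).le ⟨hy.1.1.1, hy.2⟩) (mem_cent1.1 hy.1.2)) (le_inf h.EB (h.ED.trans h.sylD.le))
  have nE : 𝒞[t] ⊓ 𝒩(T ⊓ 𝒞[z] ⊓ 𝒞[a1]) ≤ 𝒩(closure {z, a1}) :=
    BK ▸ norm_inf inf_le_right (inf_le_left.trans h.nK)
  have nC : 𝒞[t] ⊓ 𝒩(T ⊓ 𝒞[z] ⊓ 𝒞[a1]) ≤ C0 := (le_inf inf_le_left nE).trans h.nE1
  have s0 : SylIn 2 (T ⊓ C0) C0 := h.sylT.inf_normal h.C0le (norm_of_mul h.C0le h.C0mul)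
  have TE : T ⊓ C0 ≤ 𝒩(closure {z, a1}) := fun y hy => by
    obtain ⟨φ, p⟩ := h.toD8.phi
    obtain ⟨d, hd, w, hw, rfl⟩ := h.dec hy
    exact mul_mem (cent_le_norm _ (BE (h.WB hw))) (p.E ▸ DHR.D_norm_E (p.rg.ge hd))
  have Tf : T ⊓ C0 ≤ 𝒞(WW T a1 a2 ρ1) := fun y hy => by
    obtain ⟨d, hd, w, hw, rfl⟩ := h.dec hy
    exact mul_mem (WWc hw) (cent_symm h.WD hd)
  have TB : T ⊓ C0 ≤ 𝒩(T ⊓ 𝒞[z] ⊓ 𝒞[a1]) := h.Beq ▸ norm_sup TE (norm_of_cent Tf)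
  have nW : ∀ n ∈ 𝒞[t] ⊓ 𝒩(T ⊓ 𝒞[z] ⊓ 𝒞[a1]), n * f * n⁻¹ = f ∨ n * f * n⁻¹ = t * f := fun n hn => by
    have k := h.sr1.cen (n⁻¹ * ρ1 * n) (conj_mem_of_norm' h.nK hn.1 h.sr1.mK)
      (by simpa using odd_cj n⁻¹ h.sr1.rho.odd)
      (conj_mem_of_norm' (norm_norm le_rfl) hn.2 h.sr1.nB) f (h.WB h1) (mem_WW.1 h1).2.2.2
    have k1 : n * f * n⁻¹ * ρ1 = ρ1 * (n * f * n⁻¹) := by
      calc _ = n * (f * (n⁻¹ * ρ1 * n)) * n⁻¹ := by group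
        _ = _ := by rw [k]; group
    have k2 := conj_mem_of_norm le_rfl hn.2 (h.WB h1)
    rcases cl _ (mem_WW.2 ⟨k2.1.1, mem_cent1.1 k2.2, h.sr1.ca _ k2 k1, k1⟩) with e | e | e | e
    · exact absurd (show f = 1 by simpa using e) fun e => h2 (e ▸ one_mem _)
    · rw [mul_inv_eq_iff_eq_mul, ← mem_cent1.1 hn.1, mul_right_inj] at e
      exact absurd (e ▸ h.symm.tW) h2
    · exact Or.inl e
    · exact Or.inr e
  have fx : 𝒞[t] ⊓ 𝒩(T ⊓ 𝒞[z] ⊓ 𝒞[a1]) ≤ 𝒞[f] := le_of_syl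
    (s0.of_le (le_inf (inf_le_left.trans h.sylT.le) TB) nC) (Tf.trans (cent_le_cent1 h1)) fun x hx y hy x1 y1 => by
      have e1 := (nW x hx).resolve_left fun e => x1 (mem_cent1.2 (mul_inv_eq_iff_eq_mul.1 e))
      have e2 := (nW y hy).resolve_left fun e => y1 (mem_cent1.2 (mul_inv_eq_iff_eq_mul.1 e))
      rw [mem_cent1, ← mul_inv_eq_iff_eq_mul]
      calc _ = x * (y * f * y⁻¹) * x⁻¹ := by group
        _ = _ := by rw [e2, ← conj_mul, e1, mem_cent1.1 hx.1, mul_inv_cancel_right, ← mul_assoc, h.t2, one_mul]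
  rw [← eA] at nC fx nE
  refine ⟨⟨{ h.sr1.rho with ρf := by rw [← (mem_WW.1 h1).2.2.2, mul_inv_cancel_right] }, ?_,
    fun n hn n1 => ⟨by rw [mem_cent1.1 (fx ⟨hn, n1⟩), mul_inv_cancel_right], nE ⟨hn, n1⟩⟩, ?_⟩, nC⟩
  · obtain ⟨φ, p⟩ := h.toD8.phi
    rw [eA, h.Beq, card_sup_of_disjoint (Or.inr (norm_of_cent (h.WB.trans BE)))
      (eq_bot_iff.2 ((inf_le_inf_right _ h.ED).trans h.dis.le)), h.card4 t1 h1 h2, Set.insert_eq, Subgroup.closure_union,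
      ← zpowers_eq_closure, ← zpowers_eq_closure, DHR.card_sup_zp h.s1
        (cent_le_norm _ (by rw [cent_zpowers]; exact mem_cent1.2 h.c1.symm)) fun c => ?_, H36.Fx.card_zp h.z2 h.z1]
    rw [← p.e1, ← p.ez] at c
    rcases H36.Fx.mem_zp DHR.z_sq c with e | e
    · exact absurd (p.inj (e.trans φ.map_one.symm)) (by decide)
    · exact absurd (p.inj e) (by decide)
  · have s1 := (s0.of_le (le_inf (inf_le_left.trans h.sylT.le) TE) h.nE1).inf_normal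
      (inf_le_inf_left _ (cent_le_norm _)) (norm_inf (norm_of_le inf_le_left) (norm_cent inf_le_right))
    rw [show T ⊓ C0 ⊓ (𝒞[t] ⊓ 𝒞(closure {z, a1})) = T ⊓ 𝒞[z] ⊓ 𝒞[a1] from le_antisymm
      (fun y hy => ⟨⟨hy.1.1, cent_le_cent1 (subset_closure (by simp)) hy.2.2⟩,
        cent_le_cent1 (subset_closure (by simp)) hy.2.2⟩)
      (le_inf h.BC (le_inf (inf_le_left.trans (inf_le_left.trans h.sylT.le)) BE))] at s1
    rw [eA]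
    refine s1.of_le ?_ (le_inf (cent_le_cent1 (h.WB h.tW)) (cent_anti h.EB))
    nth_rewrite 2 [h.Beq]
    rw [cent_sup]
    exact le_inf BE (h.BC.trans Tf)

end Fm

end Bs

open Bs

theorem base (h : B0 F O K T t z a1 a2) :
    (∃ C0, CA1 F O K T C0 t z a1 a2) ∨ (∃ C0 f, CW F O K T C0 t z a1 a2 f ∧ f * f = t) ∨
      ∃ C0 f, CB F O K T C0 t z a1 a2 f := by
  obtain ⟨C0, ρ1, ρ2, m⟩ := exists_fm h.toHL h.t2 h.sylT h.a1T h.a2T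
  by_cases c : WW T a1 a2 ρ1 ≤ WW T a2 a1 ρ2
  · have cl : ∀ w ∈ WW T a1 a2 ρ1, w = 1 ∨ w = t ∨ w = 1 ∨ w = t * 1 := fun w hw => (m.both hw (c hw)).imp id Or.inl
    have e := m.TC0 (one_mem _) cl
    refine Or.inl ⟨C0, h, ?_, fun y hy => ?_, m.C0le, m.C0mul, e, m.nE1, m.nE2, ⟨_, m.sr1.mK, m.sr1.rho⟩,
      ⟨_, m.sr2.mK, m.sr2.rho⟩⟩
    · rw [← e, m.cardT0, m.setW (one_mem _) cl, show ({1, t, 1, t * 1} : Set G) = {1, t} by ext; simp,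
        Set.ncard_pair h.t1.symm]
    · exact (em (y ∈ C0)).imp (fun k => e.le ⟨hy, k⟩) (m.out y hy)
  obtain ⟨f, h1, h2⟩ := SetLike.not_le_iff_exists.1 c
  have e := m.TC0 h1 fun _ => m.cl h1 h2
  have w : CW F O K T C0 t z a1 a2 f := ⟨h, (mem_WW.1 h1).1, (mem_WW.1 h1).2.1, (mem_WW.1 h1).2.2.1,
    by rw [← e, m.cardT0, m.card4 h.t1 h1 h2], fun y hy => (em (y ∈ C0)).imp (fun k => e.le ⟨hy, k⟩) (m.swap h1 h2 hy),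
    m.C0le, m.C0mul, e⟩
  rcases m.sq h1 h2 with f2 | f2
  · have s1 := m.sd h.t1 h1 h2 f2
    have s2 := m.symm.sd h.t1 (m.other h1 h2) (fun c => m.zρ (mem_WW.1 ((mul_mem_cancel_left h1).1 c)).2.2.2)
      (by rw [mul_assoc, ← mul_assoc z, ← m.wz h1, mul_assoc, h.z2, mul_one, f2])
    exact Or.inr (Or.inr ⟨C0, f, w, f2, ⟨_, s1.1⟩, ⟨_, s2.1⟩, s1.2, s2.2⟩)
  · exact Or.inr (Or.inl ⟨C0, f, w, f2⟩)

theorem HL.card_le (h : HL O K t z a1 a2) (t2 : t * t = 1) (hT : SylIn 2 T 𝒞[t]) :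
    Nat.card T ≤ 64 := by
  obtain ⟨T', hT', k⟩ := H42.exists_sylIn h.sylD.isP (h.sylD.le.trans h.KC)
  obtain ⟨C0, ρ1, ρ2, m⟩ := exists_fm h t2 hT' (k (subset_closure (by simp))) (k (subset_closure (by simp)))
  have n4 : ∀ f : G, ({1, t, f, t * f} : Set G).ncard ≤ 4 := fun f =>
    (Set.ncard_insert_le _ _).trans (Nat.succ_le_succ ((Set.ncard_insert_le _ _).trans
      (Nat.succ_le_succ ((Set.ncard_insert_le _ _).trans (by simp)))))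
  have c4 : Nat.card (WW T' a1 a2 ρ1) ≤ 4 := by
    by_cases c : WW T' a1 a2 ρ1 ≤ WW T' a2 a1 ρ2
    · exact m.setW (one_mem _) (fun w hw => (m.both hw (c hw)).imp id Or.inl) ▸ n4 1
    · obtain ⟨f, h1, h2⟩ := SetLike.not_le_iff_exists.1 c
      exact m.setW h1 (fun _ => m.cl h1 h2) ▸ n4 f
  have c0 := m.cardT0
  have c1 := card_mul_relIndex (inf_le_left : T' ⊓ C0 ≤ T')
  rw [hT.card_eq hT']
  by_cases c : T' ≤ C0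
  · rw [inf_eq_left.2 c] at c0; omega
  · obtain ⟨v, h1, h2⟩ := SetLike.not_le_iff_exists.1 c
    rw [inf_relIndex_left, COMP.two_relIndex (fun x hx y hy => m.C0mul x (hT'.le hx) y (hT'.le hy)) h1 h2] at c1
    omega

end Cfsg.Agent.DIH.V7
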