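/-
Project DIH: the Frattini set-up in `N(A₁)`.
-/
import Cfsg.Agent.DA7.Defs
import Cfsg.Agent.DA7.BasB

set_option autoImplicit false

namespace Cfsg.Agent.DIH.V7

open Subgroup H49
open H42 (SylIn)

namespace LQ

section Pure
variable {X : Type*} [Group X]

theorem pw_mul {x : X} (h : x * x = 1) (i j : Bool) : pw i x * pw j x = pw (i ^^ j) x := by
  cases i <;> cases j <;> simp [pw, h]

theorem pw_comm {x y : X} (h : Commute x y) (i j : Bool) : Commute (pw i x) (pw j y) := by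
  cases i <;> cases j <;> simp [pw, h]

theorem pw_comm' {x y : X} (h : Commute x y) (j : Bool) : Commute x (pw j y) := pw_comm h true j

/-- four commuting involutions -/
structure EA (z a t f : X) : Prop where
  z2 : z * z = 1
  a2 : a * a = 1
  t2 : t * t = 1
  f2 : f * f = 1
  az : Commute a z
  at' : Commute a t
  af : Commute a f
  zt : Commute z t
  zf : Commute z f
  tf : Commute t f

variable {z a t f : X}

theorem EA.mul (h : EA z a t f) (i k l m i' k' l' m' : Bool) :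
    pw i a * pw k z * pw l t * pw m f * (pw i' a * pw k' z * pw l' t * pw m' f) =
      pw (i ^^ i') a * pw (k ^^ k') z * pw (l ^^ l') t * pw (m ^^ m') f := by
  rw [(((pw_comm h.af.symm m i').mul_right (pw_comm h.zf.symm m k')).mul_right
      (pw_comm h.tf.symm m l')).mul_mul_mul_comm,
    ((pw_comm h.at'.symm l i').mul_right (pw_comm h.zt.symm l k')).mul_mul_mul_comm,
    (pw_comm h.az.symm k i').mul_mul_mul_comm, pw_mul h.a2, pw_mul h.z2, pw_mul h.t2, pw_mul h.f2]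

theorem EA.nf (h : EA z a t f) {y : X} (hy : y ∈ closure {z, a, t, f}) :
    ∃ i k l m, y = pw i a * pw k z * pw l t * pw m f := by
  induction hy using closure_induction with
  | mem x hx =>
    rcases hx with rfl | rfl | rfl | rfl
    · exact ⟨false, true, false, false, by simp [pw]⟩
    · exact ⟨true, false, false, false, by simp [pw]⟩
    · exact ⟨false, false, true, false, by simp [pw]⟩
    · exact ⟨false, false, false, true, by simp [pw]⟩
  | one => exact ⟨false, false, false, false, by simp [pw]⟩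
  | mul x y _ _ hx hy =>
    obtain ⟨i, k, l, m, rfl⟩ := hx
    obtain ⟨i', k', l', m', rfl⟩ := hy
    exact ⟨_, _, _, _, h.mul ..⟩
  | inv x _ hx =>
    obtain ⟨i, k, l, m, rfl⟩ := hx
    exact ⟨i, k, l, m, inv_eq_of_mul_eq_one_right (by rw [h.mul]; simp [pw])⟩

theorem EA.sq (h : EA z a t f) {y : X} (hy : y ∈ closure {z, a, t, f}) : y * y = 1 := by
  obtain ⟨i, k, l, m, rfl⟩ := h.nf hy
  rw [h.mul]; simp [pw]

theorem EA.comm (h : EA z a t f) {x y : X} (hx : x ∈ closure {z, a, t, f}) (hy : y ∈ closure {z, a, t, f}) :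
    x * y = y * x := by
  obtain ⟨i, k, l, m, rfl⟩ := h.nf hx
  obtain ⟨i', k', l', m', rfl⟩ := h.nf hy
  rw [h.mul, h.mul, Bool.xor_comm i, Bool.xor_comm k, Bool.xor_comm l, Bool.xor_comm m]

theorem EA.t1 (h : EA z a t f) : EA z a 1 f :=
  ⟨h.z2, h.a2, mul_one _, h.f2, h.az, .one_right _, h.af, .one_right _, h.zf, .one_left _⟩

theorem EA.f1 (h : EA z a t f) : EA z a t 1 :=
  ⟨h.z2, h.a2, h.t2, mul_one _, h.az, h.at', .one_right _, h.zt, .one_right _, .one_right _⟩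

theorem pw_one (i : Bool) : pw i (1 : X) = 1 := by cases i <;> rfl

theorem EA.nfH (h : EA z a t f) {y : X} (hy : y ∈ closure {z, a, f}) : ∃ i k m, y = pw i a * pw k z * pw m f := by
  obtain ⟨i, k, l, m, e⟩ := h.t1.nf (closure_mono (by intro x; simp; tauto) hy)
  exact ⟨i, k, m, by rw [e, pw_one, mul_one]⟩

theorem EA.nfE (h : EA z a t f) {y : X} (hy : y ∈ closure {z, a}) : ∃ i k, y = pw i a * pw k z := by
  obtain ⟨i, k, m, e⟩ := h.f1.nfH (closure_mono (by intro x; simp; tauto) hy)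
  exact ⟨i, k, by rw [e, pw_one, mul_one]⟩

theorem pure (h : EA z a t f) {r s : X} (s2 : s * s = 1) (sz : s * z * s = z) (sa : s * a * s = a * z)
    (rt : r * t * r⁻¹ = t) (rf : r * f * r⁻¹ = f) (rz : r * z * r⁻¹ = a) (ra : r * a * r⁻¹ = a * z)
    (r3 : r ^ 3 = 1) {i k l m : Bool} (e : s * r * s * r = pw i a * pw k z * pw l t * pw m f) :
    s * r * s * r = 1 ∨ s * (a * r * a) * s * (a * r * a) = 1 := by
  have hz : z * a = a * z := h.az.symm.eq
  have aza : a * z * a = z := by rw [mul_assoc, hz, ← mul_assoc, h.a2, one_mul]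
  have azz : a * z * z = a := by rw [mul_assoc, h.z2, mul_one]
  have aaz : a * (a * z) = z := by rw [← mul_assoc, h.a2, one_mul]
  have raz : r * (a * z) * r⁻¹ = z := by
    calc _ = (r * a * r⁻¹) * (r * z * r⁻¹) := by group
      _ = z := by rw [ra, rz, aza]
  have si : s⁻¹ = s := inv_eq_of_mul_eq_one_right s2
  set w := pw l t * pw m f with hw
  set u := pw i a * pw k z with hu
  have w2 : w * w = 1 := by
    rw [hw, (pw_comm h.tf.symm m l).mul_mul_mul_comm, pw_mul h.t2, pw_mul h.f2]; simp [pw]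
  have wr : Commute w r := (pw_comm' (show Commute r t from mul_inv_eq_iff_eq_mul.1 rt) l).symm.mul_left
    (pw_comm' (show Commute r f from mul_inv_eq_iff_eq_mul.1 rf) m).symm
  have wu : Commute w u := ((pw_comm h.at'.symm l i).mul_right (pw_comm h.zt.symm l k)).mul_left
    ((pw_comm h.af.symm m i).mul_right (pw_comm h.zf.symm m k))
  have e1 : s * r * s = w * (u * r⁻¹) := by
    rw [← mul_assoc, wu.eq, eq_mul_inv_iff_mul_eq, e, hw, mul_assoc]
  have n3 : (u * r⁻¹) ^ 3 = 1 := by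
    have e3 : (u * r⁻¹) ^ 3 = (r ^ 3)⁻¹ * ((r ^ 3 * u * (r ^ 3)⁻¹) * (r * (r * u * r⁻¹) * r⁻¹) * (r * u * r⁻¹)) := by
      simp only [pow_succ, pow_zero]; group
    rw [e3, r3, hu]
    cases i <;> cases k <;> simp only [pw, cond_true, cond_false, mul_one, one_mul, inv_one, mul_inv_cancel]
    · rw [rz, ra, ← mul_assoc, hz, azz, h.a2]
    · rw [ra, raz, mul_assoc, ← mul_assoc z, hz, azz, h.a2]
    · rw [raz, rz, aza, h.z2]
  have w1 : w = 1 := by
    have e3 : (s * r * s) ^ 3 = 1 := by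
      have := conj_pow (a := s) (b := r) (i := 3)
      rw [si] at this
      rw [this, r3, mul_one, s2]
    rw [e1, (wu.mul_right wr.inv_right).mul_pow, n3, mul_one, pow_succ, pow_two, w2, one_mul] at e3
    exact e3
  rw [w1, one_mul] at e1
  have e2 : s * r * s * r = u := by rw [e1]; group
  have u2 : u⁻¹ = u := inv_eq_of_mul_eq_one_right (by
    rw [hu, (pw_comm h.az.symm k i).mul_mul_mul_comm, pw_mul h.a2, pw_mul h.z2]; simp [pw])
  have e4 : s * u * s * (r * u * r⁻¹) = 1 := by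
    calc _ = s * u * s * (r * u⁻¹ * r⁻¹) := by rw [u2]
      _ = s * s := by rw [← e2]; group
      _ = 1 := s2
  rw [hu] at e1 e2 e4
  cases i <;> cases k <;> simp only [pw, cond_true, cond_false, mul_one, one_mul] at e1 e2 e4
  · exact Or.inl e2
  · rw [sz, rz, hz] at e4
    rw [e4, mul_inv_eq_one, mul_eq_left] at ra
    rw [ra, one_mul] at e4
    exact Or.inl (e2.trans e4)
  · right
    calc _ = (s * a * s) * (s * r * s) * (s * a * s) * a * r * a := by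
          calc _ = s * a * (s * s) * r * (s * s) * a * s * a * r * a := by rw [s2]; group
            _ = _ := by group
      _ = (a * z * a) * (r⁻¹ * (a * z * a) * r) * a := by rw [sa, e1]; group
      _ = 1 := by
        rw [aza, show r⁻¹ * z * r = a * z by rw [mul_assoc, inv_mul_eq_iff_eq_mul, ← mul_inv_eq_iff_eq_mul.1 raz],
          ← mul_assoc, hz, azz, h.a2]
  · have : s * (a * z) * s = a := by
      calc _ = s * a * (s * s) * z * s := by rw [s2]; group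
        _ = (s * a * s) * (s * z * s) := by group
        _ = a := by rw [sa, sz, azz]
    rw [this, raz] at e4
    exact Or.inl (e2.trans e4)

theorem perm1 : ∀ w : Equiv.Perm (Fin 3), w 0 = 0 → w 1 = 1 → w = 1 := by decide

theorem perm2 (w s : Equiv.Perm (Fin 3)) (h0 : s 0 = 0) (h1 : s 1 = 2) (h2 : w ^ 2 = 1) (h3 : (w * s) ^ 2 = 1) :
    w = 1 ∨ w * s = 1 := by
  have e1 : ∀ s : Equiv.Perm (Fin 3), s 0 = 0 → s 1 = 2 → s = Equiv.swap 1 2 := by decide
  have e2 : ∀ w : Equiv.Perm (Fin 3), w ^ 2 = 1 → (w * Equiv.swap 1 2) ^ 2 = 1 → w = 1 ∨ w * Equiv.swap 1 2 = 1 := by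
    decide
  obtain rfl := e1 s h0 h1
  exact e2 w h2 h3

theorem perm3 {w : Equiv.Perm (Fin 3)} {k : ℕ} (h : w ^ 2 ^ k = 1) : w ^ 2 = 1 := by
  have : ∀ w : Equiv.Perm (Fin 3), w ^ 2 = 1 ∨ w ^ 3 = 1 := by decide
  rcases this w with e | e
  · exact e
  · have := pow_gcd_eq_one.2 ⟨h, e⟩
    rw [Nat.Coprime.pow_left k (by norm_num), pow_one] at this
    rw [this, one_pow]

/-- the three cosets -/
def Cl (z a f : X) (i : Fin 3) (x : X) : Prop :=
  ∃ m, x = pw (![false, true, true] i) a * pw (![true, false, true] i) z * pw m f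

theorem cl0 {x : X} : Cl z a f 0 x ↔ x = z ∨ x = z * f := by
  simp [Cl, pw]

theorem cl1 {x : X} : Cl z a f 1 x ↔ x = a ∨ x = a * f := by
  simp [Cl, pw]

theorem cl2 {x : X} : Cl z a f 2 x ↔ x = a * z ∨ x = a * z * f := by
  simp [Cl, pw]

theorem exists_sigma (h : EA z a t f) {N : Subgroup X} (hf : ∀ n ∈ N, n * f * n⁻¹ = f)
    (hH : N ≤ 𝒩(HH z a f))
    (inj : ∀ i k m i' k' m', pw i a * pw k z * pw m f = pw i' a * pw k' z * pw m' f → i = i' ∧ k = k' ∧ m = m') :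
    ∃ σ : N →* Equiv.Perm (Fin 3), ∀ (n : N) (i j : Fin 3) (x : X), Cl z a f i x →
      (σ n i = j ↔ Cl z a f j (n * x * (n : X)⁻¹)) := by
  have uq : ∀ i j x, Cl z a f i x → Cl z a f j x → i = j := by
    rintro i j x ⟨m, rfl⟩ ⟨m', e⟩
    obtain ⟨e1, e2, -⟩ := inj _ _ _ _ _ _ e
    clear e
    revert i j
    decide
  have cf : ∀ n ∈ N, ∀ m, n * pw m f * n⁻¹ = pw m f := fun n hn m => by
    cases m
    · simp [pw]
    · exact hf n hn
  have mulf : ∀ i x m, Cl z a f i x → Cl z a f i (x * pw m f) := by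
    rintro i x m ⟨m', rfl⟩
    exact ⟨m' ^^ m, by rw [mul_assoc, pw_mul h.f2]⟩
  let v : Fin 3 → X := fun i => pw (![false, true, true] i) a * pw (![true, false, true] i) z
  have vc : ∀ i, Cl z a f i (v i) := fun i => ⟨false, (mul_one _).symm⟩
  have ex : ∀ (n : N) i, ∃ j, ∀ x, Cl z a f i x → Cl z a f j (n * x * (n : X)⁻¹) := by
    intro n i
    have hv : v i ∈ HH z a f := by
      have hz : z ∈ HH z a f := subset_closure (by simp)
      have ha : a ∈ HH z a f := subset_closure (by simp)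
      fin_cases i <;> simp [v, pw, hz, ha, mul_mem]
    obtain ⟨i', k', m', e⟩ := h.nfH (conj_mem_of_norm hH n.2 hv)
    obtain ⟨j, hj⟩ : ∃ j, Cl z a f j (n * v i * (n : X)⁻¹) := by
      cases i' <;> cases k'
      · exfalso
        have e1 : v i = pw m' f := by
          have := cf _ (N.inv_mem n.2) m'
          simp only [pw, cond_false, one_mul] at e this ⊢
          rw [← this, ← e]; group
        obtain ⟨e2, e3, -⟩ := inj _ _ false false false m' ((mul_one _).trans (e1.trans (by simp [pw])))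
        clear e1 e hv
        revert i
        decide
      · exact ⟨0, m', e⟩
      · exact ⟨1, m', e⟩
      · exact ⟨2, m', e⟩
    refine ⟨j, ?_⟩
    rintro x ⟨m, rfl⟩
    have := mulf _ _ m hj
    rw [← cf n n.2 m] at this
    convert this using 1
    simp only [v]; group
  choose s hs using ex
  let σ0 : N →* Function.End (Fin 3) :=
    { toFun := s
      map_one' := funext fun i => uq _ _ _ (hs 1 i _ (vc i)) (show Cl z a f i _ by simpa using vc i)
      map_mul' := fun n m => funext fun i => uq _ _ _ (hs (n * m) i _ (vc i)) (by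
        have := hs n _ _ (hs m i _ (vc i))
        rw [show (n : X) * (m * v i * (m : X)⁻¹) * (n : X)⁻¹ = (n * m : N) * v i * ((n * m : N) : X)⁻¹ by
          simp only [coe_mul]; group] at this
        exact this) }
  refine ⟨σ0.toHomPerm, fun n i j x hx => ⟨?_, fun e => uq _ _ _ (hs n i x hx) e⟩⟩
  rintro rfl
  exact hs n i x hx

end Pure

end LQ

variable {G : Type*} [Group G] [Finite G] {F O K T C0 P P1 P2 S : Subgroup G}
  {t z a a' a1 a2 f : G}

namespace LQ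

omit [Finite G] in
theorem mem_cA {g : G} : g ∈ 𝒞(AA t z a f) ↔ z * g = g * z ∧ a * g = g * a ∧ t * g = g * t ∧ f * g = g * f := by
  rw [AA, centralizer_closure, mem_centralizer_iff]
  simp

omit [Finite G] in
theorem mem_cA' {g : G} :
    g ∈ 𝒞(AA t z a f) ↔ g * z * g⁻¹ = z ∧ g * a * g⁻¹ = a ∧ g * t * g⁻¹ = t ∧ g * f * g⁻¹ = f := by
  simp only [mem_cA, mul_inv_eq_iff_eq_mul]
  exact and_congr eq_comm (and_congr eq_comm (and_congr eq_comm eq_comm))

/-- the action of `ρ` on `A` -/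
def Ra (t z a f ρ : G) : Prop :=
  ρ * t * ρ⁻¹ = t ∧ ρ * f * ρ⁻¹ = f ∧ ρ * z * ρ⁻¹ = a ∧ ρ * a * ρ⁻¹ = a * z

omit [Finite G] in
theorem Ra.mul {ρ c : G} (r : Ra t z a f ρ) (hc : c ∈ 𝒞(AA t z a f)) : Ra t z a f (ρ * c) := by
  obtain ⟨c1, c2, c3, c4⟩ := mem_cA'.1 hc
  have : ∀ x, ρ * c * x * (ρ * c)⁻¹ = ρ * (c * x * c⁻¹) * ρ⁻¹ := fun x => by group
  simp only [Ra, this, c1, c2, c3, c4]
  exact r

omit [Finite G] in
theorem Ra.mul' {ρ c : G} (r : Ra t z a f ρ) (hc : c ∈ 𝒞(AA t z a f)) : Ra t z a f (c * ρ) := by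
  obtain ⟨c1, c2, c3, c4⟩ := mem_cA'.1 hc
  have : ∀ x, c * ρ * x * (c * ρ)⁻¹ = c * (ρ * x * ρ⁻¹) * c⁻¹ := fun x => by group
  obtain ⟨r1, r2, r3, r4⟩ := r
  simp only [Ra, this, r1, r2, r3, r4, c2, c3, c4, true_and]
  calc _ = (c * a * c⁻¹) * (c * z * c⁻¹) := by group
    _ = _ := by rw [c1, c2]

omit [Finite G] in
theorem Ra.az {ρ : G} (r : Ra t z a f ρ) (h : EA z a t f) : ρ * (a * z) * ρ⁻¹ = z := by
  calc _ = (ρ * a * ρ⁻¹) * (ρ * z * ρ⁻¹) := by group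
    _ = z := by rw [r.2.2.2, r.2.2.1, mul_assoc, ← h.az.eq, ← mul_assoc, h.a2, one_mul]

omit [Finite G] in
theorem Ra.cube {ρ : G} (r : Ra t z a f ρ) (h : EA z a t f) : ρ ^ 3 ∈ 𝒞(AA t z a f) := by
  have : ∀ x, ρ ^ 3 * x * (ρ ^ 3)⁻¹ = ρ * (ρ * (ρ * x * ρ⁻¹) * ρ⁻¹) * ρ⁻¹ := fun x => by
    simp only [pow_succ, pow_zero]; group
  have e := r.az h
  obtain ⟨r1, r2, r3, r4⟩ := r
  simp only [mem_cA', this, r1, r2, r3, r4, e, and_self]

theorem Ra.norm {ρ : G} (r : Ra t z a f ρ) : ρ ∈ 𝒩(AA t z a f) := by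
  have hz : z ∈ AA t z a f := subset_closure (by simp)
  have ha : a ∈ AA t z a f := subset_closure (by simp)
  refine mem_norm_of_cj_le (cj_le_iff.2 ((closure_le _).2 ?_))
  obtain ⟨r1, r2, r3, r4⟩ := r
  rintro x (rfl | rfl | rfl | rfl) <;> simp only [SetLike.mem_coe, mem_cj, inv_inv]
  · rw [r3]; exact ha
  · rw [r4]; exact mul_mem ha hz
  · rw [r1]; exact subset_closure (by simp)
  · rw [r2]; exact subset_closure (by simp)

theorem ea (h : CB F O K T C0 t z a1 a2 f) : EA z a1 t f := by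
  have e : z = (a1 * a2)⁻¹ * (a2 * a1) := by rw [h.r]; group
  have zT : z ∈ T := e ▸ mul_mem (inv_mem (mul_mem h.a1T h.a2T)) (mul_mem h.a2T h.a1T)
  have c1 : Commute f a1 := h.fa1
  have c2 : Commute f a2 := h.fa2
  exact ⟨h.z2, h.s1, h.t2, h.f2, h.c1.symm, mem_cent1.1 (h.sylT.le h.a1T), c1.symm, mem_cent1.1 (h.sylT.le zT),
    (e ▸ (c1.mul_right c2).inv_right.mul_right (c2.mul_right c1) : Commute f z).symm,
    (mem_cent1.1 (h.sylT.le h.fT)).symm⟩

end LQ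

open LQ in
/-- Frattini: `Q = P ∩ M`, `M` the group of elements of `N(A)` acting trivially on `H/⟨f⟩`, and an element
`ρ` normalizing `Q` that is inverted by `a₂` in its action on `Q`. -/
theorem CB.locQ (h : CB F O K T C0 t z a1 a2 f) (ty : TyC t z a1 f) (hP : SylIn 2 P 𝒩(AA t z a1 f))
    (hT : TT t a1 a2 f ≤ P) : ∃ (Q : Subgroup G) (ρ : G), Sd t z a1 f ρ ∧ ρ ∈ 𝒩(Q) ∧ P ≤ 𝒩(Q) ∧
      (∀ q, q ∈ Q ↔ q ∈ P ∧ (q * z * q⁻¹ = z ∨ q * z * q⁻¹ = z * f) ∧
        (q * a1 * q⁻¹ = a1 ∨ q * a1 * q⁻¹ = a1 * f)) ∧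
      (∀ p ∈ P, p ∈ Q ∨ p * a2 ∈ Q) ∧
      (∀ n ∈ 𝒩(AA t z a1 f), (n * z * n⁻¹ = z ∨ n * z * n⁻¹ = z * f) →
        (n * a1 * n⁻¹ = a1 ∨ n * a1 * n⁻¹ = a1 * f) → ∃ q ∈ Q, q⁻¹ * n ∈ 𝒞(AA t z a1 f)) ∧
      (∀ q ∈ Q, q * t = t * q → q ∈ AA t z a1 f) ∧
      (∀ q ∈ Q, a2 * ρ * a2 * ρ * q = q * (a2 * ρ * a2 * ρ)) ∧ ∀ q ∈ Q, ρ ^ 3 * q = q * ρ ^ 3 := by
  have E := ea h
  obtain ⟨ρ0, sd⟩ := h.sd1
  have inj : ∀ i k l m i' k' l' m', pw i a1 * pw k z * pw l t * pw m f = pw i' a1 * pw k' z * pw l' t * pw m' f →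
      i = i' ∧ k = k' ∧ l = l' ∧ m = m' := fun i k l m i' k' l' m' e => by
    have := h.toCW.nf_inj (Or.inl h.f2) (i := i) (j := false) (k := k) (l := l) (m := m) (i' := i') (j' := false)
      (k' := k') (l' := l') (m' := m') (by simpa only [show pw false a2 = 1 from rfl, mul_one] using e)
    exact ⟨this.1, this.2.2⟩
  have inj' : ∀ i k m i' k' m', pw i a1 * pw k z * pw m f = pw i' a1 * pw k' z * pw m' f →
      i = i' ∧ k = k' ∧ m = m' := fun i k m i' k' m' e => by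
    have := inj i k false m i' k' false m' (by simpa only [show pw false t = 1 from rfl, mul_one] using e)
    exact ⟨this.1, this.2.1, this.2.2.2⟩
  set A := AA t z a1 f with hA
  obtain ⟨σ, hσ⟩ := exists_sigma (N := 𝒩(A)) E ty.fixf ty.nH inj'
  have zA : z ∈ A := subset_closure (by simp)
  have aA : a1 ∈ A := subset_closure (by simp)
  have tA : t ∈ A := subset_closure (by simp)
  have fA : f ∈ A := subset_closure (by simp)
  have HA : HH z a1 f ≤ A := closure_mono (by intro x; simp; tauto)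
  have AC : A ≤ 𝒞(A) := le_cent_iff.2 fun x hx y hy => E.comm hy hx
  have a1T : a1 ∈ TT t a1 a2 f := subset_closure (by simp)
  have a2T : a2 ∈ TT t a1 a2 f := subset_closure (by simp)
  have AP : A ≤ P := le_trans ((closure_le _).2 (by
    rintro x (rfl | rfl | rfl | rfl)
    · have e : x = (a1 * a2)⁻¹ * (a2 * a1) := by rw [h.r]; group
      exact e ▸ mul_mem (inv_mem (mul_mem a1T a2T)) (mul_mem a2T a1T)
    · exact a1T
    · exact subset_closure (by simp)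
    · exact subset_closure (by simp))) hT
  have a2P : a2 ∈ P := hT a2T
  have a2i : a2⁻¹ = a2 := inv_eq_of_mul_eq_one_right h.s2
  have a2z : a2 * z * a2 = z := by rw [← h.c2, mul_assoc, h.s2, mul_one]
  have a2a : a2 * a1 * a2 = a1 * z := by rw [h.r, mul_assoc, h.c2, ← mul_assoc, mul_assoc a1, h.s2, mul_one]
  have a2t : a2 * t * a2 = t := by rw [mem_cent1.1 (h.sylT.le h.a2T), mul_assoc, h.s2, mul_one]
  have a2f : a2 * f * a2 = f := by rw [← h.fa2, mul_assoc, h.s2, mul_one]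
  let M : Subgroup G := σ.ker.map (𝒩(A)).subtype
  have MN : M ≤ 𝒩(A) := map_subtype_le _
  have nM : 𝒩(A) ≤ 𝒩(M) := norm_map_subtype _
  have memM : ∀ {n}, n ∈ M ↔ n ∈ 𝒩(A) ∧ (n * z * n⁻¹ = z ∨ n * z * n⁻¹ = z * f) ∧
      (n * a1 * n⁻¹ = a1 ∨ n * a1 * n⁻¹ = a1 * f) := by
    intro n
    constructor
    · rintro ⟨n, hn, rfl⟩
      have hn' : σ n = 1 := hn
      exact ⟨n.2, cl0.1 ((hσ n 0 0 z (cl0.2 (.inl rfl))).1 (by rw [hn']; rfl)),
        cl1.1 ((hσ n 1 1 a1 (cl1.2 (.inl rfl))).1 (by rw [hn']; rfl))⟩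
    · rintro ⟨hn, e0, e1⟩
      exact ⟨⟨n, hn⟩, perm1 _ ((hσ _ 0 0 z (cl0.2 (.inl rfl))).2 (cl0.2 e0))
        ((hσ _ 1 1 a1 (cl1.2 (.inl rfl))).2 (cl1.2 e1)), rfl⟩
  have CM : 𝒞(A) ≤ M := fun c hc => by
    obtain ⟨c1, c2, -, -⟩ := mem_cA'.1 hc
    exact memM.2 ⟨cent_le_norm _ hc, .inl c1, .inl c2⟩
  have nC : 𝒩(A) ≤ 𝒩(𝒞(A)) := norm_cent le_rfl
  let Q := P ⊓ M
  have sQ : SylIn 2 Q M := hP.inf_normal MN nM
  have PQ : P ≤ 𝒩(Q) := norm_inf le_normalizer (hP.le.trans nM)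
  have AQ : A ≤ Q := le_inf AP (AC.trans CM)
  have QN : Q ≤ 𝒩(A) := inf_le_right.trans MN
  have QC : ∀ q ∈ Q, q ∈ 𝒞(A) → q ∈ A := fun q hq hc => by
    have := sd.syl.eq_of_le (R := Q ⊓ 𝒞(A)) (sQ.isP.to_le inf_le_left) inf_le_right (le_inf AQ AC)
    exact this.le ⟨hq, hc⟩
  -- `M / C(A)` is a 2-group
  have m4 : ∀ m ∈ M, m ^ 4 ∈ 𝒞(A) := by
    intro m hm
    obtain ⟨hn, e0, e1⟩ := memM.1 hm
    have ef := ty.fixf m hn
    have sq : ∀ x, m * x * m⁻¹ = x ∨ m * x * m⁻¹ = x * f → m * m * x * (m * m)⁻¹ = x := by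
      rintro x (e | e)
      · calc _ = m * (m * x * m⁻¹) * m⁻¹ := by group
          _ = x := by rw [e, e]
      · calc _ = m * (m * x * m⁻¹) * m⁻¹ := by group
          _ = m * (x * f) * m⁻¹ := by rw [e]
          _ = (m * x * m⁻¹) * (m * f * m⁻¹) := by group
          _ = x := by rw [e, ef, mul_assoc, h.f2, mul_one]
    have s0 := sq _ e0
    have s1 := sq _ e1
    have s2 := sq _ (.inl ef)
    have hn2 : m * m ∈ 𝒩(A) := mul_mem hn hn
    rw [show m ^ 4 = (m * m) * (m * m) by simp only [pow_succ, pow_zero]; group]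
    generalize m * m = n at s0 s1 s2 hn2
    have cH : ∀ i (x : G), n * x * n⁻¹ = x → n * pw i x * n⁻¹ = pw i x := fun i x e => by
      cases i
      · simp [pw]
      · exact e
    have sq2 : ∀ x, n * x * n⁻¹ = x → n * n * x * (n * n)⁻¹ = x := fun x e => by
      calc _ = n * (n * x * n⁻¹) * n⁻¹ := by group
        _ = x := by rw [e, e]
    obtain ⟨i, k, l, μ, e⟩ := E.nf (conj_mem_of_norm le_rfl hn2 tA)
    cases l
    · exfalso
      apply ty.noHH n
      have hz : z ∈ HH z a1 f := subset_closure (by simp)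
      have ha : a1 ∈ HH z a1 f := subset_closure (by simp)
      have hf : f ∈ HH z a1 f := subset_closure (by simp)
      rw [e]
      cases i <;> cases k <;> cases μ <;> simp [pw, hz, ha, hf, mul_mem]
    refine mem_cA'.2 ⟨sq2 _ s0, sq2 _ s1, ?_, sq2 _ s2⟩
    calc _ = n * (n * t * n⁻¹) * n⁻¹ := by group
      _ = n * (pw i a1 * pw k z * t * pw μ f) * n⁻¹ := by rw [e]; rfl
      _ = (n * pw i a1 * n⁻¹) * (n * pw k z * n⁻¹) * (n * t * n⁻¹) * (n * pw μ f * n⁻¹) := by group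
      _ = (pw i a1 * pw k z * pw false t * pw false f) * (pw i a1 * pw k z * pw true t * pw μ f) *
          (pw false a1 * pw false z * pw false t * pw μ f) := by
        rw [cH _ _ s0, cH _ _ s1, cH _ _ s2, e]; simp only [pw, cond_false, mul_one, one_mul]
      _ = t := by rw [E.mul, E.mul]; simp [pw]
  have dec : ∀ g ∈ M, ∃ s ∈ Q, ∃ c ∈ 𝒞(A), g = s * c := by
    haveI : ((𝒞(A)).subgroupOf M).Normal := normal_subgroupOf (MN.trans nC)
    have hp : IsPGroup 2 (M ⧸ (𝒞(A)).subgroupOf M) := fun x => by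
      obtain ⟨x, rfl⟩ := QuotientGroup.mk_surjective x
      exact ⟨2, by rw [← QuotientGroup.mk_pow, QuotientGroup.eq_one_iff]; exact m4 x x.2⟩
    obtain ⟨k, hk⟩ := hp.exists_card_eq
    exact fun g hg => sQ.exists_mul_of_relIndex_pow CM (MN.trans nC) (k := k) hk hg
  -- elements of `C(A) ∩ N(Q)`
  have D2 : ∀ d ∈ 𝒞(A), d ∈ 𝒩(Q) → d * d ∈ 𝒞(Q) := fun d hd hn => mem_centralizer_iff.2 fun q hq => by
    have e : q⁻¹ * (d * q * d⁻¹) ∈ A := QC _ (mul_mem (inv_mem hq) (conj_mem_of_norm le_rfl hn hq)) (by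
      have := mul_mem (conj_mem_of_norm' (QN.trans nC) hq hd) (inv_mem hd)
      convert this using 1; group)
    have e2 := E.sq e
    have e3 := mem_centralizer_iff.1 hd _ e
    generalize hx : q⁻¹ * (d * q * d⁻¹) = x at e2 e3
    have e4 : d * q = q * x * d := by rw [← hx]; group
    calc q * (d * d) = q * (x * x) * d * d := by simp only [e2, mul_one, mul_assoc]
      _ = q * x * (x * d) * d := by simp only [mul_assoc]
      _ = q * x * (d * x) * d := by rw [e3]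
      _ = (q * x * d) * x * d := by simp only [mul_assoc]
      _ = d * q * x * d := by rw [← e4]
      _ = d * (q * x * d) := by simp only [mul_assoc]
      _ = d * d * q := by rw [← e4, mul_assoc]
  have Dodd : ∀ d ∈ 𝒞(A), d ∈ 𝒩(Q) → Odd (orderOf d) → d ∈ 𝒞(Q) := fun d hd hn ⟨j, hj⟩ => by
    have : d = (d * d) ^ (j + 1) := by
      rw [← pow_two, ← pow_mul, show 2 * (j + 1) = orderOf d + 1 by omega, pow_succ, pow_orderOf_eq_one, one_mul]
    rw [this]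
    exact pow_mem (D2 d hd hn) _
  have DA : ∀ d ∈ 𝒞(A), d ∈ 𝒩(Q) → ∃ e ∈ A, ∃ c ∈ 𝒞(Q), d = e * c := fun d hd hn => by
    obtain ⟨k, m, ⟨j, rfl⟩, e⟩ := Nat.exists_eq_two_pow_mul_odd (orderOf_pos d).ne'
    have h2 : IsPGroup 2 (zpowers (d ^ (2 * j + 1))) := by
      rw [IsPGroup.iff_card, Nat.card_zpowers]
      have : orderOf (d ^ (2 * j + 1)) ∣ 2 ^ k :=
        orderOf_dvd_of_pow_eq_one (by rw [← pow_mul, mul_comm, ← e, pow_orderOf_eq_one])
      obtain ⟨i, -, hi⟩ := (Nat.dvd_prime_pow Nat.prime_two).1 this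
      exact ⟨i, hi⟩
    have hle : zpowers (d ^ (2 * j + 1)) ≤ 𝒞(A) := zpowers_le.2 (pow_mem hd _)
    have := sd.syl.eq_of_le (sd.syl.isP.to_sup_of_normal_left' h2 (hle.trans (cent_le_norm _))) (sup_le AC hle)
      le_sup_left
    refine ⟨d ^ (2 * j + 1), this.le (mem_sup_right (mem_zpowers _)), ((d * d) ^ j)⁻¹,
      inv_mem (pow_mem (D2 d hd hn) _), ?_⟩
    rw [← pow_two, ← pow_mul, pow_succ', mul_inv_cancel_right]
  -- Frattini
  have r0 : Ra t z a1 f ρ0 := ⟨sd.ρt, sd.ρf, sd.ρz, sd.ρa⟩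
  obtain ⟨n, rn, nQ⟩ : ∃ n, Ra t z a1 f n ∧ n ∈ 𝒩(Q) := by
    obtain ⟨g, hg, e⟩ := sQ.exists_conj (R := cj ρ0 Q) (isPGroup_cj.2 sQ.isP)
      (cj_le_of_mem_norm inf_le_right (nM r0.norm))
    obtain ⟨s, hs, c, hc, rfl⟩ := dec g hg
    refine ⟨c * ρ0, r0.mul' hc, H42.mem_normalizer_of_conj_mem fun x hx => ?_⟩
    have := mul_mem (mul_mem (inv_mem hs) (e _ (conj_mem_cj.2 hx))) hs
    convert this using 1; group
  obtain ⟨ρ, rρ, ρQ, ρo⟩ : ∃ ρ, Ra t z a1 f ρ ∧ ρ ∈ 𝒩(Q) ∧ Odd (orderOf ρ) := by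
    obtain ⟨k, m, hm, e⟩ := Nat.exists_eq_two_pow_mul_odd (orderOf_pos n).ne'
    refine ⟨n ^ 4 ^ k, ?_, pow_mem nQ _, hm.of_dvd_nat (orderOf_dvd_of_pow_eq_one ?_)⟩
    · obtain ⟨j, hj⟩ : ∃ j, 4 ^ k = 1 + 3 * j := ⟨4 ^ k / 3, by
        have : 4 ^ k % 3 = 1 := by simp [Nat.pow_mod]
        omega⟩
      rw [hj, pow_add, pow_one, pow_mul]
      exact rn.mul (pow_mem (rn.cube E) _)
    · rw [← pow_mul, show 4 ^ k * m = 2 ^ k * m * 2 ^ k by rw [show 4 = 2 * 2 from rfl, mul_pow]; ring, ← e, pow_mul,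
        pow_orderOf_eq_one, one_pow]
  have ρ3 : ρ ^ 3 ∈ 𝒞(Q) := Dodd _ (rρ.cube E) (pow_mem ρQ _) (ρo.of_dvd_nat (orderOf_pow_dvd 3))
  have a2Q : a2 ∈ 𝒩(Q) := PQ a2P
  have AN : A ≤ 𝒩(Q) := AQ.trans le_normalizer
  obtain ⟨e, he, c, hc, ec⟩ := DA (a2 * ρ * a2 * ρ) (by
    have : ∀ x, a2 * ρ * a2 * ρ * x * (a2 * ρ * a2 * ρ)⁻¹ = a2 * (ρ * (a2 * (ρ * x * ρ⁻¹) * a2) * ρ⁻¹) * a2 :=
      fun x => by simp only [mul_inv_rev, a2i, mul_assoc]
    have e := rρ.az E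
    have e' : a2 * (a1 * z) * a2 = a1 := by
      calc _ = (a2 * a1 * a2) * (a2 * z * a2) := by
            calc _ = a2 * a1 * (a2 * a2) * z * a2 := by rw [h.s2]; group
              _ = _ := by group
        _ = a1 := by rw [a2a, a2z, mul_assoc, h.z2, mul_one]
    obtain ⟨r1, r2, r3, r4⟩ := rρ
    simp only [hA, mem_cA', this, r1, r2, r3, r4, e, e', a2a, a2z, a2t, a2f, and_self])
    (mul_mem (mul_mem (mul_mem a2Q ρQ) a2Q) ρQ)
  obtain ⟨i, k, l, μ, rfl⟩ := E.nf he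
  have key : a2 * ρ * a2 * ρ ∈ 𝒞(Q) ∨ a2 * (a1 * ρ * a1) * a2 * (a1 * ρ * a1) ∈ 𝒞(Q) := by
    let θ := Q.normalizerMonoidHom
    have R : ∀ {x y : 𝒩(Q)}, (x : G) = y → θ x = θ y := fun e => congrArg θ (Subtype.ext e)
    have hk : ∀ x : 𝒩(Q), θ x = 1 ↔ (x : G) ∈ 𝒞(Q) := fun x => by
      rw [← MonoidHom.mem_ker, normalizerMonoidHom_ker, mem_subgroupOf]
    let z' : 𝒩(Q) := ⟨z, AN zA⟩
    let a' : 𝒩(Q) := ⟨a1, AN aA⟩
    let t' : 𝒩(Q) := ⟨t, AN tA⟩
    let f' : 𝒩(Q) := ⟨f, AN fA⟩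
    let s' : 𝒩(Q) := ⟨a2, a2Q⟩
    let r' : 𝒩(Q) := ⟨ρ, ρQ⟩
    have cm : ∀ {x y : 𝒩(Q)}, Commute (x : G) y → Commute (θ x) (θ y) := fun {x y} e =>
      Commute.map (show x * y = y * x from Subtype.ext e) θ
    have sq : ∀ {x : 𝒩(Q)}, (x : G) * x = 1 → θ x * θ x = 1 := fun {x} e => by
      simpa only [map_mul, map_one] using R (x := x * x) (y := 1) e
    have pθ : ∀ (b : Bool) (x : 𝒩(Q)), θ (pw b x) = pw b (θ x) := fun b x => by
      cases b
      · exact map_one θ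
      · rfl
    have pc : ∀ (b : Bool) (x : 𝒩(Q)), ((pw b x : 𝒩(Q)) : G) = pw b (x : G) := fun b x => by cases b <;> rfl
    have := pure (z := θ z') (a := θ a') (t := θ t') (f := θ f') (r := θ r') (s := θ s')
      ⟨sq E.z2, sq E.a2, sq E.t2, sq E.f2, cm E.az, cm E.at', cm E.af, cm E.zt, cm E.zf, cm E.tf⟩ (sq h.s2)
      (by simpa only [map_mul] using R (x := s' * z' * s') (y := z') a2z)
      (by simpa only [map_mul] using R (x := s' * a' * s') (y := a' * z') a2a)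
      (by simpa only [map_mul, map_inv] using R (x := r' * t' * r'⁻¹) (y := t') rρ.1)
      (by simpa only [map_mul, map_inv] using R (x := r' * f' * r'⁻¹) (y := f') rρ.2.1)
      (by simpa only [map_mul, map_inv] using R (x := r' * z' * r'⁻¹) (y := a') rρ.2.2.1)
      (by simpa only [map_mul, map_inv] using R (x := r' * a' * r'⁻¹) (y := a' * z') rρ.2.2.2)
      (by rw [← map_pow]; exact (hk _).2 ρ3) (i := i) (k := k) (l := l) (m := μ) (by
        have := R (x := s' * r' * s' * r') (y := pw i a' * pw k z' * pw l t' * pw μ f' * ⟨c, cent_le_norm _ hc⟩)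
          (by simpa only [coe_mul, pc] using ec)
        simpa only [map_mul, pθ, (hk ⟨c, cent_le_norm _ hc⟩).2 hc, mul_one] using this)
    simp only [← map_mul, hk] at this
    exact this
  have fin : ∀ ρ, Ra t z a1 f ρ → ρ ∈ 𝒩(Q) → Odd (orderOf ρ) → a2 * ρ * a2 * ρ ∈ 𝒞(Q) →
      ∃ (Q : Subgroup G) (ρ : G), Sd t z a1 f ρ ∧ ρ ∈ 𝒩(Q) ∧ P ≤ 𝒩(Q) ∧
      (∀ q, q ∈ Q ↔ q ∈ P ∧ (q * z * q⁻¹ = z ∨ q * z * q⁻¹ = z * f) ∧
        (q * a1 * q⁻¹ = a1 ∨ q * a1 * q⁻¹ = a1 * f)) ∧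
      (∀ p ∈ P, p ∈ Q ∨ p * a2 ∈ Q) ∧
      (∀ n ∈ 𝒩(A), (n * z * n⁻¹ = z ∨ n * z * n⁻¹ = z * f) →
        (n * a1 * n⁻¹ = a1 ∨ n * a1 * n⁻¹ = a1 * f) → ∃ q ∈ Q, q⁻¹ * n ∈ 𝒞(A)) ∧
      (∀ q ∈ Q, q * t = t * q → q ∈ A) ∧
      (∀ q ∈ Q, a2 * ρ * a2 * ρ * q = q * (a2 * ρ * a2 * ρ)) ∧ ∀ q ∈ Q, ρ ^ 3 * q = q * ρ ^ 3 := by
    intro ρ rρ ρQ ρo hc
    refine ⟨Q, ρ, ⟨⟨ρo, rρ.1, rρ.2.1, rρ.2.2.1, rρ.2.2.2⟩, sd.card, sd.fix, sd.syl⟩, ρQ, PQ,
      fun q => ⟨fun hq => ⟨hq.1, (memM.1 hq.2).2⟩, fun hq => ⟨hq.1, memM.2 ⟨hP.le hq.1, hq.2⟩⟩⟩, fun p hp => ?_,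
      fun n hn e0 e1 => ?_, fun q hq e => QC q hq ?_, fun q hq => (mem_centralizer_iff.1 hc q hq).symm,
      fun q hq => (mem_centralizer_iff.1 (Dodd _ (rρ.cube E) (pow_mem ρQ _)
        (ρo.of_dvd_nat (orderOf_pow_dvd 3))) q hq).symm⟩
    · have two : ∀ p (hp : p ∈ P), σ ⟨p, hP.le hp⟩ ^ 2 = 1 := fun p hp => by
        obtain ⟨k, hk⟩ := hP.isP ⟨p, hp⟩
        refine perm3 (k := k) ?_
        rw [← map_pow, ← map_one σ]
        have hk' : p ^ 2 ^ k = 1 := congrArg Subtype.val hk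
        exact congrArg σ (Subtype.ext hk')
      have := perm2 (σ ⟨p, hP.le hp⟩) (σ ⟨a2, hP.le a2P⟩)
        ((hσ _ 0 0 z (cl0.2 (.inl rfl))).2 (cl0.2 (.inl (by rw [a2i]; exact a2z))))
        ((hσ _ 1 2 a1 (cl1.2 (.inl rfl))).2 (cl2.2 (.inl (by rw [a2i]; exact a2a)))) (two p hp)
        (by rw [← map_mul]; exact two _ (mul_mem hp a2P))
      rcases this with e | e
      · exact .inl ⟨hp, _, e, rfl⟩
      · rw [← map_mul] at e
        exact .inr ⟨mul_mem hp a2P, _, e, rfl⟩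
    · obtain ⟨s, hs, c, hc, rfl⟩ := dec n (memM.2 ⟨hn, e0, e1⟩)
      exact ⟨s, hs, by rwa [inv_mul_cancel_left]⟩
    · obtain ⟨hn, e0, e1⟩ := memM.1 hq.2
      obtain ⟨ef, nE⟩ := sd.fix q (mem_cent1.2 e) hn
      refine mem_cA'.2 ⟨e0.resolve_right fun e0 => ?_, e1.resolve_right fun e1 => ?_,
        mul_inv_eq_iff_eq_mul.2 e, ef⟩
      · obtain ⟨i, k, e⟩ := E.nfE (conj_mem_of_norm le_rfl nE (subset_closure (by simp) : z ∈ closure {z, a1}))
        have := inj' false true true i k false (by simpa [pw] using e0.symm.trans e)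
        simp at this
      · obtain ⟨i, k, e⟩ := E.nfE (conj_mem_of_norm le_rfl nE (subset_closure (by simp) : a1 ∈ closure {z, a1}))
        have := inj' true false true i k false (by simpa [pw] using e1.symm.trans e)
        simp at this
  rcases key with e | e
  · exact fin ρ rρ ρQ ρo e
  · refine fin (a1 * ρ * a1) ((rρ.mul' (AC aA)).mul (AC aA)) (mul_mem (mul_mem (AN aA) ρQ) (AN aA)) ?_ e
    have : orderOf (a1 * ρ * a1⁻¹) = orderOf ρ := (MulAut.conj a1).orderOf_eq ρ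
    rw [inv_eq_of_mul_eq_one_right h.s1] at this
    rwa [this]

end Cfsg.Agent.DIH.V7
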