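/-
Project DIH: generators and relations of a Sylow 2-subgroup of `N(A)`, symplectic types.
-/
import Cfsg.Agent.DA7.Defs
import Cfsg.Agent.DA7.LocY

set_option autoImplicit false

namespace Cfsg.Agent.DIH.V7

open Subgroup H49 LX
open H42 (SylIn)

variable {G : Type*} [Group G] [Finite G] {F O K T C0 P P1 P2 S : Subgroup G}
  {t z a a' a1 a2 f : G}

theorem CB.l2 (h : CB F O K T C0 t z a1 a2 f) (ty : Ty2 t z a1 f) (hP : SylIn 2 P 𝒩(AA t z a1 f))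
    (hT : TT t a1 a2 f ≤ P) : ∃ (ρ u : G) (κ : Bool), L2 P t z a1 a2 f ρ u κ := by
  obtain ⟨Q, ρ, sd, QP, c, hq⟩ := setup h ty.toTyC hP hT
  obtain ⟨u0, hu0⟩ := ty.exu
  obtain ⟨y', hy', ac'⟩ := hq u0 mU (by decide) (by decide) (by decide) (by decide) (by decide) (actU h hu0)
  obtain ⟨u, hu, au, u1, k, u3, u4⟩ : ∃ u ∈ Q, Ac (ev z a1 t f) u mU ∧ MulAut.conj ρ u = u ∧ ∃ k : ZMod 2,
      u * u = ev z a1 t f (0, 0, 0, 0) ∧ MulAut.conj a2 u = u * ev z a1 t f (0, 0, 0, k) := by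
    obtain ⟨u, hu, au, u1, i, k, u3, u4⟩ := c.exU hy' ac'
    rcases (by decide : ∀ i : ZMod 2, i = 0 ∨ i = 1) i with rfl | rfl
    · exact ⟨u, hu, au, u1, k, u3, u4⟩
    · obtain ⟨t1, t2, t3⟩ := c.ut au u1 u3 u4
      exact ⟨_, mul_mem hu (c.mem vt), c.acφ au vt, t1, k, t2, t3⟩
  obtain ⟨g1, g2, g3, g4, g5⟩ := gens h hT
  have m0 : u ∈ closure {z, a1, a2, t, f, u} := subset_closure (by simp)
  obtain ⟨k1, k2⟩ := gen_card (P' := closure {z, a1, a2, t, f, u}) h hP hT c.inj ty.orb {0, (0, 0, 0, 1)} (by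
      rintro y (rfl | rfl)
      exacts [⟨_, by simp, c.zero.symm⟩, ⟨_, by simp, ev_f.symm⟩])
    ((closure_le _).2 (by simp [Set.insert_subset_iff, QP hu, *])) (closure_mono (by simp [Set.insert_subset_iff]))
    fun v hv => by
      simp only [Finset.mem_insert, Finset.mem_singleton] at hv
      rcases hv with rfl | rfl
      exacts [⟨1, one_mem _, _, ac_one, by decide⟩, ⟨_, m0, _, au, by decide⟩]
  exact ⟨ρ, u, _, sd, ty, ce h au u1 u3 u4, k1, hP, k2⟩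

theorem CB.ls_sym (h : CB F O K T C0 t z a1 a2 f) (ty : TyC t z a1 f) {Q : Subgroup G} {ρ y : G}
    (sd : Sd t z a1 f ρ) (c : Cx Q (ev z a1 t f) (MulAut.conj ρ) (MulAut.conj a2)) (hy : y ∈ Q)
    (ac : Ac (ev z a1 t f) y mD) : ∃ d ∈ Q, Ac (ev z a1 t f) d mD ∧ N (MulAut.conj ρ) d = 1 ∧ ∃ δ : Bool,
      Sym t z a1 a2 f ρ (MulAut.conj ρ (MulAut.conj ρ d)) d δ := by
  obtain ⟨d, hd, ac, n, h1, h2, h3, δ, h4⟩ := c.sym hy ac
  refine ⟨d, hd, ac, n, decide (δ = 1), ?_⟩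
  have ab := c.acR (c.acR ac)
  have h5 := congrArg (MulAut.conj ρ) h4
  have r3 := c.R3 d hd
  rw [map_mul, map_mul, c.RA, c.RS hd, show mR (0, 0, δ, 0) = (0, 0, δ, 0) from rfl] at h5
  have bb : MulAut.conj ρ (MulAut.conj ρ d) * MulAut.conj ρ (MulAut.conj ρ d) = 1 := by
    rw [← map_mul, ← map_mul, h1, map_one, map_one]
  rw [h3] at h4
  generalize MulAut.conj ρ (MulAut.conj ρ d) = b at *
  have bi : b⁻¹ = b := inv_eq_of_mul_eq_one_right bb
  have di : d⁻¹ = d := inv_eq_of_mul_eq_one_right h1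
  have s : ∀ g, a2 * ev z a1 t f (0, 0, δ, 0) * g * (a2 * ev z a1 t f (0, 0, δ, 0)) =
      ev z a1 t f (0, 0, δ, 0) * MulAut.conj a2 g * ev z a1 t f (0, 0, δ, 0) := fun g => by
    have := c.SA (0, 0, δ, 0)
    rw [show mS (0, 0, δ, 0) = (0, 0, δ, 0) from rfl, MulAut.conj_apply, mul_inv_eq_iff_eq_mul] at this
    rw [MulAut.conj_apply, inv_eq_of_mul_eq_one_right h.s2, ← mul_assoc, this]
    simp only [mul_assoc]
  exact ⟨sd, ty, bb, h1, h2,
    by simpa only [ev_f] using ab.cm (v := (0, 0, 0, 1)) (by decide),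
    by simpa only [ev_f] using ac.cm (v := (0, 0, 0, 1)) (by decide),
    by simpa only [ev_z] using ab.cm (v := (1, 0, 0, 0)) (by decide),
    by
      have k := ab.cj (v := (0, 1, 0, 0) + (0, 0, 0, 1)) (w := (0, 1, 0, 0)) (by decide)
      rwa [c.add, ev_a, ev_f, bi] at k,
    by simpa only [ev_a] using ac.cm (v := (0, 1, 0, 0)) (by decide),
    by
      have k := ac.cj (v := (1, 0, 0, 0) + (0, 0, 0, 1)) (w := (1, 0, 0, 0)) (by decide)
      rwa [c.add, ev_z, ev_f, di] at k,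
    by
      have k := ab.cj (v := vt + ((1, 0, 0, 0) + (0, 0, 0, 1))) (w := vt) (by decide)
      rwa [c.add, c.add, ev_z, ev_f, ev_t, bi] at k,
    by
      have k := ac.cj (v := vt + ((0, 1, 0, 0) + (0, 0, 0, 1))) (w := vt) (by decide)
      rwa [c.add, c.add, ev_a, ev_f, ev_t, di] at k,
    r3, h3, by rw [← ev_pt (z := z) (a := a1) (f := f), s, h5],
    by rw [← ev_pt (z := z) (a := a1) (f := f), s, h4]⟩

theorem CB.ls_act (h : CB F O K T C0 t z a1 a2 f) {u : G} (hu : Act u t z a1 f (t * (a1 * f)) (z * f) a1) :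
    Act u t z a1 f (ev z a1 t f (mD vt)) (ev z a1 t f (mD (1, 0, 0, 0))) a1 := by
  rwa [show mD vt = vt + ((0, 1, 0, 0) + (0, 0, 0, 1)) by decide,
    show mD (1, 0, 0, 0) = (1, 0, 0, 0) + (0, 0, 0, 1) by decide, ev_add h, ev_add h, ev_add h, ev_t,
    ev_a, ev_z, ev_f]

theorem CB.l5 (h : CB F O K T C0 t z a1 a2 f) (ty : Ty5 t z a1 f) (hP : SylIn 2 P 𝒩(AA t z a1 f))
    (hT : TT t a1 a2 f ≤ P) : ∃ (ρ b d : G) (δ : Bool), L5 P t z a1 a2 f ρ b d δ := by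
  obtain ⟨Q, ρ, sd, QP, c, hq⟩ := setup h ty.toTyC hP hT
  obtain ⟨x0, hx0⟩ := ty.exd
  obtain ⟨y, hy, ac⟩ := hq x0 mD (by decide) (by decide) (by decide) (by decide) (by decide) (h.ls_act hx0)
  obtain ⟨d, hd, ac, -, δ, L⟩ := h.ls_sym ty.toTyC sd c hy ac
  have ab := c.acR (c.acR ac)
  have hb := c.RQ _ (c.RQ _ hd)
  generalize MulAut.conj ρ (MulAut.conj ρ d) = b at L ab hb
  obtain ⟨g1, g2, g3, g4, g5⟩ := gens h hT
  have m1 : d ∈ closure {z, a1, a2, t, f, b, d} := subset_closure (by simp)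
  have m2 : b ∈ closure {z, a1, a2, t, f, b, d} := subset_closure (by simp)
  obtain ⟨k1, k2⟩ := gen_card (P' := closure {z, a1, a2, t, f, b, d}) h hP hT c.inj ty.orb
    {0, (1, 0, 0, 0) + (0, 0, 0, 1), (0, 1, 0, 0) + (0, 0, 0, 1), (0, 1, 0, 0) + (1, 0, 0, 0) + (0, 0, 0, 1)} (by
      rintro y (rfl | rfl | rfl | rfl)
      exacts [⟨_, by simp, c.zero.symm⟩,
        ⟨(1, 0, 0, 0) + (0, 0, 0, 1), by decide, by rw [c.add, ev_z, ev_f]⟩,
        ⟨(0, 1, 0, 0) + (0, 0, 0, 1), by decide, by rw [c.add, ev_a, ev_f]⟩,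
        ⟨(0, 1, 0, 0) + (1, 0, 0, 0) + (0, 0, 0, 1), by decide, by rw [c.add, c.add, ev_a, ev_z, ev_f]⟩])
    ((closure_le _).2 (by simp [Set.insert_subset_iff, QP hd, QP hb, *]))
    (closure_mono (by simp [Set.insert_subset_iff])) fun v hv => by
      simp only [Finset.mem_insert, Finset.mem_singleton] at hv
      rcases hv with rfl | rfl | rfl | rfl
      exacts [⟨1, one_mem _, _, ac_one, by decide⟩, ⟨_, m2, _, ab, by decide⟩,
        ⟨_, m1, _, ac, by decide⟩, ⟨_, mul_mem m2 m1, _, ab.mul ac, by decide⟩]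
  exact ⟨ρ, b, d, δ, L, ty, k1, hP, k2⟩

theorem CB.l7 (h : CB F O K T C0 t z a1 a2 f) (ty : Ty7 t z a1 f) (hP : SylIn 2 P 𝒩(AA t z a1 f))
    (hT : TT t a1 a2 f ≤ P) : ∃ (ρ b d c : G) (δ η κ : Bool), L7 P t z a1 a2 f ρ b d c δ η κ := by
  obtain ⟨Q, ρ, sd, QP, c, hq⟩ := setup h ty.toTyC hP hT
  obtain ⟨x0, hx0⟩ := ty.exd
  obtain ⟨u0, hu0⟩ := ty.exu
  obtain ⟨y, hy, ac⟩ := hq x0 mD (by decide) (by decide) (by decide) (by decide) (by decide) (h.ls_act hx0)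
  obtain ⟨y', hy', ac'⟩ := hq u0 mU (by decide) (by decide) (by decide) (by decide) (by decide) (actU h hu0)
  obtain ⟨d, hd, ac, n, δ, L⟩ := h.ls_sym ty.toTyC sd c hy ac
  obtain ⟨u, hu, au, u1, u2, i, k, u3, u4⟩ := c.symU hd ac n L.dd hy' ac'
  have E := ce h au u1 u3 u4
  have ab := c.acR (c.acR ac)
  have hb := c.RQ _ (c.RQ _ hd)
  have u5 := congrArg (fun g => MulAut.conj ρ (MulAut.conj ρ g)) u2
  simp only [map_mul, u1] at u5
  generalize MulAut.conj ρ (MulAut.conj ρ d) = b at L ab hb u5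
  obtain ⟨g1, g2, g3, g4, g5⟩ := gens h hT
  have m0 : u ∈ closure {z, a1, a2, t, f, b, d, u} := subset_closure (by simp)
  have m1 : d ∈ closure {z, a1, a2, t, f, b, d, u} := subset_closure (by simp)
  have m2 : b ∈ closure {z, a1, a2, t, f, b, d, u} := subset_closure (by simp)
  obtain ⟨k1, k2⟩ := gen_card (P' := closure {z, a1, a2, t, f, b, d, u}) h hP hT c.inj ty.orb _
    (fun y hy => mem_HH h hy) ((closure_le _).2 (by simp [Set.insert_subset_iff, QP hd, QP hb, QP hu, *]))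
    (closure_mono (by simp [Set.insert_subset_iff])) fun v hv => by
      rcases (by decide : ∀ v ∈ Finset.univ.filter fun v : V => v.2.2.1 = 0, v = 0 ∨ v = (1, 0, 0, 1) ∨
        v = (0, 1, 0, 1) ∨ v = (1, 1, 0, 1) ∨ v = (0, 0, 0, 1) ∨ v = (1, 0, 0, 0) ∨ v = (0, 1, 0, 0) ∨
        v = (1, 1, 0, 0)) v hv with rfl | rfl | rfl | rfl | rfl | rfl | rfl | rfl
      exacts [⟨1, one_mem _, _, ac_one, by decide⟩, ⟨_, m2, _, ab, by decide⟩,
        ⟨_, m1, _, ac, by decide⟩, ⟨_, mul_mem m2 m1, _, ab.mul ac, by decide⟩, ⟨_, m0, _, au, by decide⟩,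
        ⟨_, mul_mem m2 m0, _, ab.mul au, by decide⟩, ⟨_, mul_mem m1 m0, _, ac.mul au, by decide⟩,
        ⟨_, mul_mem (mul_mem m2 m1) m0, _, (ab.mul ac).mul au, by decide⟩]
  exact ⟨ρ, b, d, u, δ, _, _, L, E, u5, u2, ty, k1, hP, k2⟩

end Cfsg.Agent.DIH.V7
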