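import Cfsg.Agent.DA7.Defs
import Cfsg.Agent.H81.HallNumB
import Cfsg.Agent.H23.PG
import Cfsg.Agent.H8.OddCore
import Cfsg.Agent.H49.SylowOf
import Cfsg.Agent.H49.Prod

/-! Project DIH: passage to `F⟨t⟩`. -/

set_option autoImplicit false

namespace Cfsg.Agent.DIH.V7

open Subgroup H49
open H42 (SylIn)

variable {G : Type*} [Group G] [Finite G] {F O K T C0 P P1 P2 S : Subgroup G}
  {t z a a' a1 a2 f : G}

omit [Finite G] in
theorem r2_sup {N : Subgroup G} (t2 : t * t = 1) (hn : t ∈ 𝒩(N)) {x : G} (hx : x ∈ N ⊔ zpowers t) :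
    x ∈ N ∨ x * t ∈ N := by
  obtain ⟨y, hy, _, ⟨j, rfl⟩, rfl⟩ := (mem_sup_of_norm_left (zpowers_le.2 hn)).1 hx
  have k2 : t ^ (2 : ℤ) = 1 := by rw [zpow_two, t2]
  rcases Int.even_or_odd' j with ⟨l, rfl | rfl⟩
  · exact .inl (by simpa [zpow_mul, k2] using hy)
  · exact .inr (by simpa [zpow_add, zpow_mul, k2, mul_assoc, t2] using hy)

omit [Finite G] in
theorem r2_two (ho : Odd (Nat.card O)) {c : G} {n : ℕ} (e : c ^ 2 ^ n = 1) (hc : c ∈ O) : c = 1 :=
  orderOf_eq_one_iff.1 (Nat.Coprime.eq_one_of_dvd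
    ((Nat.coprime_two_right.2 (H23.odd_orderOf_of_mem ho hc)).pow_right n) (orderOf_dvd_of_pow_eq_one e))

omit [Finite G] in
theorem r2_two' (t2 : t * t = 1) (ho : Odd (Nat.card O)) {c : G} {n : ℕ} (e : c ^ 2 ^ n = 1) (ct : c * t = t * c)
    (hc : c ∈ O ∨ c * t ∈ O) : c = 1 ∨ c = t :=
  hc.imp (r2_two ho e) fun k => by
    have := r2_two ho (n := n + 1) (by
      rw [(show Commute c t from ct).mul_pow, pow_succ, pow_mul, e, one_pow, pow_mul', sq, t2, one_pow, one_mul]) k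
    rw [eq_inv_of_mul_eq_one_left this, inv_eq_of_mul_eq_one_left t2]

theorem r2_KF (nF : F.Normal) (simp : IsSimpleGroup F) (nab : ¬ IsMulCommutative F) (t2 : t * t = 1)
    (h : HL O K t z a1 a2) : K ⊓ F ⊔ O = K := by
  have : Fact (Nat.Prime 2) := ⟨Nat.prime_two⟩
  refine (h.simpK _ le_sup_right (sup_le inf_le_left h.OK) (norm_sup (norm_inf le_normalizer
    (le_top.trans (normal_iff_top_le_norm.1 nF))) (h.KC.trans h.nO))).resolve_left fun e => nab ?_
  have k : ∀ c ∈ F, c * t = t * c → ∀ n, c ^ 2 ^ n = 1 → c = 1 ∨ c = t := fun c hc ct n e' =>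
    r2_two' t2 h.odd e' ct (h.cenK c (mem_cent1.2 ct) fun k hk => e.le (mem_sup_left ⟨K.mul_mem
      (conj_mem_of_norm h.nK (mem_cent1.2 ct) hk) (K.inv_mem hk), by
        simpa [mul_assoc] using F.mul_mem hc (nF.conj_mem _ (F.inv_mem hc) k)⟩))
  obtain ⟨S, hS, tS⟩ := H42.exists_sylIn (p := 2) (R := zpowers t) (H := ⊤) (IsPGroup.of_card_dvd_pow (n := 1) (by
    rw [Nat.card_zpowers]; exact orderOf_dvd_of_pow_eq_one (by rw [pow_one, sq, t2]))) le_top
  have hP := hS.inf_normal (M := F) le_top (normal_iff_top_le_norm.1 nF)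
  have le : S ⊓ F ≤ zpowers t := by
    by_cases e0 : S ⊓ F = ⊥
    · exact e0 ▸ bot_le
    obtain ⟨⟨x, hx, hx'⟩, x1⟩ := ne_bot_iff_exists_ne_one.1 (inf_center_ne_bot_of_nilpotent hS.isP.isNilpotent
      inf_le_left (norm_inf le_normalizer (le_top.trans (normal_iff_top_le_norm.1 nF))) e0)
    obtain ⟨n, hn⟩ := hS.isP ⟨x, hx.1⟩
    obtain rfl := (k x hx.2 (hx' t (tS (mem_zpowers t))).symm n (congrArg Subtype.val hn)).resolve_left
      fun e => x1 (Subtype.ext e)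
    intro y hy
    obtain ⟨n, hn⟩ := hS.isP ⟨y, hy.1⟩
    rcases k y hy.2 (hx' y hy.1) n (congrArg Subtype.val hn) with rfl | rfl
    exacts [one_mem _, mem_zpowers _]
  have := H81.HallNum.solvable_of_not_four (G := F) fun e => hP.ndvd (by
    rw [← H42.card_mul_relIndex hP.le] at e
    exact Nat.dvd_of_mul_dvd_mul_left two_pos (e.trans (Nat.mul_dvd_mul_right ((card_dvd_of_le le).trans (by
      rw [Nat.card_zpowers]; exact orderOf_dvd_of_pow_eq_one (by rw [sq, t2]))) _)))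
  exact ⟨⟨IsSimpleGroup.comm_iff_isSolvable.2 this⟩⟩

theorem sr_of (h : SectionalPRankLE 2 4 F) : SR F := fun K N hK hN => by
  have := H85.ElemSec.relIndex_le h (K := K.subgroupOf F) (N := N.subgroupOf F)
    ⟨comap_mono hN.le, fun x hx y hy => hN.comm _ hx _ hy, fun x hx => hN.pow _ hx⟩
  rwa [relIndex_subgroupOf hK] at this

theorem red2 (nF : F.Normal) (simp : IsSimpleGroup F) (nab : ¬ IsMulCommutative F) (cF : 𝒞(F) = ⊥)
    (rk : SectionalPRankLE 2 4 F) (ht : orderOf t = 2) (h : HL O K t z a1 a2)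
    (π : K →* alternatingGroup (Fin 7)) (hk : π.ker = O.subgroupOf K)
    (hπ : ∀ s, ∃ a : K, (a : G) ∈ F ∧ (a : G) ∈ 𝒞(O) ∧ π a = s) :
    ∃ (t0 z0 b1 b2 : (F ⊔ zpowers t : Subgroup G)) (O0 K0 T0 : Subgroup (F ⊔ zpowers t : Subgroup G)),
      (t0 : G) = t ∧ B0 (F.subgroupOf (F ⊔ zpowers t)) O0 K0 T0 t0 z0 b1 b2 := by
  have : Fact (Nat.Prime 2) := ⟨Nat.prime_two⟩
  have t2 : t * t = 1 := by rw [← sq, ← ht, pow_orderOf_eq_one]
  have t1 : t ≠ 1 := fun e => by simp [e] at ht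
  have nO : K ≤ 𝒩(O) := h.KC.trans h.nO
  have dec : ∀ k ∈ K, ∃ x ∈ K ⊓ F, ∃ o ∈ O, k = x * o := fun k hk => by
    obtain ⟨x, hx, o, ho, e⟩ := (mem_sup_of_norm_right (inf_le_left.trans nO)).1 ((r2_KF nF simp nab t2 h).ge hk)
    exact ⟨x, hx, o, ho, e⟩
  have inv : ∀ a ∈ K, a * a = 1 → a ∈ F := fun a ha a2 => by
    obtain ⟨x, hx, o, ho, rfl⟩ := dec a ha
    refine mul_mem hx.2 (H8.mem_of_sq_mem_of_odd (H23.odd_orderOf_of_mem h.odd ho) ?_)
    refine (F.mul_mem_cancel_left (F.mul_mem hx.2 (nF.conj_mem _ hx.2 o))).1 ?_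
    rw [show x * (o * x * o⁻¹) * o ^ 2 = x * o * (x * o) by rw [sq]; group, a2]
    exact one_mem _
  have k1 : a1 ∈ K := h.sylD.le (subset_closure (.inl rfl))
  have k2 : a2 ∈ K := h.sylD.le (subset_closure (.inr rfl))
  have f1 := inv a1 k1 h.s1
  have f2 := inv a2 k2 h.s2
  have fz : z ∈ F := (mul_mem_cancel_left (mul_mem f1 f2)).1 (h.r ▸ mul_mem f2 f1)
  have nt : ∀ x : G, x ∈ 𝒩(F) := fun x => normal_iff_top_le_norm.1 nF (mem_top x)
  have oF : ∀ x ∈ F ⊔ zpowers t, x ∈ O → x ∈ F := fun x hx ho =>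
    (r2_sup t2 (nt t) hx).elim id fun k => H8.mem_of_sq_mem_of_odd (H23.odd_orderOf_of_mem h.odd ho) (by
      have := mul_mem k (nF.conj_mem _ k t)
      rwa [mul_assoc t, mul_inv_cancel_right, mul_assoc, ← mul_assoc t, t2, one_mul, ← sq] at this)
  let t0 : (F ⊔ zpowers t : Subgroup G) := ⟨t, mem_sup_right (mem_zpowers t)⟩
  let b1 : (F ⊔ zpowers t : Subgroup G) := ⟨a1, mem_sup_left f1⟩
  let b2 : (F ⊔ zpowers t : Subgroup G) := ⟨a2, mem_sup_left f2⟩
  have mC : ∀ {c : (F ⊔ zpowers t : Subgroup G)}, c ∈ 𝒞[t0] ↔ (c : G) ∈ 𝒞[t] := by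
    simp only [mem_cent1, Subtype.ext_iff, coe_mul, t0, implies_true]
  have dF : closure {a1, a2} ≤ F := (closure_le _).2 (by rintro _ (rfl | rfl) <;> assumption)
  have eD : closure {b1, b2} = (closure {a1, a2}).subgroupOf (F ⊔ zpowers t) := by
    refine map_injective (subtype_injective _) ?_
    rw [MonoidHom.map_closure, subgroupOf_map_subtype, inf_of_le_left (dF.trans le_sup_left), Set.image_pair]
    rfl
  have sD : SylIn 2 (closure {b1, b2}) ((K ⊓ F).subgroupOf (F ⊔ zpowers t)) := by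
    have := h.sylD.of_le (le_inf h.sylD.le dF) inf_le_left
    rw [eD]
    exact ⟨fun x hx => this.le hx, this.isP.comap_subtype, by
      rw [relIndex_subgroupOf (inf_le_right.trans le_sup_left)]; exact this.ndvd⟩
  obtain ⟨T0, hT, hD⟩ := H42.exists_sylIn (H := 𝒞[t0]) sD.isP fun x hx => mC.2 (h.KC (sD.le hx).1)
  have e := subgroupOfEquivOfLe (le_sup_left : F ≤ F ⊔ zpowers t)
  refine ⟨t0, ⟨z, mem_sup_left fz⟩, b1, b2, (O ⊓ F).subgroupOf _, (K ⊓ F).subgroupOf _, T0, rfl,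
    { nF := inferInstance
      simp := e.isSimpleGroup
      nab := fun k => nab ⟨⟨fun a b => e.symm.injective (by rw [map_mul, map_mul, k.1.1])⟩⟩
      gen := fun g => r2_sup t2 (nt t) g.2
      cF := eq_bot_iff.2 fun x hx => mem_bot.2 (Subtype.ext (mem_bot.1 (cF.le fun y hy =>
        congrArg Subtype.val (hx ⟨y, mem_sup_left hy⟩ hy))))
      t2 := Subtype.ext t2
      t1 := fun k => t1 (congrArg Subtype.val k)
      rk := fun K N hK hN => sr_of (H85.sectionalPRankLE_of_injective e.toMonoidHom e.injective rk) K N hK hN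
      z2 := Subtype.ext h.z2
      z1 := fun k => h.z1 (congrArg Subtype.val k)
      s1 := Subtype.ext h.s1
      s2 := Subtype.ext h.s2
      c1 := Subtype.ext h.c1
      c2 := Subtype.ext h.c2
      r := Subtype.ext h.r
      OK := fun x hx => ⟨h.OK hx.1, hx.2⟩
      KC := fun x hx => mC.2 (h.KC hx.1)
      nO := le_norm_iff.2 fun c hc x hx => ⟨conj_mem_of_norm h.nO (mC.1 hc) hx.1, nF.conj_mem _ hx.2 _⟩
      nK := le_norm_iff.2 fun c hc x hx => ⟨conj_mem_of_norm h.nK (mC.1 hc) hx.1, nF.conj_mem _ hx.2 _⟩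
      odd := h.odd.of_dvd_nat ((card_dvd_of_injective (((Subgroup.subtype _).comp (Subgroup.subtype _)).codRestrict O
        fun x => x.2.1) fun x y k => Subtype.ext (Subtype.ext (congrArg (fun w : O => (w : G)) k))))
      simpK := fun N h1 h2 h3 => ?_
      cenK := fun c hc k => ?_
      sylD := sD
      sylT := hT
      a1T := hD (subset_closure (.inl rfl))
      a2T := hD (subset_closure (.inr rfl))
      KF := fun x hx => hx.2
      tK := fun k => ?_
      a7 := ⟨π.comp (((Subgroup.subtype _).comp (Subgroup.subtype _)).codRestrict K fun x => x.2.1),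
        ?_, fun l => ?_⟩ }⟩
  · have n1 : K ⊓ F ≤ 𝒩(N.map (Subgroup.subtype _)) := le_norm_iff.2 (by
      rintro c hc _ ⟨x, hx, rfl⟩
      exact ⟨_, conj_mem_of_norm h3 (a := ⟨c, mem_sup_left hc.2⟩) hc hx, rfl⟩)
    have l1 : N.map (Subgroup.subtype _) ≤ K := by rintro _ ⟨x, hx, rfl⟩; exact (h2 hx).1
    refine (h.simpK (N.map (Subgroup.subtype _) ⊔ O) le_sup_right (sup_le l1 h.OK)
      ((r2_KF nF simp nab t2 h).ge.trans (sup_le (norm_sup n1 (inf_le_left.trans nO))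
        (norm_of_le le_sup_right)))).imp (fun e => le_antisymm (fun x hx =>
          ⟨e.le (mem_sup_left ⟨x, hx, rfl⟩), (h2 hx).2⟩) h1) fun e => le_antisymm h2 fun x hx => ?_
    obtain ⟨_, ⟨y, hy, rfl⟩, o, ho, e'⟩ := (mem_sup_of_norm_right (l1.trans nO)).1 (e.ge hx.1)
    have : ((y⁻¹ * x : (F ⊔ zpowers t : Subgroup G)) : G) = o := by
      rw [coe_mul, show (x : G) = y * o from e', coe_inv]; simp
    exact (mul_mem_cancel_left (inv_mem hy)).1 (h1 ⟨show ((y⁻¹ * x : (F ⊔ zpowers t : Subgroup G)) : G) ∈ O from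
      this ▸ ho, F.mul_mem (F.inv_mem (h2 hy).2) hx.2⟩)
  · refine (h.cenK c (mC.1 hc) fun y hy => ?_).imp (fun k => ⟨k, oF _ c.2 k⟩) fun k => ⟨k, oF _ (c * t0).2 k⟩
    obtain ⟨x, hx, o, ho, rfl⟩ := dec y hy
    have := mul_mem (k ⟨x, mem_sup_left hx.2⟩ hx).1 (conj_mem_of_norm nO hx.1
      (mul_mem (conj_mem_of_norm h.nO (mC.1 hc) ho) (inv_mem ho)))
    simpa [mul_assoc] using this
  · rcases h.simpK (O ⊔ zpowers t) le_sup_left (sup_le h.OK (zpowers_le.2 k.1)) (norm_sup nO (norm_of_cent (by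
      rw [cent_zpowers]; exact h.KC))) with e | e
    · exact t1 (r2_two h.odd (n := 1) (by rw [pow_one, sq, t2]) (e.le (mem_sup_right (mem_zpowers t))))
    · have k3 : ∀ a ∈ K, a * a = 1 → a = 1 ∨ a = t := fun a ha a2 => r2_two' t2 h.odd (n := 1)
        (by rw [pow_one, sq, a2]) (mem_cent1.1 (h.KC ha)) (r2_sup t2 (h.nO (self_mem_cent1 t)) (e.ge ha))
      have r := h.r
      refine h.z1 ?_
      rcases k3 a1 k1 h.s1 with rfl | rfl <;> rcases k3 a2 k2 h.s2 with rfl | rfl <;> simpa [eq_comm] using r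
  · ext x
    rw [← MonoidHom.comap_ker, hk]
    exact ⟨fun k => ⟨k, x.2.2⟩, fun k => k.1⟩
  · obtain ⟨y, y1, y2, rfl⟩ := hπ l
    exact ⟨⟨⟨y, mem_sup_left y1⟩, y.2, y1⟩, fun o ho => Subtype.ext (y2 o ho.1), rfl⟩

end Cfsg.Agent.DIH.V7
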